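import Groth.Agent.EGA43.Cons.Pointwise
import Groth.Agent.FlatCrit.SupportBC
import Mathlib.AlgebraicGeometry.Morphisms.FormallyUnramified
import Mathlib.RingTheory.Unramified.Locus
import Mathlib.RingTheory.Kaehler.TensorProduct

/-!
# The unramified locus commutes with base change; constructibility of fibrewise unramifiedness
-/

universe u

set_option autoImplicit false
set_option backward.isDefEq.respectTransparency false

open CategoryTheory Limits AlgebraicGeometry

namespace Groth.Agent.EGA43.Cons

/-- The unramified locus of a ring map commutes with base change. -/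
theorem unramifiedLocus_pushout {A A' B B' : Type u} [CommRing A] [CommRing A'] [CommRing B]
    [CommRing B'] [Algebra A A'] [Algebra A B] [Algebra A' B'] [Algebra B B'] [Algebra A B']
    [IsScalarTower A A' B'] [IsScalarTower A B B'] [Algebra.IsPushout A A' B B']
    [Algebra.EssFiniteType A B] :
    Algebra.unramifiedLocus A' B' =
      PrimeSpectrum.comap (algebraMap B B') ⁻¹' Algebra.unramifiedLocus A B := by
  rw [Algebra.unramifiedLocus_eq_compl_support, Algebra.unramifiedLocus_eq_compl_support,
    ← (KaehlerDifferential.tensorKaehlerEquiv A A' B B').support_eq, Set.preimage_compl]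
  exact congrArg compl (Set.ext fun x => FlatCrit.mem_support_baseChange_iff _ x)

/-- The points near which a morphism is formally unramified. -/
def unramLocus {X Y : Scheme.{u}} (f : X ⟶ Y) : Set X :=
  {x | ∃ U : X.Opens, x ∈ U ∧ FormallyUnramified (U.ι ≫ f)}

theorem isOpen_unramLocus {X Y : Scheme.{u}} (f : X ⟶ Y) : IsOpen (unramLocus f) :=
  isOpen_iff_forall_mem_open.2 fun _ ⟨U, hx, hU⟩ => ⟨U, fun _ hy => ⟨U, hy, hU⟩, U.2, hx⟩

theorem unramLocus_comp {X Y Z : Scheme.{u}} (j : X ⟶ Y) (g : Y ⟶ Z) [IsOpenImmersion j] :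
    unramLocus (j ≫ g) = j ⁻¹' unramLocus g := by
  ext x
  constructor
  · rintro ⟨U, hx, hU⟩
    refine ⟨j ''ᵁ U, ⟨x, hx, rfl⟩, ?_⟩
    rw [← (j.isoImage U).inv_hom_id_assoc (j ''ᵁ U).ι, Category.assoc, Category.assoc,
      ← Category.assoc (j.isoImage U).hom, Scheme.Hom.isoImage_hom_ι, Category.assoc]
    exact (MorphismProperty.cancel_left_of_respectsIso @FormallyUnramified.{u} _ _).2 hU
  · rintro ⟨U, hx, hU⟩
    refine ⟨j ⁻¹ᵁ U, hx, ?_⟩
    rw [← morphismRestrict_ι_assoc]
    exact MorphismProperty.comp_mem _ (j ∣_ U) (U.ι ≫ g) inferInstance hU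

theorem unramLocus_Spec_map {A B : CommRingCat.{u}} (φ : A ⟶ B) (hφ : φ.hom.FiniteType)
    (p : Spec B) :
    p ∈ unramLocus (Spec.map φ) ↔
      (letI := φ.hom.toAlgebra
       (show PrimeSpectrum B from p) ∈ Algebra.unramifiedLocus A B) := by
  algebraize [φ.hom]
  have key : ∀ t : B, Algebra.FormallyUnramified A (Localization.Away t) ↔
      FormallyUnramified (Spec.map (CommRingCat.ofHom (algebraMap B (Localization.Away t))) ≫
        Spec.map φ) := by
    intro t
    rw [← Spec.map_comp, HasRingHomProperty.Spec_iff (P := @FormallyUnramified.{u}),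
      ← RingHom.formallyUnramified_algebraMap, IsScalarTower.algebraMap_eq A B]
    rfl
  constructor
  · rintro ⟨U, hp, hU⟩
    obtain ⟨_, ⟨_, ⟨t, rfl⟩, rfl⟩, hpt, htU⟩ :=
      PrimeSpectrum.isBasis_basic_opens.exists_subset_of_mem_open hp U.2
    refine Algebra.basicOpen_subset_unramifiedLocus_iff.2 ((key t).2 ?_) hpt
    let j := Spec.map (CommRingCat.ofHom (algebraMap B (Localization.Away t)))
    have : IsOpenImmersion j := .of_isLocalization t
    have hj : Set.range j ⊆ Set.range U.ι := by
      rw [Scheme.Opens.range_ι]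
      exact (PrimeSpectrum.localization_away_comap_range (Localization.Away t) t).le.trans htU
    show FormallyUnramified (j ≫ Spec.map φ)
    rw [← IsOpenImmersion.lift_fac U.ι j hj, Category.assoc]
    exact MorphismProperty.comp_mem _ (IsOpenImmersion.lift U.ι j hj) (U.ι ≫ Spec.map φ)
      inferInstance hU
  · intro hp
    obtain ⟨_, ⟨_, ⟨t, rfl⟩, rfl⟩, hpt, htU⟩ :=
      PrimeSpectrum.isBasis_basic_opens.exists_subset_of_mem_open hp Algebra.isOpen_unramifiedLocus
    let j := Spec.map (CommRingCat.ofHom (algebraMap B (Localization.Away t)))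
    have : IsOpenImmersion j := .of_isLocalization t
    obtain ⟨q, hq⟩ : p ∈ Set.range j :=
      (PrimeSpectrum.localization_away_comap_range (Localization.Away t) t).ge hpt
    have h : q ∈ unramLocus (j ≫ Spec.map φ) := by
      refine ⟨⊤, trivial, MorphismProperty.comp_mem _ _ _ inferInstance ?_⟩
      exact (key t).1 (Algebra.basicOpen_subset_unramifiedLocus_iff.1 htU)
    rw [unramLocus_comp, Set.mem_preimage, hq] at h
    exact h

theorem unramLocus_mono_comp {A B C : Scheme.{u}} (a : A ⟶ B) (b : B ⟶ C) [IsOpenImmersion b] :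
    unramLocus (a ≫ b) = unramLocus a := by
  ext x
  refine exists_congr fun U => and_congr_right fun _ => ⟨fun h => ?_, fun h => ?_⟩
  · have : FormallyUnramified ((U.ι ≫ a) ≫ b) := by rwa [Category.assoc]
    exact FormallyUnramified.of_comp (U.ι ≫ a) b
  · rw [← Category.assoc]
    exact MorphismProperty.comp_mem _ (U.ι ≫ a) b h inferInstance

theorem unramLocus_affine {X Y : Scheme.{u}} [IsAffine X] [IsAffine Y] (f : X ⟶ Y)
    [LocallyOfFiniteType f] (x : X) :
    x ∈ unramLocus f ↔
      (letI := f.appTop.hom.toAlgebra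
       (show PrimeSpectrum Γ(X, ⊤) from X.isoSpec.hom x) ∈
         Algebra.unramifiedLocus Γ(Y, ⊤) Γ(X, ⊤)) := by
  have hft : f.appTop.hom.FiniteType :=
    (HasRingHomProperty.iff_of_isAffine (P := @LocallyOfFiniteType.{u})).1 inferInstance
  rw [← unramLocus_Spec_map f.appTop hft, ← Set.mem_preimage, ← unramLocus_comp,
    Scheme.isoSpec_hom_naturality, unramLocus_mono_comp]

/-- The unramified locus is compatible with base change. -/
theorem unramLocus_isPullback {P X Y Z : Scheme.{u}} {fst : P ⟶ X} {snd : P ⟶ Y} {f : X ⟶ Z}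
    {g : Y ⟶ Z} (h : IsPullback fst snd f g) [LocallyOfFiniteType f] :
    unramLocus snd = fst ⁻¹' unramLocus f := by
  refine Set.Subset.antisymm (fun z hz => ?_) ?_
  · obtain ⟨U, hU, hzU, -⟩ :=
      exists_isAffineOpen_mem_and_subset (x := f (fst z)) (U := ⊤) trivial
    obtain ⟨W, hW, hzW, hWU⟩ := exists_isAffineOpen_mem_and_subset (U := f ⁻¹ᵁ U) hzU
    have hzU' : snd z ∈ g ⁻¹ᵁ U := by
      show (snd ≫ g) z ∈ U
      rw [← h.w]
      exact hzU
    obtain ⟨V, hV, hzV, hVU⟩ := exists_isAffineOpen_mem_and_subset hzU'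
    have : IsAffine U.toScheme := hU
    have : IsAffine W.toScheme := hW
    have : IsAffine V.toScheme := hV
    let a := f.resLE U W hWU
    let b := g.resLE U V hVU
    let m := pullback.map a b f g W.ι V.ι U.ι (Scheme.Hom.resLE_comp_ι f hWU)
      (Scheme.Hom.resLE_comp_ι g hVU)
    let e := m ≫ h.isoPullback.inv
    obtain ⟨z', hz'⟩ : ∃ z', e z' = z := by
      have : h.isoPullback.hom z ∈ Set.range m := by
        rw [Scheme.Pullback.range_map]
        refine ⟨?_, ?_⟩
        · rw [Set.mem_preimage, ← Scheme.Hom.comp_apply, h.isoPullback_hom_fst, Scheme.Opens.range_ι]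
          exact hzW
        · rw [Set.mem_preimage, ← Scheme.Hom.comp_apply, h.isoPullback_hom_snd, Scheme.Opens.range_ι]
          exact hzV
      obtain ⟨z', hz'⟩ := this
      refine ⟨z', ?_⟩
      show h.isoPullback.inv (m z') = z
      rw [hz', ← Scheme.Hom.comp_apply, Iso.hom_inv_id]
      rfl
    have : LocallyOfFiniteType a := by
      have : LocallyOfFiniteType (a ≫ U.ι) := by
        rw [Scheme.Hom.resLE_comp_ι]
        infer_instance
      exact locallyOfFiniteType_of_comp a U.ι
    have esnd : e ≫ snd = pullback.snd a b ≫ V.ι := by simp [e, m]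
    have efst : e ≫ fst = pullback.fst a b ≫ W.ι := by simp [e, m]
    have h₁ : z' ∈ unramLocus (pullback.snd a b) := by
      rw [← unramLocus_mono_comp (pullback.snd a b) V.ι, ← esnd, unramLocus_comp]
      show e z' ∈ unramLocus snd
      rwa [hz']
    have : IsAffine (pullback a b) := .of_isPullback (IsPullback.of_hasPullback a b)
    rw [unramLocus_affine] at h₁
    algebraize [a.appTop.hom, b.appTop.hom, (pullback.fst a b).appTop.hom,
      (pullback.snd a b).appTop.hom, (pullback.snd a b).appTop.hom.comp b.appTop.hom]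
    have hp := isPushout_appTop_of_isPullback (IsPullback.of_hasPullback a b)
    have : IsScalarTower Γ(U.toScheme, ⊤) Γ(W.toScheme, ⊤) Γ(pullback a b, ⊤) :=
      IsScalarTower.of_algebraMap_eq' (congrArg CommRingCat.Hom.hom hp.w).symm
    have : Algebra.IsPushout Γ(U.toScheme, ⊤) Γ(V.toScheme, ⊤) Γ(W.toScheme, ⊤)
        Γ(pullback a b, ⊤) := CommRingCat.isPushout_iff_isPushout.1 hp.flip
    have : Algebra.FiniteType Γ(U.toScheme, ⊤) Γ(W.toScheme, ⊤) :=
      (HasRingHomProperty.iff_of_isAffine (P := @LocallyOfFiniteType.{u})).1 ‹LocallyOfFiniteType a›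
    rw [unramifiedLocus_pushout (A := Γ(U.toScheme, ⊤)) (B := Γ(W.toScheme, ⊤))] at h₁
    have h₂ : pullback.fst a b z' ∈ unramLocus a := by
      rw [unramLocus_affine, ← Scheme.Hom.comp_apply, ← Scheme.isoSpec_hom_naturality]
      exact h₁
    have h₃ : W.ι (pullback.fst a b z') ∈ unramLocus f := by
      show pullback.fst a b z' ∈ W.ι ⁻¹' unramLocus f
      rw [← unramLocus_comp, ← Scheme.Hom.resLE_comp_ι f hWU,
        unramLocus_mono_comp]
      exact h₂
    rw [← Scheme.Hom.comp_apply, ← efst, Scheme.Hom.comp_apply, hz'] at h₃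
    exact h₃
  · rintro z ⟨U, hz, hU⟩
    refine ⟨fst ⁻¹ᵁ U, hz, ?_⟩
    exact MorphismProperty.of_isPullback ((isPullback_morphismRestrict fst U).paste_vert h) hU

/-- The unramified locus of a morphism locally of finite presentation is locally constructible. -/
theorem isLocallyConstructible_unramLocus {X Y : Scheme.{u}} (f : X ⟶ Y)
    [LocallyOfFinitePresentation f] : Topology.IsLocallyConstructible (unramLocus f) :=
  isLocallyConstructible_locus (fun {X Y} f => unramLocus f)
    (fun f _ => isOpen_unramLocus f) (fun h => unramLocus_isPullback h)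
    (fun j g _ _ => unramLocus_comp j g) f

theorem formallyUnramified_iff_unramLocus {X Y : Scheme.{u}} (f : X ⟶ Y) :
    FormallyUnramified f ↔ ∀ x, x ∈ unramLocus f := by
  refine ⟨fun h x => ⟨⊤, trivial, MorphismProperty.comp_mem _ _ _ inferInstance h⟩, fun h => ?_⟩
  choose U hx hU using h
  exact IsZariskiLocalAtSource.of_iSup_eq_top U
    (top_le_iff.1 fun x _ => TopologicalSpace.Opens.mem_iSup.2 ⟨x, hx x⟩) hU

/-- A morphism locally of finite type is a monomorphism iff it is radicial and unramified. -/
theorem mono_iff {X Y : Scheme.{u}} (f : X ⟶ Y) [LocallyOfFiniteType f] :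
    Mono f ↔ UniversallyInjective f ∧ FormallyUnramified f := by
  constructor
  · intro h
    refine ⟨(UniversallyInjective.iff_diagonal f).2 inferInstance, inferInstance⟩
  · rintro ⟨h₁, h₂⟩
    have : Surjective (pullback.diagonal f) := (UniversallyInjective.iff_diagonal f).1 h₁
    refine (pullback.isIso_diagonal_iff f).1 ?_
    exact isIso_of_isOpenImmersion_of_opensRange_eq_top _
      (top_le_iff.1 fun y _ => (pullback.diagonal f).surjective y)

/-- The set of `s` over which a morphism of finitely presented `S`-schemes is a monomorphism. -/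
theorem isLocallyConstructible_setOf_mono {X Y S : Scheme.{u}} (f : X ⟶ Y) (g : Y ⟶ S)
    [LocallyOfFinitePresentation f] [QuasiCompact f] [QuasiSeparated f]
    [LocallyOfFinitePresentation g] [QuasiCompact g]
    [LocallyOfFinitePresentation (f ≫ g)] [QuasiCompact (f ≫ g)] :
    Topology.IsLocallyConstructible
      {s : S | Mono (pullback.snd f (pullback.fst g (S.fromSpecResidueField s)))} := by
  have h₁ := isLocallyConstructible_setOf_universallyInjective f g
  have h₂ : Topology.IsLocallyConstructible
      {s : S | FormallyUnramified (pullback.snd f (pullback.fst g (S.fromSpecResidueField s)))} :=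
    isLocallyConstructible_setOf_forall f g (isLocallyConstructible_unramLocus f) fun s => by
      rw [formallyUnramified_iff_unramLocus]
      exact forall_congr' fun z => Set.ext_iff.1 (unramLocus_isPullback
        (IsPullback.of_hasPullback f (pullback.fst g (S.fromSpecResidueField s)))) z
  convert h₁.inter h₂ using 1
  ext s
  exact mono_iff _

end Groth.Agent.EGA43.Cons
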