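import Groth.Agent.EGA43.Cons.FibFlatScheme
import Groth.Agent.EGA43.Cons.Unramified
import Groth.Agent.Props12.Stalks
import Mathlib.AlgebraicGeometry.Morphisms.FlatMono

/-!
# Constructibility of the fibres where a morphism is flat / an open immersion / an isomorphism
-/

set_option autoImplicit false
set_option backward.isDefEq.respectTransparency false

universe u

open CategoryTheory Limits AlgebraicGeometry Topology TopologicalSpace

namespace Groth.Agent.EGA43.Cons

/-- Flatness of the map induced on quotients. -/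
theorem flat_iff_of_surjective {R T R' T' : Type u} [CommRing R] [CommRing T] [CommRing R']
    [CommRing T'] [Algebra R T] (πR : R →+* R') (πT : T →+* T') (hR : Function.Surjective πR)
    (hT : Function.Surjective πT) (φ' : R' →+* T') (hsq : φ'.comp πR = πT.comp (algebraMap R T))
    (I : Ideal R) (hI : RingHom.ker πR = I) (hIT : RingHom.ker πT = I.map (algebraMap R T)) :
    φ'.Flat ↔ Module.Flat (R ⧸ I) (T ⧸ (I • ⊤ : Submodule R T)) := by
  let eR : (R ⧸ I) ≃+* R' :=
    (Ideal.quotEquivOfEq hI.symm).trans (RingHom.quotientKerEquivOfSurjective hR)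
  let eT : (T ⧸ I.map (algebraMap R T)) ≃+* T' :=
    (Ideal.quotEquivOfEq hIT.symm).trans (RingHom.quotientKerEquivOfSurjective hT)
  let _ : Algebra (R ⧸ I) (T ⧸ I.map (algebraMap R T)) :=
    (Ideal.quotientMap (I.map (algebraMap R T)) (algebraMap R T) Ideal.le_comap_map).toAlgebra
  have : IsScalarTower R (R ⧸ I) (T ⧸ I.map (algebraMap R T)) := .of_algebraMap_eq fun _ => rfl
  have hφ : φ' = (eT.toRingHom.comp (algebraMap (R ⧸ I) (T ⧸ I.map (algebraMap R T)))).comp
      eR.symm.toRingHom := by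
    refine RingHom.ext fun r => ?_
    obtain ⟨r, rfl⟩ := hR r
    have h1 : eR.symm (πR r) = Ideal.Quotient.mk I r := eR.injective (by
      rw [RingEquiv.apply_symm_apply]; rfl)
    show φ' (πR r) = eT (algebraMap (R ⧸ I) _ (eR.symm (πR r)))
    rw [h1]
    exact RingHom.congr_fun hsq r
  let ψ := algebraMap (R ⧸ I) (T ⧸ I.map (algebraMap R T))
  have h0 : φ'.Flat ↔ ψ.Flat := by
    constructor
    · intro h
      have he : ψ = (eT.symm.toRingHom.comp φ').comp eR.toRingHom := by
        rw [hφ]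
        exact RingHom.ext fun r => by simp [ψ]
      rw [he]
      exact (RingHom.Flat.of_bijective (f := eR.toRingHom) eR.bijective).comp
        (h.comp (RingHom.Flat.of_bijective (f := eT.symm.toRingHom) eT.symm.bijective))
    · intro h
      rw [hφ]
      exact (RingHom.Flat.of_bijective (f := eR.symm.toRingHom) eR.symm.bijective).comp
        (h.comp (RingHom.Flat.of_bijective (f := eT.toRingHom) eT.bijective))
  rw [h0, RingHom.flat_algebraMap_iff]
  let e₀ : (T ⧸ (I • ⊤ : Submodule R T)) ≃ₗ[R] T ⧸ I.map (algebraMap R T) :=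
    (Submodule.quotEquivOfEq _ _ (Ideal.smul_top_eq_map I)).trans
      (Submodule.Quotient.restrictScalarsEquiv R _)
  exact (Module.Flat.equiv_iff (e₀.extendScalarsOfSurjective Ideal.Quotient.mk_surjective)).symm

/-- `X` is flat over `Y` on the fibre at `x`. -/
def IsFibFlatMorAt {X Y S : Scheme.{u}} (f : X ⟶ Y) (h : Y ⟶ S) (x : X) : Prop :=
  letI := (f.stalkMap x).hom.toAlgebra
  Module.Flat (↑(Y.presheaf.stalk (f x)) ⧸ Ideal.map (h.stalkMap (f x)).hom (IsLocalRing.maximalIdeal ↑(S.presheaf.stalk (h (f x)))))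
    (↑(X.presheaf.stalk x) ⧸ (Ideal.map (h.stalkMap (f x)).hom (IsLocalRing.maximalIdeal ↑(S.presheaf.stalk (h (f x)))) •
      (⊤ : Submodule ↑(Y.presheaf.stalk (f x)) ↑(X.presheaf.stalk x))))

variable {X Y S : Scheme.{u}}

theorem isFibFlatMorAt_iff (f : X ⟶ Y) (h : Y ⟶ S) {W : S.Opens}
    (hW : IsAffineOpen W) {V : Y.Opens} (hV : IsAffineOpen V) (eV : V ≤ h ⁻¹ᵁ W) {U : X.Opens}
    (hU : IsAffineOpen U) (eU : U ≤ f ⁻¹ᵁ V) {x : X} (hx : x ∈ U) :
    letI := (h.appLE W V eV).hom.toAlgebra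
    letI := (f.appLE V U eU).hom.toAlgebra
    letI := ((f.appLE V U eU).hom.comp (h.appLE W V eV).hom).toAlgebra
    haveI : IsScalarTower Γ(S, W) Γ(Y, V) Γ(X, U) := .of_algebraMap_eq' rfl
    IsFibFlatMorAt f h x ↔
      FibFlat Γ(S, W) Γ(Y, V) Γ(X, U) Γ(X, U) (hU.primeIdealOf ⟨x, hx⟩) := by
  let _ := (h.appLE W V eV).hom.toAlgebra
  let _ := (f.appLE V U eU).hom.toAlgebra
  let _ := ((f.appLE V U eU).hom.comp (h.appLE W V eV).hom).toAlgebra
  have : IsScalarTower Γ(S, W) Γ(Y, V) Γ(X, U) := .of_algebraMap_eq' rfl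
  let := (f.stalkMap x).hom.toAlgebra
  let := (X.presheaf.germ U x hx).hom.toAlgebra
  let := (Y.presheaf.germ V (f x) (eU hx)).hom.toAlgebra
  let := ((f.stalkMap x).hom.comp
    ((Y.presheaf.germ V (f x) (eU hx)).hom : Γ(Y, V) →+* Y.presheaf.stalk (f x))).toAlgebra
  have : IsScalarTower Γ(Y, V) (Y.presheaf.stalk (f x)) (X.presheaf.stalk x) :=
    .of_algebraMap_eq' rfl
  have hgerm : (X.presheaf.germ U x hx).hom.comp (f.appLE V U eU).hom =
      (f.stalkMap x).hom.comp (Y.presheaf.germ V (f x) (eU hx)).hom := by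
    rw [← CommRingCat.hom_comp, ← CommRingCat.hom_comp]
    congr 1
    rw [Scheme.Hom.appLE, Category.assoc, TopCat.Presheaf.germ_res, Scheme.Hom.germ_stalkMap]
  have : IsScalarTower Γ(Y, V) Γ(X, U) (X.presheaf.stalk x) := .of_algebraMap_eq' hgerm.symm
  have hlocX : IsLocalization.AtPrime (X.presheaf.stalk x) (hU.primeIdealOf ⟨x, hx⟩).asIdeal :=
    hU.isLocalization_stalk ⟨x, hx⟩
  have : IsLocalizedModule (hU.primeIdealOf ⟨x, hx⟩).asIdeal.primeCompl
      (Algebra.linearMap Γ(X, U) (X.presheaf.stalk x)) :=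
    (isLocalizedModule_iff_isLocalization' _ _).2 hlocX
  have hloc : IsLocalization.AtPrime (Y.presheaf.stalk (f x))
      (hV.primeIdealOf ⟨f x, eU hx⟩).asIdeal := hV.isLocalization_stalk ⟨f x, eU hx⟩
  have hq : PrimeSpectrum.comap (f.appLE V U eU).hom (hU.primeIdealOf ⟨x, hx⟩) =
      hV.primeIdealOf ⟨f x, eU hx⟩ := hV.fromSpec.isOpenEmbedding.injective (by
    rw [← fromSpec_comp_eq hV hU eU, hU.fromSpec_primeIdealOf, hV.fromSpec_primeIdealOf])
  have hI := map_maximalIdeal_eq h hW hV eV (eU hx)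
  rw [← hq] at hI
  exact flat_quotient_iff_fibFlat (hU.primeIdealOf ⟨x, hx⟩)
    (hV.primeIdealOf ⟨f x, eU hx⟩).asIdeal.primeCompl
    (Algebra.linearMap Γ(X, U) (X.presheaf.stalk x)) _ hI

theorem isLocallyConstructible_setOf_isFibFlatMorAt (f : X ⟶ Y) (h : Y ⟶ S)
    [LocallyOfFinitePresentation (f ≫ h)] [LocallyOfFinitePresentation h] :
    IsLocallyConstructible {x : X | IsFibFlatMorAt f h x} := by
  refine isLocallyConstructible_of_forall_fromSpec fun x => ?_
  obtain ⟨W, hW, hsW, -⟩ := exists_isAffineOpen_mem_and_subset (x := h (f x)) (U := ⊤) trivial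
  obtain ⟨V, hV, hyV, eV⟩ := exists_isAffineOpen_mem_and_subset (x := f x) (U := h ⁻¹ᵁ W) hsW
  obtain ⟨U, hU, hxU, eU⟩ := exists_isAffineOpen_mem_and_subset (x := x) (U := f ⁻¹ᵁ V) hyV
  refine ⟨U, hU, hxU, ?_⟩
  let _ := (h.appLE W V eV).hom.toAlgebra
  let _ := (f.appLE V U eU).hom.toAlgebra
  let _ := ((f.appLE V U eU).hom.comp (h.appLE W V eV).hom).toAlgebra
  have : IsScalarTower Γ(S, W) Γ(Y, V) Γ(X, U) := .of_algebraMap_eq' rfl
  have hA : Algebra.FinitePresentation Γ(S, W) Γ(Y, V) := h.finitePresentation_appLE hW hV eV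
  have hAC : Algebra.FinitePresentation Γ(S, W) Γ(X, U) := by
    have := (f ≫ h).finitePresentation_appLE hW hU (eU.trans (f.preimage_mono eV))
    rwa [← Scheme.Hom.appLE_comp_appLE f h W V U eV eU, CommRingCat.hom_comp] at this
  have : Algebra.FinitePresentation Γ(Y, V) Γ(X, U) :=
    Algebra.FinitePresentation.of_restrict_scalars_finitePresentation Γ(S, W) Γ(Y, V) Γ(X, U)
  suffices he : (hU.fromSpec ⁻¹' {x | IsFibFlatMorAt f h x} : Set (PrimeSpectrum Γ(X, U))) =
      {q | FibFlat Γ(S, W) Γ(Y, V) Γ(X, U) Γ(X, U) q} by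
    rw [he]
    exact isConstructible_setOf_fibFlat
  ext (q : PrimeSpectrum Γ(X, U))
  have hy : hU.fromSpec q ∈ U := hU.range_fromSpec.le ⟨q, rfl⟩
  have hpr : hU.primeIdealOf ⟨_, hy⟩ = q :=
    hU.fromSpec.isOpenEmbedding.injective (hU.fromSpec_primeIdealOf _)
  rw [Set.mem_preimage, Set.mem_ofPred_eq, isFibFlatMorAt_iff f h hW hV eV hU eU hy, hpr]
  rfl

/-- The map induced on fibres. -/
noncomputable abbrev fibMap (f : X ⟶ Y) (g : Y ⟶ S) (s : S) : (f ≫ g).fiber s ⟶ g.fiber s :=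
  pullback.lift (pullback.fst (f ≫ g) (S.fromSpecResidueField s) ≫ f)
    (pullback.snd (f ≫ g) (S.fromSpecResidueField s)) ((Category.assoc _ _ _).trans pullback.condition)

theorem fibMap_fiberι (f : X ⟶ Y) (g : Y ⟶ S) (s : S) :
    fibMap f g s ≫ g.fiberι s = (f ≫ g).fiberι s ≫ f :=
  pullback.lift_fst _ _ _

theorem exists_surjective_stalk (g : Y ⟶ S) (s : S) (z : ↥(g.fiber s)) {y : Y}
    (e : g.fiberι s z = y) :
    Function.Surjective ((Y.presheaf.stalkCongr (.of_eq e)).inv ≫ (g.fiberι s).stalkMap z).hom ∧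
      RingHom.ker ((Y.presheaf.stalkCongr (.of_eq e)).inv ≫ (g.fiberι s).stalkMap z).hom =
        Ideal.map (g.stalkMap y).hom (IsLocalRing.maximalIdeal (S.presheaf.stalk (g y))) := by
  subst e
  have : (Y.presheaf.stalkCongr (.of_eq (rfl : g.fiberι s z = g.fiberι s z))).inv = 𝟙 _ := by
    simp [TopCat.Presheaf.stalkCongr]
  rw [this, Category.id_comp]
  exact Props12.stalkMap_fiberι g s z

theorem flat_stalkMap_fibMap_iff (f : X ⟶ Y) (g : Y ⟶ S) (s : S) (z : ↥((f ≫ g).fiber s)) :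
    ((fibMap f g s).stalkMap z).hom.Flat ↔ IsFibFlatMorAt f g ((f ≫ g).fiberι s z) := by
  set x := (f ≫ g).fiberι s z with hx
  have hy : g.fiberι s (fibMap f g s z) = f x := by
    rw [← Scheme.Hom.comp_apply, fibMap_fiberι]
    rfl
  let := (f.stalkMap x).hom.toAlgebra
  obtain ⟨hsX, hkX⟩ := Props12.stalkMap_fiberι (f ≫ g) s z
  obtain ⟨hsY, hkY⟩ := exists_surjective_stalk g s (fibMap f g s z) hy
  have hsq := Scheme.Hom.stalkMap_congr_hom _ _ (fibMap_fiberι f g s) z
  rw [Scheme.Hom.stalkMap_comp, Scheme.Hom.stalkMap_comp, ← Iso.inv_comp_eq, ← Category.assoc] at hsq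
  refine flat_iff_of_surjective _ _ hsY hsX _ ?_ _ hkY ?_
  · have h' := congr(($hsq).hom)
    rw [CommRingCat.hom_comp, CommRingCat.hom_comp] at h'
    exact h'
  · rw [hkX, Scheme.Hom.stalkMap_comp, CommRingCat.hom_comp, ← Ideal.map_map]
    rfl

theorem flat_fibMap_iff (f : X ⟶ Y) (g : Y ⟶ S) (s : S) :
    Flat (fibMap f g s) ↔ ∀ x : X, (f ≫ g) x = s → IsFibFlatMorAt f g x := by
  rw [Flat.iff_flat_stalkMap]
  constructor
  · intro h x hxs
    obtain ⟨z, rfl⟩ := ((f ≫ g).range_fiberι s).ge hxs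
    exact (flat_stalkMap_fibMap_iff f g s z).1 (h z)
  · exact fun h z => (flat_stalkMap_fibMap_iff f g s z).2 (h _ (((f ≫ g).range_fiberι s).le ⟨z, rfl⟩))

theorem isLocallyConstructible_setOf_fibre_flat (f : X ⟶ Y) (g : Y ⟶ S)
    [LocallyOfFinitePresentation (f ≫ g)] [QuasiCompact (f ≫ g)] [LocallyOfFinitePresentation g] :
    IsLocallyConstructible {s : S | Flat (fibMap f g s)} := by
  have he : {s : S | Flat (fibMap f g s)} = ((f ≫ g) '' {x : X | IsFibFlatMorAt f g x}ᶜ)ᶜ := by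
    ext s
    simp only [Set.mem_ofPred_eq, Set.mem_compl_iff, Set.mem_image, flat_fibMap_iff]
    grind
  rw [he]
  exact isLocallyConstructible_compl ((f ≫ g).isLocallyConstructible_image
    (isLocallyConstructible_compl (isLocallyConstructible_setOf_isFibFlatMorAt f g)))

/-- The set of `s` over which `f` is an open immersion. -/
theorem isLocallyConstructible_setOf_isOpenImmersion (f : X ⟶ Y) (g : Y ⟶ S)
    [LocallyOfFinitePresentation f] [QuasiCompact f] [QuasiSeparated f]
    [LocallyOfFinitePresentation g] [QuasiCompact g]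
    [LocallyOfFinitePresentation (f ≫ g)] [QuasiCompact (f ≫ g)] :
    IsLocallyConstructible {s : S | IsOpenImmersion (fibMap f g s)} := by
  convert (isLocallyConstructible_setOf_mono f g).inter (isLocallyConstructible_setOf_fibre_flat f g)
    using 1
  ext s
  have : LocallyOfFinitePresentation (fibMap f g s) :=
    MorphismProperty.of_isPullback (fibre_isPullback f g (S.fromSpecResidueField s)) ‹_›
  have hm : Mono (fibMap f g s) ↔ Mono (pullback.snd f (pullback.fst g (S.fromSpecResidueField s))) :=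
    fibre_iff (P := MorphismProperty.monomorphisms Scheme.{u}) f g (S.fromSpecResidueField s)
  rw [Set.mem_inter_iff, Set.mem_ofPred_eq, Set.mem_ofPred_eq, Set.mem_ofPred_eq, ← hm]
  exact ⟨fun _ => ⟨inferInstance, inferInstance⟩, fun ⟨_, _⟩ =>
    IsOpenImmersion.of_flat_of_mono (fibMap f g s)⟩

/-- The set of `s` over which `f` is an isomorphism. -/
theorem isLocallyConstructible_setOf_isIso (f : X ⟶ Y) (g : Y ⟶ S)
    [LocallyOfFinitePresentation f] [QuasiCompact f] [QuasiSeparated f]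
    [LocallyOfFinitePresentation g] [QuasiCompact g]
    [LocallyOfFinitePresentation (f ≫ g)] [QuasiCompact (f ≫ g)] :
    IsLocallyConstructible {s : S | IsIso (fibMap f g s)} := by
  convert (isLocallyConstructible_setOf_surjective f g).inter
    (isLocallyConstructible_setOf_isOpenImmersion f g) using 1
  ext s
  have hm : Surjective (fibMap f g s) ↔ Surjective (pullback.snd f (pullback.fst g (S.fromSpecResidueField s))) :=
    fibre_iff (P := @Surjective.{u}) f g (S.fromSpecResidueField s)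
  rw [Set.mem_inter_iff, Set.mem_ofPred_eq, Set.mem_ofPred_eq, Set.mem_ofPred_eq, ← hm,
    isIso_iff_isOpenImmersion_and_surjective]
  exact and_comm

end Groth.Agent.EGA43.Cons
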