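import Groth.Agent.EGA43.Limit.Immersions
import Mathlib.RingTheory.Extension.Presentation.Core
import Mathlib.RingTheory.FiniteStability
import Mathlib.Algebra.Category.Ring.Constructions

/-!
# Open loci compatible with base change are retrocompact (Noetherian models of affine morphisms)
-/

universe u

set_option autoImplicit false
set_option backward.isDefEq.respectTransparency false

open CategoryTheory Limits AlgebraicGeometry
open scoped TensorProduct

namespace Groth.Agent.EGA43.Cons

/-- An algebra isomorphic to a tensor product gives a pushout square of rings. -/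
theorem isPushout_of_equiv {R₀ A M B : Type u} [CommRing R₀] [CommRing A] [CommRing M] [CommRing B]
    [Algebra R₀ A] [Algebra R₀ M] [Algebra A B] (e : A ⊗[R₀] M ≃ₐ[A] B) :
    IsPushout (CommRingCat.ofHom (algebraMap R₀ A)) (CommRingCat.ofHom (algebraMap R₀ M))
      (CommRingCat.ofHom (algebraMap A B))
      (CommRingCat.ofHom (e.toRingEquiv.toRingHom.comp
        (Algebra.TensorProduct.includeRight (R := R₀) (A := A) (B := M)).toRingHom)) :=
  (CommRingCat.isPushout_tensorProduct R₀ A M).of_iso (Iso.refl _) (Iso.refl _) (Iso.refl _)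
    e.toRingEquiv.toCommRingCatIso (by simp) (by simp)
    (by ext x; exact (e.commutes x))
    (by ext x; rfl)

/-- A finitely presented ring map is a base change of one between Noetherian rings. -/
theorem exists_noetherian_model {A B : CommRingCat.{u}} (φ : A ⟶ B)
    (hφ : φ.hom.FinitePresentation) :
    ∃ (A₀ B₀ : CommRingCat.{u}) (φ₀ : A₀ ⟶ B₀) (r : A₀ ⟶ A) (q : B₀ ⟶ B),
      IsNoetherianRing B₀ ∧ φ₀.hom.FinitePresentation ∧ IsPushout r φ₀ φ q := by
  algebraize [φ.hom]
  let P := Algebra.Presentation.ofFinitePresentation A B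
  let M := P.ModelOfHasCoeffs P.Core
  let e : A ⊗[P.Core] M ≃ₐ[A] B := P.tensorModelOfHasCoeffsEquiv P.Core
  have hp := isPushout_of_equiv e
  have : IsNoetherianRing P.Core := Algebra.FiniteType.isNoetherianRing ℤ _
  have : IsNoetherianRing M := Algebra.FiniteType.isNoetherianRing P.Core _
  exact ⟨.of P.Core, .of M, CommRingCat.ofHom (algebraMap P.Core M),
    CommRingCat.ofHom (algebraMap P.Core A), _, ‹_›,
    RingHom.finitePresentation_algebraMap.2 inferInstance, hp⟩

section

variable (L : ∀ {X Y : Scheme.{u}}, (X ⟶ Y) → Set X)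
  (hopen : ∀ {X Y : Scheme.{u}} (f : X ⟶ Y) [LocallyOfFiniteType f], IsOpen (L f))
  (hbc : ∀ {P X Y Z : Scheme.{u}} {fst : P ⟶ X} {snd : P ⟶ Y} {f : X ⟶ Z} {g : Y ⟶ Z}
    [LocallyOfFiniteType f], IsPullback fst snd f g → L snd = fst ⁻¹' L f)
  (hcomp : ∀ {X Y Z : Scheme.{u}} (j : X ⟶ Y) (g : Y ⟶ Z) [IsOpenImmersion j]
    [LocallyOfFiniteType g], L (j ≫ g) = j ⁻¹' L g)

include hopen hbc hcomp

/-- An open locus compatible with base change and open immersions is locally constructible for
morphisms locally of finite presentation. -/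
theorem isLocallyConstructible_locus {X Y : Scheme.{u}} (f : X ⟶ Y)
    [LocallyOfFinitePresentation f] : Topology.IsLocallyConstructible (L f) := by
  intro x
  obtain ⟨W, hW, hxW, -⟩ := exists_isAffineOpen_mem_and_subset (x := f x) (U := ⊤) trivial
  obtain ⟨V, hV, hxV, hVW⟩ := exists_isAffineOpen_mem_and_subset (U := f ⁻¹ᵁ W) hxW
  refine ⟨(V : Set X), V.2.mem_nhds hxV, V.2, ?_⟩
  let g := f.resLE W V hVW
  let φ := f.appLE W V hVW
  have hφ : φ.hom.FinitePresentation := f.finitePresentation_appLE hW hV hVW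
  obtain ⟨A₀, B₀, φ₀, r, q, hB₀, hφ₀, hpush⟩ := exists_noetherian_model φ hφ
  have hpb : IsPullback (Spec.map q) (Spec.map φ) (Spec.map φ₀) (Spec.map r) :=
    (isPullback_SpecMap_of_isPushout _ _ _ _ hpush).flip
  have : LocallyOfFinitePresentation (Spec.map φ₀) :=
    (HasRingHomProperty.Spec_iff (P := @LocallyOfFinitePresentation.{u})).2 hφ₀
  have : LocallyOfFiniteType (Spec.map φ) :=
    (HasRingHomProperty.Spec_iff (P := @LocallyOfFiniteType.{u})).2 (RingHom.FiniteType.of_finitePresentation hφ)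
  have hc : IsCompact (L (Spec.map φ)) := by
    rw [hbc hpb]
    exact QuasiCompact.isCompact_preimage _ (hopen _) (TopologicalSpace.NoetherianSpace.isCompact _)
  have e₁ : g = hV.isoSpec.hom ≫ Spec.map φ ≫ hW.isoSpec.inv := by
    have h := hW.SpecMap_appLE_fromSpec f hV hVW
    rw [← cancel_mono W.ι, Category.assoc, Category.assoc, hW.isoSpec_inv_ι, h,
      ← hV.isoSpec_inv_ι, Category.assoc, Iso.hom_inv_id_assoc]
    exact Scheme.Hom.resLE_comp_ι _ _
  have hmono : ∀ {A B C : Scheme.{u}} (a : A ⟶ B) (b : B ⟶ C) [IsOpenImmersion b]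
      [LocallyOfFiniteType (a ≫ b)], L a = L (a ≫ b) := by
    intro A B C a b _ _
    have := hbc (fst := 𝟙 A) (snd := a) (f := a ≫ b) (g := b)
      ⟨⟨Category.id_comp _⟩, ⟨PullbackCone.IsLimit.mk _ (fun s => s.fst)
        (fun s => Category.comp_id _)
        (fun s => by rw [← cancel_mono b, Category.assoc]; exact s.condition)
        fun s m h₁ _ => by rwa [Category.comp_id] at h₁⟩⟩
    simpa using this
  have e₂ : V.ι ⁻¹' L f = hV.isoSpec.hom ⁻¹' L (Spec.map φ) := by
    have : LocallyOfFiniteType (g ≫ W.ι) := by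
      rw [Scheme.Hom.resLE_comp_ι]
      infer_instance
    rw [← hcomp V.ι f, ← Scheme.Hom.resLE_comp_ι f hVW, ← hmono g W.ι, e₁,
      hcomp hV.isoSpec.hom, ← hmono]
  show Topology.IsConstructible (V.ι ⁻¹' L f : Set V.toScheme)
  have : IsAffine V.toScheme := hV
  refine IsCompact.isConstructible ?_ ((hopen f).preimage V.ι.continuous)
  rw [e₂]
  exact hV.isoSpec.hom.homeomorph.isCompact_preimage.2 hc

end

/-- The quasi-finite locus is compatible with base change. -/
theorem quasiFiniteLocus_isPullback {P X Y Z : Scheme.{u}} {fst : P ⟶ X} {snd : P ⟶ Y}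
    {f : X ⟶ Z} {g : Y ⟶ Z} (h : IsPullback fst snd f g) [LocallyOfFiniteType f] :
    {z | snd.QuasiFiniteAt z} = fst ⁻¹' {x | f.QuasiFiniteAt x} := by
  ext z
  refine ⟨fun hz => Limit.quasiFiniteAt_of_isPullback h hz, fun hz => ?_⟩
  let L := f.quasiFiniteLocus
  have sq : IsPullback (fst ∣_ L) ((fst ⁻¹ᵁ L).ι ≫ snd) (L.ι ≫ f) g :=
    (isPullback_morphismRestrict fst L).paste_vert h
  have : LocallyQuasiFinite ((fst ⁻¹ᵁ L).ι ≫ snd) :=
    MorphismProperty.of_isPullback sq inferInstance
  exact Scheme.Hom.quasiFiniteAt_comp_iff_of_isOpenImmersion.1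
    (((fst ⁻¹ᵁ L).ι ≫ snd).quasiFiniteAt ⟨z, hz⟩)

/-- The quasi-finite locus of a morphism locally of finite presentation is locally constructible. -/
theorem isLocallyConstructible_quasiFiniteAt {X Y : Scheme.{u}} (f : X ⟶ Y)
    [LocallyOfFinitePresentation f] :
    Topology.IsLocallyConstructible {x | f.QuasiFiniteAt x} :=
  isLocallyConstructible_locus (fun {X Y} f => {x : X | f.QuasiFiniteAt x})
    (fun f _ => f.isOpen_quasiFiniteAt) (fun h => quasiFiniteLocus_isPullback h)
    (fun j g _ _ => Set.ext fun x => Scheme.Hom.quasiFiniteAt_comp_iff_of_isOpenImmersion) f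

end Groth.Agent.EGA43.Cons
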