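import Groth.Agent.EGA43.Cons.Topological
import Groth.Agent.EGA43.Cons.Locus

/-!
# Constructibility of pointwise properties of maps of fibres
-/

universe u

set_option autoImplicit false
set_option backward.isDefEq.respectTransparency false

open CategoryTheory Limits AlgebraicGeometry

namespace Groth.Agent.EGA43.Cons

theorem range_fst_fibre {X Y S : Scheme.{u}} (f : X ⟶ Y) (g : Y ⟶ S) (s : S) :
    Set.range (pullback.fst f (pullback.fst g (S.fromSpecResidueField s))) = (f ≫ g) ⁻¹' {s} := by
  rw [Scheme.Pullback.range_fst, Scheme.Pullback.range_fst, Scheme.range_fromSpecResidueField]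
  rfl

/-- If `L` is the locus of a pointwise property compatible with base change, the set of `s` over
which the property holds everywhere is locally constructible. -/
theorem isLocallyConstructible_setOf_forall {X Y S : Scheme.{u}} (f : X ⟶ Y) (g : Y ⟶ S)
    [LocallyOfFinitePresentation (f ≫ g)] [QuasiCompact (f ≫ g)] {L : Set X}
    (hL : Topology.IsLocallyConstructible L) {p : S → Prop}
    (hp : ∀ s, p s ↔ ∀ z : ↥(pullback f (pullback.fst g (S.fromSpecResidueField s))),
      pullback.fst f (pullback.fst g (S.fromSpecResidueField s)) z ∈ L) :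
    Topology.IsLocallyConstructible {s | p s} := by
  convert isLocallyConstructible_compl
    ((f ≫ g).isLocallyConstructible_image (isLocallyConstructible_compl hL)) using 1
  ext s
  rw [Set.mem_ofPred_eq, hp]
  simp only [Set.mem_compl_iff, Set.mem_image, not_exists, not_and]
  refine ⟨fun h x hx hxs => hx ?_, fun h z => by_contra fun hz => h _ hz ?_⟩
  · obtain ⟨z, rfl⟩ := (range_fst_fibre f g s).ge hxs
    exact h z
  · exact (range_fst_fibre f g s).le ⟨z, rfl⟩

/-- The set of `s` over which a morphism of finitely presented `S`-schemes is quasi-finite. -/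
theorem isLocallyConstructible_setOf_locallyQuasiFinite {X Y S : Scheme.{u}} (f : X ⟶ Y)
    (g : Y ⟶ S) [LocallyOfFinitePresentation f] [LocallyOfFinitePresentation (f ≫ g)]
    [QuasiCompact (f ≫ g)] :
    Topology.IsLocallyConstructible
      {s : S | LocallyQuasiFinite (pullback.snd f (pullback.fst g (S.fromSpecResidueField s)))} := by
  refine isLocallyConstructible_setOf_forall f g (isLocallyConstructible_quasiFiniteAt f) fun s => ?_
  have h := quasiFiniteLocus_isPullback
    (IsPullback.of_hasPullback f (pullback.fst g (S.fromSpecResidueField s)))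
  rw [← Scheme.Hom.quasiFiniteLocus_eq_top_iff, ← SetLike.coe_injective.eq_iff,
    TopologicalSpace.Opens.coe_top, Set.eq_univ_iff_forall]
  exact forall_congr' fun z => Set.ext_iff.1 h z

end Groth.Agent.EGA43.Cons
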