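import Groth.Agent.EGA43.Limit.Properties
import Mathlib.AlgebraicGeometry.ResidueField
import Mathlib.AlgebraicGeometry.Fiber

/-!
# Constructibility of loci defined by topological properties of fibres (EGA IV, §9)
-/

universe u

set_option autoImplicit false
set_option backward.isDefEq.respectTransparency false

open CategoryTheory Limits AlgebraicGeometry

namespace Groth.Agent.EGA43.Cons

theorem isLocallyConstructible_compl {X : Type*} [TopologicalSpace X] {s : Set X}
    (hs : Topology.IsLocallyConstructible s) : Topology.IsLocallyConstructible sᶜ := fun x => by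
  obtain ⟨U, hU, hUo, h⟩ := hs x
  exact ⟨U, hU, hUo, h.compl⟩

/-- The set of `s` over which a qc lfp morphism of finitely presented `S`-schemes is surjective. -/
theorem isLocallyConstructible_setOf_surjective {X Y S : Scheme.{u}} (f : X ⟶ Y) (g : Y ⟶ S)
    [LocallyOfFinitePresentation f] [QuasiCompact f] [LocallyOfFinitePresentation g] [QuasiCompact g] :
    Topology.IsLocallyConstructible
      {s : S | Surjective (pullback.snd f (pullback.fst g (S.fromSpecResidueField s)))} := by
  have hR : Topology.IsLocallyConstructible (Set.range f) := by
    rw [← Set.image_univ]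
    exact f.isLocallyConstructible_image Topology.IsLocallyConstructible.univ
  have hE := g.isLocallyConstructible_image (isLocallyConstructible_compl hR)
  convert isLocallyConstructible_compl hE using 1
  ext s
  simp only [Set.mem_compl_iff, Set.mem_image, not_exists, not_and]
  have hr : Set.range (pullback.fst g (S.fromSpecResidueField s)) = g ⁻¹' {s} := by
    rw [Scheme.Pullback.range_fst, Scheme.range_fromSpecResidueField]
  constructor
  · intro (h : Surjective _) y hy hys
    refine hy ?_
    obtain ⟨z, rfl⟩ := hr.ge hys
    obtain ⟨w, rfl⟩ := h.surj z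
    exact ⟨(pullback.fst f (pullback.fst g (S.fromSpecResidueField s))) w, by rw [← Scheme.Hom.comp_apply, pullback.condition]; rfl⟩
  · intro h
    refine ⟨fun z => ?_⟩
    rw [← Set.mem_range, Scheme.Pullback.range_snd]
    by_contra hz
    exact h _ hz (hr.le ⟨z, rfl⟩)

/-- The map of fibres is the base change along the fibre inclusion. -/
theorem fibre_isPullback {X Y S T : Scheme.{u}} (f : X ⟶ Y) (g : Y ⟶ S) (ψ : T ⟶ S) :
    IsPullback (pullback.fst (f ≫ g) ψ)
      (pullback.lift (pullback.fst (f ≫ g) ψ ≫ f) (pullback.snd (f ≫ g) ψ)
        ((Category.assoc _ _ _).trans pullback.condition) : pullback (f ≫ g) ψ ⟶ pullback g ψ)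
      f (pullback.fst g ψ) := by
  refine IsPullback.of_bot ?_ (pullback.lift_fst _ _ _).symm (IsPullback.of_hasPullback g ψ)
  rw [pullback.lift_snd]
  exact IsPullback.of_hasPullback (f ≫ g) ψ

/-- Transport a property from the base change to the map of fibres. -/
theorem fibre_iff {P : MorphismProperty Scheme.{u}} [P.RespectsIso] {X Y S T : Scheme.{u}}
    (f : X ⟶ Y) (g : Y ⟶ S) (ψ : T ⟶ S) :
    P (pullback.lift (pullback.fst (f ≫ g) ψ ≫ f) (pullback.snd (f ≫ g) ψ)
        ((Category.assoc _ _ _).trans pullback.condition) : pullback (f ≫ g) ψ ⟶ pullback g ψ) ↔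
      P (pullback.snd f (pullback.fst g ψ)) :=
  P.arrow_mk_iso_iff (Arrow.isoMk (fibre_isPullback f g ψ).isoPullback (Iso.refl _) (by simp))

/-- The set of `s` over which a morphism of finitely presented `S`-schemes is radicial. -/
theorem isLocallyConstructible_setOf_universallyInjective {X Y S : Scheme.{u}} (f : X ⟶ Y)
    (g : Y ⟶ S) [LocallyOfFinitePresentation f] [QuasiCompact f] [QuasiSeparated f]
    [LocallyOfFinitePresentation g] [QuasiCompact g] :
    Topology.IsLocallyConstructible
      {s : S | UniversallyInjective (pullback.snd f (pullback.fst g (S.fromSpecResidueField s)))} := by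
  have : LocallyOfFinitePresentation (pullback.diagonal f) := by
    have : LocallyOfFinitePresentation (pullback.diagonal f ≫ pullback.fst f f) := by
      rw [pullback.diagonal_fst]
      infer_instance
    exact Limit.locallyOfFinitePresentation_of_comp _ (pullback.fst f f)
  convert isLocallyConstructible_setOf_surjective (pullback.diagonal f)
    ((pullback.snd f f ≫ f) ≫ g) using 1
  ext s
  simp only [Set.mem_ofPred_eq]
  rw [UniversallyInjective.iff_diagonal]
  refine (Limit.diagonal_pullback_iff (P := @Surjective.{u}) f
    (pullback.fst g (S.fromSpecResidueField s))).trans ?_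
  let g' := pullback.snd f f ≫ f
  have sq : IsPullback (pullback.fst g' (pullback.fst g (S.fromSpecResidueField s)))
      (pullback.snd g' (pullback.fst g (S.fromSpecResidueField s)) ≫
        pullback.snd g (S.fromSpecResidueField s)) (g' ≫ g) (S.fromSpecResidueField s) :=
    (IsPullback.of_hasPullback g' (pullback.fst g (S.fromSpecResidueField s))).paste_vert
      (IsPullback.of_hasPullback g (S.fromSpecResidueField s))
  have big := IsPullback.of_hasPullback (pullback.diagonal f)
    (pullback.fst (g' ≫ g) (S.fromSpecResidueField s))
  have small := IsPullback.of_hasPullback (pullback.diagonal f)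
    (pullback.fst g' (pullback.fst g (S.fromSpecResidueField s)))
  have small' := small.of_iso (Iso.refl _) (Iso.refl _) sq.isoPullback (Iso.refl _)
    (fst' := pullback.fst (pullback.diagonal f)
      (pullback.fst g' (pullback.fst g (S.fromSpecResidueField s))))
    (snd' := pullback.snd (pullback.diagonal f)
      (pullback.fst g' (pullback.fst g (S.fromSpecResidueField s))) ≫ sq.isoPullback.hom)
    (f' := pullback.diagonal f) (g' := pullback.fst (g' ≫ g) (S.fromSpecResidueField s))
    (by simp) (by simp) (by simp) (by simp)
  exact MorphismProperty.arrow_mk_iso_iff _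
    (Arrow.isoMk small'.isoPullback sq.isoPullback (by simp) :
      Arrow.mk (pullback.snd (pullback.diagonal f)
        (pullback.fst g' (pullback.fst g (S.fromSpecResidueField s)))) ≅
      Arrow.mk (pullback.snd (pullback.diagonal f)
        (pullback.fst (g' ≫ g) (S.fromSpecResidueField s))))

end Groth.Agent.EGA43.Cons
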