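import Groth.Agent.EGA43.Cons.FibreClosure
import Groth.Agent.EGA43.Cons.Topological
import Groth.Agent.H8ProCons.ConsTopology
import Groth.Agent.EGA43.Cons.Pointwise
import Mathlib.AlgebraicGeometry.Morphisms.Separated
import Mathlib.AlgebraicGeometry.Morphisms.FinitePresentation
import Mathlib.AlgebraicGeometry.AffineScheme

/-!
# Fibrewise closures in schemes (EGA IV 9.5)
-/

set_option autoImplicit false
set_option backward.isDefEq.respectTransparency false

universe u

open CategoryTheory AlgebraicGeometry Topology TopologicalSpace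

namespace Groth.Agent.EGA43.Cons

variable {X S : Scheme.{u}}

/-- Points specialising a point of `Z` in the same fibre. -/
def fibreClosureSch (f : X ⟶ S) (Z : Set X) : Set X := {x | ∃ y ∈ Z, y ⤳ x ∧ f y = f x}

theorem fromSpec_comp_eq {f : X ⟶ S} {V : S.Opens} (hV : IsAffineOpen V) {U : X.Opens}
    (hU : IsAffineOpen U) (e : U ≤ f ⁻¹ᵁ V) (q : Spec Γ(X, U)) :
    f (hU.fromSpec q) = hV.fromSpec (PrimeSpectrum.comap (f.appLE V U e).hom q) :=
  (congr($(IsAffineOpen.SpecMap_appLE_fromSpec f hV hU e) q)).symm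

theorem preimage_fibreClosureSch (f : X ⟶ S) (Z : Set X) {V : S.Opens} (hV : IsAffineOpen V)
    {U : X.Opens} (hU : IsAffineOpen U) (e : U ≤ f ⁻¹ᵁ V) :
    letI := (f.appLE V U e).hom.toAlgebra
    hU.fromSpec ⁻¹' fibreClosureSch f Z =
      (fibreClosure Γ(S, V) (hU.fromSpec ⁻¹' Z : Set (PrimeSpectrum Γ(X, U))) :
        Set (PrimeSpectrum Γ(X, U))) := by
  let _ := (f.appLE V U e).hom.toAlgebra
  ext (q : PrimeSpectrum Γ(X, U))
  constructor
  · rintro ⟨y, hy, hsp, hfy⟩
    obtain ⟨r, rfl⟩ : y ∈ Set.range hU.fromSpec := by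
      rw [hU.range_fromSpec]
      refine hsp.mem_open U.isOpen ?_
      rw [← hU.range_fromSpec]
      exact ⟨q, rfl⟩
    refine ⟨r, hy, ?_, ?_⟩
    · exact (PrimeSpectrum.le_iff_specializes r q).2
        (hU.fromSpec.isOpenEmbedding.isInducing.specializes_iff.1 hsp)
    · rw [fromSpec_comp_eq hV hU e, fromSpec_comp_eq hV hU e] at hfy
      exact hV.fromSpec.isOpenEmbedding.injective hfy
  · rintro ⟨r, hr, hle, heq⟩
    refine ⟨hU.fromSpec r, hr, ((PrimeSpectrum.le_iff_specializes r q).1 hle).map
      hU.fromSpec.continuous, ?_⟩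
    rw [fromSpec_comp_eq hV hU e, fromSpec_comp_eq hV hU e]
    exact congrArg hV.fromSpec heq

theorem isConstructible_preimage_fromSpec {Z : Set X} (hZ : IsLocallyConstructible Z) {U : X.Opens}
    (hU : IsAffineOpen U) : IsConstructible (hU.fromSpec ⁻¹' Z) :=
  (hZ.preimage_of_isOpenEmbedding hU.fromSpec.isOpenEmbedding).isConstructible

theorem isLocallyConstructible_of_forall_fromSpec {E : Set X}
    (h : ∀ x : X, ∃ (U : X.Opens) (hU : IsAffineOpen U), x ∈ U ∧
      IsConstructible (hU.fromSpec ⁻¹' E)) : IsLocallyConstructible E := by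
  intro x
  obtain ⟨U, hU, hxU, hc⟩ := h x
  refine ⟨(U : Set X), U.2.mem_nhds hxU, U.2, ?_⟩
  show IsConstructible (U.ι ⁻¹' E : Set U.toScheme)
  have he : (U.ι ⁻¹' E : Set U.toScheme) = hU.isoSpec.hom ⁻¹' (hU.fromSpec ⁻¹' E) := by
    ext z
    simp only [Set.mem_preimage]
    rw [← Scheme.Hom.comp_apply, ← hU.isoSpec_inv_ι, Iso.hom_inv_id_assoc]
  rw [he]
  have hemb := hU.isoSpec.hom.isOpenEmbedding
  exact hc.preimage_of_isOpenEmbedding hemb

/-- The fibrewise closure of a locally constructible set is locally constructible. -/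
theorem isLocallyConstructible_fibreClosureSch (f : X ⟶ S) [LocallyOfFinitePresentation f]
    {Z : Set X} (hZ : IsLocallyConstructible Z) :
    IsLocallyConstructible (fibreClosureSch f Z) := by
  refine isLocallyConstructible_of_forall_fromSpec fun x => ?_
  obtain ⟨V, hV, hfx, -⟩ := exists_isAffineOpen_mem_and_subset (x := f x) (U := ⊤) trivial
  obtain ⟨U, hU, hxU, e⟩ := exists_isAffineOpen_mem_and_subset (U := f ⁻¹ᵁ V) hfx
  refine ⟨U, hU, hxU, ?_⟩
  let _ := (f.appLE V U e).hom.toAlgebra
  have : Algebra.FinitePresentation Γ(S, V) Γ(X, U) := f.finitePresentation_appLE hV hU e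
  rw [preimage_fibreClosureSch f Z hV hU e]
  exact isConstructible_fibreClosure (isConstructible_preimage_fromSpec hZ hU)

/-- Closure of a constructible set inside a fibre of an affine map. -/
theorem mem_fibreClosure_of_mem_closure {A B : Type u} [CommRing A] [CommRing B] [Algebra A B]
    {Z : Set (PrimeSpectrum B)} (hZ : IsConstructible Z) {q : PrimeSpectrum B}
    (hq : q ∈ closure (Z ∩ PrimeSpectrum.comap (algebraMap A B) ⁻¹'
      {PrimeSpectrum.comap (algebraMap A B) q})) : q ∈ fibreClosure A Z := by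
  have hsing : IsClosed[constructibleTopology (PrimeSpectrum A)]
      {PrimeSpectrum.comap (algebraMap A B) q} := by
    have := H8ProCons.t2Space_cons (X := PrimeSpectrum A)
    exact @isClosed_singleton _ (constructibleTopology (PrimeSpectrum A))
      (@T2Space.t1Space _ (constructibleTopology (PrimeSpectrum A)) this) _
  have hcont := H8ProCons.continuous_cons (PrimeSpectrum.continuous_comap (algebraMap A B))
    fun U hUo hUc => QuasiCompact.isCompact_preimage
      (f := Spec.map (CommRingCat.ofHom (algebraMap A B))) U hUo hUc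
  obtain ⟨r, ⟨hrZ, hr⟩, hsp⟩ := H8ProCons.exists_specializes_of_mem_closure
    (@IsClosed.inter _ _ _ (constructibleTopology (PrimeSpectrum B))
      (H8ProCons.isClosed_cons_of_isConstructible hZ)
      (@IsClosed.preimage _ _ (constructibleTopology (PrimeSpectrum B))
        (constructibleTopology (PrimeSpectrum A)) _ hcont _ hsing)) hq
  exact ⟨r, hrZ, (PrimeSpectrum.le_iff_specializes r q).2 hsp, hr⟩

/-- The closure in a fibre is the fibrewise closure. -/
theorem closure_inter_fibre_inter_eq (f : X ⟶ S) {Z : Set X} (hZ : IsLocallyConstructible Z)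
    (s : S) : closure (Z ∩ f ⁻¹' {s}) ∩ f ⁻¹' {s} = fibreClosureSch f Z ∩ f ⁻¹' {s} := by
  ext x
  constructor
  · rintro ⟨hx, hxs⟩
    refine ⟨?_, hxs⟩
    obtain ⟨V, hV, hfx, -⟩ := exists_isAffineOpen_mem_and_subset (x := f x) (U := ⊤) trivial
    obtain ⟨U, hU, hxU, e⟩ := exists_isAffineOpen_mem_and_subset (U := f ⁻¹ᵁ V) hfx
    let _ := (f.appLE V U e).hom.toAlgebra
    let q : PrimeSpectrum Γ(X, U) := hU.primeIdealOf ⟨x, hxU⟩
    have hqx : hU.fromSpec q = x := hU.fromSpec_primeIdealOf _
    have hmem : q ∈ hU.fromSpec ⁻¹' fibreClosureSch f Z := by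
      rw [preimage_fibreClosureSch f Z hV hU e]
      refine mem_fibreClosure_of_mem_closure (isConstructible_preimage_fromSpec hZ hU) ?_
      have hx' : q ∈ closure (hU.fromSpec ⁻¹' (Z ∩ f ⁻¹' {s})) := by
        rw [← hU.fromSpec.isOpenEmbedding.isOpenMap.preimage_closure_eq_closure_preimage
          hU.fromSpec.continuous]
        rw [Set.mem_preimage, hqx]
        exact hx
      refine closure_mono ?_ hx'
      rintro r ⟨hrZ, hr⟩
      refine ⟨hrZ, hV.fromSpec.isOpenEmbedding.injective ?_⟩
      show hV.fromSpec (PrimeSpectrum.comap (f.appLE V U e).hom r) =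
        hV.fromSpec (PrimeSpectrum.comap (f.appLE V U e).hom q)
      rw [← fromSpec_comp_eq hV hU e, ← fromSpec_comp_eq hV hU e, hqx]
      exact (Set.mem_singleton_iff.1 hr).trans (Set.mem_singleton_iff.1 hxs).symm
    rw [Set.mem_preimage, hqx] at hmem
    exact hmem
  · rintro ⟨⟨y, hy, hsp, hfy⟩, hxs⟩
    exact ⟨hsp.mem_closed isClosed_closure (subset_closure ⟨hy, hfy.trans hxs⟩), hxs⟩

theorem setOf_fibre_subset_closure (f : X ⟶ S) {Z Z' : Set X} (hZ : IsLocallyConstructible Z) :
    {s : S | Z' ∩ f ⁻¹' {s} ⊆ closure (Z ∩ f ⁻¹' {s})} = (f '' (Z' ∩ (fibreClosureSch f Z)ᶜ))ᶜ := by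
  ext s
  constructor
  · rintro h ⟨x, ⟨hx', hx⟩, rfl⟩
    exact hx ((closure_inter_fibre_inter_eq f hZ (f x)).le ⟨h ⟨hx', rfl⟩, rfl⟩).1
  · rintro h x ⟨hx', hxs⟩
    by_contra hx
    refine h ⟨x, ⟨hx', fun hc => hx ?_⟩, hxs⟩
    exact ((closure_inter_fibre_inter_eq f hZ s).ge ⟨hc, hxs⟩).1

/-- The set of `s` over which `Z` is dense in `Z'` is locally constructible. -/
theorem isLocallyConstructible_setOf_dense (f : X ⟶ S) [LocallyOfFinitePresentation f]
    [QuasiCompact f] {Z Z' : Set X} (hZ : IsLocallyConstructible Z)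
    (hZ' : IsLocallyConstructible Z') :
    IsLocallyConstructible {s : S | Z' ∩ f ⁻¹' {s} ⊆ closure (Z ∩ f ⁻¹' {s})} := by
  rw [setOf_fibre_subset_closure f hZ]
  exact isLocallyConstructible_compl (f.isLocallyConstructible_image
    (hZ'.inter (isLocallyConstructible_compl (isLocallyConstructible_fibreClosureSch f hZ))))

theorem isClosed_fibre_iff (f : X ⟶ S) (Z : Set X) (s : S) :
    IsClosed (Subtype.val ⁻¹' Z : Set ↥(f ⁻¹' {s})) ↔
      Set.univ ∩ f ⁻¹' {s} ∩ closure (Z ∩ f ⁻¹' {s}) ⊆ Z := by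
  constructor
  · rintro h x ⟨⟨-, hxs⟩, hx⟩
    have hmem : (⟨x, hxs⟩ : f ⁻¹' {s}) ∈ closure (Subtype.val ⁻¹' Z : Set ↥(f ⁻¹' {s})) := by
      rw [closure_subtype, Subtype.image_preimage_coe, Set.inter_comm]
      exact hx
    rwa [h.closure_eq] at hmem
  · intro h
    refine isClosed_of_closure_subset fun x hx => h ⟨⟨trivial, x.2⟩, ?_⟩
    rw [closure_subtype, Subtype.image_preimage_coe, Set.inter_comm] at hx
    exact hx

/-- The set of `s` over which `Z` is closed in the fibre is locally constructible. -/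
theorem isLocallyConstructible_setOf_isClosed (f : X ⟶ S) [LocallyOfFinitePresentation f]
    [QuasiCompact f] {Z : Set X} (hZ : IsLocallyConstructible Z) :
    IsLocallyConstructible {s : S | IsClosed (Subtype.val ⁻¹' Z : Set ↥(f ⁻¹' {s}))} := by
  convert isLocallyConstructible_compl (f.isLocallyConstructible_image
    ((isLocallyConstructible_fibreClosureSch f hZ).inter (isLocallyConstructible_compl hZ))) using 1
  ext s
  rw [Set.mem_ofPred_eq, isClosed_fibre_iff]
  constructor
  · rintro h ⟨x, ⟨hx, hxZ⟩, rfl⟩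
    exact hxZ (h ⟨⟨trivial, rfl⟩, ((closure_inter_fibre_inter_eq f hZ (f x)).ge ⟨hx, rfl⟩).1⟩)
  · rintro h x ⟨⟨-, hxs⟩, hx⟩
    by_contra hxZ
    exact h ⟨x, ⟨((closure_inter_fibre_inter_eq f hZ s).le ⟨hx, hxs⟩).1, hxZ⟩, hxs⟩

theorem isLocallyClosed_fibre_iff (f : X ⟶ S) {Z : Set X} (hZ : IsLocallyConstructible Z) (s : S) :
    IsLocallyClosed (Subtype.val ⁻¹' Z : Set ↥(f ⁻¹' {s})) ↔
      IsClosed (Subtype.val ⁻¹' (fibreClosureSch f Z ∩ Zᶜ) : Set ↥(f ⁻¹' {s})) := by
  have hcl : closure (Subtype.val ⁻¹' Z : Set ↥(f ⁻¹' {s})) =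
      Subtype.val ⁻¹' fibreClosureSch f Z := by
    ext x
    rw [closure_subtype, Subtype.image_preimage_coe, Set.inter_comm]
    exact ⟨fun hx => ((closure_inter_fibre_inter_eq f hZ s).le ⟨hx, x.2⟩).1,
      fun hx => ((closure_inter_fibre_inter_eq f hZ s).ge ⟨hx, x.2⟩).1⟩
  rw [Set.preimage_inter, ← hcl]
  have hclZ : coborder (Subtype.val ⁻¹' Z : Set ↥(f ⁻¹' {s})) =
      (closure (Subtype.val ⁻¹' Z) ∩ Subtype.val ⁻¹' Zᶜ)ᶜ := rfl
  rw [isLocallyClosed_iff_isOpen_coborder, hclZ, isOpen_compl_iff]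

end Groth.Agent.EGA43.Cons

namespace Groth.Agent.EGA43.Cons

open Limits

/-- The set of `s` over which a morphism of finitely presented `S`-schemes is dominant. -/
theorem isLocallyConstructible_setOf_isDominant {X Y S : Scheme.{u}} (f : X ⟶ Y) (g : Y ⟶ S)
    [LocallyOfFinitePresentation f] [QuasiCompact f] [LocallyOfFinitePresentation g]
    [QuasiCompact g] :
    IsLocallyConstructible
      {s : S | IsDominant (pullback.snd f (pullback.fst g (S.fromSpecResidueField s)))} := by
  have hR : IsLocallyConstructible (Set.range f) := by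
    rw [← Set.image_univ]
    exact f.isLocallyConstructible_image IsLocallyConstructible.univ
  convert isLocallyConstructible_setOf_dense g hR IsLocallyConstructible.univ using 1
  ext s
  let ι := pullback.fst g (S.fromSpecResidueField s)
  have hr : Set.range ι = g ⁻¹' {s} := by
    rw [Scheme.Pullback.range_fst, Scheme.range_fromSpecResidueField]
  have hι : IsEmbedding ι := (g.fiberι s).isEmbedding
  rw [Set.mem_ofPred_eq, Set.mem_ofPred_eq, isDominant_iff, DenseRange, dense_iff_closure_eq,
    Scheme.Pullback.range_snd, hι.closure_eq_preimage_closure_image, Set.image_preimage_eq_inter_range,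
    hr, Set.univ_inter]
  constructor
  · rintro h y hy
    obtain ⟨z, rfl⟩ := hr.ge hy
    exact h.ge (Set.mem_univ z)
  · intro h
    exact Set.eq_univ_of_forall fun z => h (hr.le ⟨z, rfl⟩)

/-- The set of `s` over which a morphism of finitely presented `S`-schemes is separated. -/
theorem isLocallyConstructible_setOf_isSeparated {X Y S : Scheme.{u}} (f : X ⟶ Y) (g : Y ⟶ S)
    [LocallyOfFinitePresentation f] [QuasiCompact f] [QuasiSeparated f]
    [LocallyOfFinitePresentation g] [QuasiCompact g] :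
    IsLocallyConstructible
      {s : S | IsSeparated (pullback.snd f (pullback.fst g (S.fromSpecResidueField s)))} := by
  have : LocallyOfFinitePresentation (pullback.diagonal f) := by
    have : LocallyOfFinitePresentation (pullback.diagonal f ≫ pullback.fst f f) := by
      rw [pullback.diagonal_fst]
      infer_instance
    exact Limit.locallyOfFinitePresentation_of_comp _ (pullback.fst f f)
  have hR : IsLocallyConstructible (Set.range (pullback.diagonal f)) := by
    rw [← Set.image_univ]
    exact (pullback.diagonal f).isLocallyConstructible_image IsLocallyConstructible.univ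
  let G := pullback.snd f f ≫ f
  convert isLocallyConstructible_setOf_isClosed (G ≫ g) hR using 1
  ext s
  let σ := S.fromSpecResidueField s
  let ι := pullback.fst G (pullback.fst g σ)
  have hι : IsEmbedding ι := by
    have : IsPreimmersion (pullback.fst g σ) := MorphismProperty.pullback_fst _ _ inferInstance
    have : IsPreimmersion ι := MorphismProperty.pullback_fst _ _ inferInstance
    exact ι.isEmbedding
  have hr : Set.range ι = (G ≫ g) ⁻¹' {s} := range_fst_fibre G g s
  rw [Set.mem_ofPred_eq, Set.mem_ofPred_eq, isSeparated_iff,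
    show IsClosedImmersion (pullback.diagonal (pullback.snd f (pullback.fst g σ))) ↔ _ from
      Limit.diagonal_pullback_iff (P := @IsClosedImmersion.{u}) f (pullback.fst g σ),
    IsClosedImmersion.iff_isPreimmersion, Scheme.Pullback.range_snd]
  refine ⟨fun h => ?_, fun h => ⟨MorphismProperty.pullback_snd _ _ inferInstance, ?_⟩⟩
  · let e := hι.toHomeomorph.trans (Homeomorph.setCongr hr)
    rw [← e.isClosed_preimage]
    exact h.2
  · let e := hι.toHomeomorph.trans (Homeomorph.setCongr hr)
    rw [← e.isClosed_preimage] at h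
    exact h

end Groth.Agent.EGA43.Cons
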