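import Groth.Agent.EGA43.Cons.FibFlatBridge
import Groth.Agent.EGA43.Cons.FibreClosureScheme
import Groth.Agent.EGA43.QcohFlat

/-!
# The fibrewise flat locus on schemes (EGA IV 11.2.?, 9.4)
-/

set_option autoImplicit false
set_option backward.isDefEq.respectTransparency false

universe u

open CategoryTheory AlgebraicGeometry Topology TopologicalSpace Opposite

namespace Groth.Agent.EGA43.Cons

variable {X Y S : Scheme.{u}}

/-- The ideal of the fibre in the local ring at a point. -/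
theorem map_maximalIdeal_eq (h : Y ⟶ S) {W : S.Opens} (hW : IsAffineOpen W) {V : Y.Opens}
    (hV : IsAffineOpen V) (e : V ≤ h ⁻¹ᵁ W) {y : Y} (hy : y ∈ V) :
    Ideal.map (h.stalkMap y).hom (IsLocalRing.maximalIdeal (S.presheaf.stalk (h y))) =
      (((hV.primeIdealOf ⟨y, hy⟩).asIdeal.comap (h.appLE W V e).hom).map (h.appLE W V e).hom).map
        (Y.presheaf.germ V y hy).hom := by
  let _ := (S.presheaf.germ W (h y) (e hy)).hom.toAlgebra
  have hloc : IsLocalization.AtPrime (S.presheaf.stalk (h y))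
      (hW.primeIdealOf ⟨h y, e hy⟩).asIdeal := hW.isLocalization_stalk ⟨h y, e hy⟩
  have hp : (hV.primeIdealOf ⟨y, hy⟩).asIdeal.comap (h.appLE W V e).hom =
      (hW.primeIdealOf ⟨h y, e hy⟩).asIdeal := by
    have : PrimeSpectrum.comap (h.appLE W V e).hom (hV.primeIdealOf ⟨y, hy⟩) =
        hW.primeIdealOf ⟨h y, e hy⟩ := hW.fromSpec.isOpenEmbedding.injective (by
      rw [← fromSpec_comp_eq hW hV e, hV.fromSpec_primeIdealOf, hW.fromSpec_primeIdealOf])
    exact congrArg PrimeSpectrum.asIdeal this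
  have hgerm : (Y.presheaf.germ V y hy).hom.comp (h.appLE W V e).hom =
      (h.stalkMap y).hom.comp (S.presheaf.germ W (h y) (e hy)).hom := by
    rw [← CommRingCat.hom_comp, ← CommRingCat.hom_comp]
    congr 1
    rw [Scheme.Hom.appLE, Category.assoc, TopCat.Presheaf.germ_res, Scheme.Hom.germ_stalkMap]
  rw [hp, ← IsLocalization.AtPrime.map_eq_maximalIdeal (hW.primeIdealOf ⟨h y, e hy⟩).asIdeal,
    Ideal.map_map, Ideal.map_map, hgerm]
  rfl

/-- The fibre module `F_s` is flat over `Y_s` at `x`. -/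
def IsFibFlatAt (f : X ⟶ Y) (h : Y ⟶ S) (F : X.Modules) (x : X) : Prop :=
  letI := FlatMod.moduleStalkOver f F x
  Module.Flat (↑(Y.presheaf.stalk (f x)) ⧸ Ideal.map (h.stalkMap (f x)).hom (IsLocalRing.maximalIdeal ↑(S.presheaf.stalk (h (f x)))))
    (↑(F.presheaf.stalk x) ⧸ (Ideal.map (h.stalkMap (f x)).hom (IsLocalRing.maximalIdeal ↑(S.presheaf.stalk (h (f x)))) •
      (⊤ : Submodule ↑(Y.presheaf.stalk (f x)) ↑(F.presheaf.stalk x))))

theorem isFibFlatAt_iff (f : X ⟶ Y) (h : Y ⟶ S) (F : X.Modules) [Coh.IsQCoh F] {W : S.Opens}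
    (hW : IsAffineOpen W) {V : Y.Opens} (hV : IsAffineOpen V) (eV : V ≤ h ⁻¹ᵁ W) {U : X.Opens}
    (hU : IsAffineOpen U) (eU : U ≤ f ⁻¹ᵁ V) {x : X} (hx : x ∈ U) :
    letI := (h.appLE W V eV).hom.toAlgebra
    letI := (f.appLE V U eU).hom.toAlgebra
    letI := ((f.appLE V U eU).hom.comp (h.appLE W V eV).hom).toAlgebra
    letI := QcohFlat.overModule f F V U eU
    haveI : IsScalarTower Γ(S, W) Γ(Y, V) Γ(X, U) := .of_algebraMap_eq' rfl
    haveI : IsScalarTower Γ(Y, V) Γ(X, U) Γ(F, U) := IsScalarTower.of_algebraMap_smul fun _ _ => rfl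
    IsFibFlatAt f h F x ↔
      FibFlat Γ(S, W) Γ(Y, V) Γ(X, U) Γ(F, U) (hU.primeIdealOf ⟨x, hx⟩) := by
  let _ := (h.appLE W V eV).hom.toAlgebra
  let _ := (f.appLE V U eU).hom.toAlgebra
  let _ := ((f.appLE V U eU).hom.comp (h.appLE W V eV).hom).toAlgebra
  let _ := QcohFlat.overModule f F V U eU
  have : IsScalarTower Γ(S, W) Γ(Y, V) Γ(X, U) := .of_algebraMap_eq' rfl
  have : IsScalarTower Γ(Y, V) Γ(X, U) Γ(F, U) := IsScalarTower.of_algebraMap_smul fun _ _ => rfl
  let := FlatMod.moduleStalkOver f F x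
  let := (X.presheaf.germ U x hx).hom.toAlgebra
  let := Module.compHom (F.presheaf.stalk x) (X.presheaf.germ U x hx).hom
  let := (Y.presheaf.germ V (f x) (eU hx)).hom.toAlgebra
  let := Module.compHom (F.presheaf.stalk x)
    ((Y.presheaf.germ V (f x) (eU hx)).hom : Γ(Y, V) →+* Y.presheaf.stalk (f x))
  have : IsScalarTower Γ(Y, V) (Y.presheaf.stalk (f x)) (F.presheaf.stalk x) :=
    IsScalarTower.of_algebraMap_smul fun _ _ => rfl
  have hgerm : (X.presheaf.germ U x hx).hom.comp (f.appLE V U eU).hom =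
      (f.stalkMap x).hom.comp (Y.presheaf.germ V (f x) (eU hx)).hom := by
    rw [← CommRingCat.hom_comp, ← CommRingCat.hom_comp]
    congr 1
    rw [Scheme.Hom.appLE, Category.assoc, TopCat.Presheaf.germ_res, Scheme.Hom.germ_stalkMap]
  have : IsScalarTower Γ(Y, V) Γ(X, U) (F.presheaf.stalk x) :=
    IsScalarTower.of_algebraMap_smul fun r z => by
      change (X.presheaf.germ U x hx).hom ((f.appLE V U eU).hom r) • z =
        (f.stalkMap x).hom ((Y.presheaf.germ V (f x) (eU hx)).hom r) • z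
      rw [← RingHom.comp_apply, hgerm, RingHom.comp_apply]
  let φ : Γ(F, U) →ₗ[Γ(X, U)] F.presheaf.stalk x :=
    { toFun := fun m => F.presheaf.germ U x hx m
      map_add' := fun a b => map_add _ a b
      map_smul' := fun r m => QCohLoc.germ_smul' F hx r m }
  have := QcohFP.isLocalizedModule_germ F hU hx φ fun _ => rfl
  have hloc : IsLocalization.AtPrime (Y.presheaf.stalk (f x))
      (hV.primeIdealOf ⟨f x, eU hx⟩).asIdeal := hV.isLocalization_stalk ⟨f x, eU hx⟩
  have hq : PrimeSpectrum.comap (f.appLE V U eU).hom (hU.primeIdealOf ⟨x, hx⟩) =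
      hV.primeIdealOf ⟨f x, eU hx⟩ := hV.fromSpec.isOpenEmbedding.injective (by
    rw [← fromSpec_comp_eq hV hU eU, hU.fromSpec_primeIdealOf, hV.fromSpec_primeIdealOf])
  have hI := map_maximalIdeal_eq h hW hV eV (eU hx)
  rw [← hq] at hI
  exact flat_quotient_iff_fibFlat (hU.primeIdealOf ⟨x, hx⟩)
    (hV.primeIdealOf ⟨f x, eU hx⟩).asIdeal.primeCompl φ _ hI

theorem isLocallyConstructible_setOf_isFibFlatAt (f : X ⟶ Y) (h : Y ⟶ S)
    [LocallyOfFinitePresentation (f ≫ h)] [LocallyOfFinitePresentation h] (F : X.Modules)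
    [Coh.IsQCoh F] (hF : CohB1.IsFP F) :
    IsLocallyConstructible {x : X | IsFibFlatAt f h F x} := by
  refine isLocallyConstructible_of_forall_fromSpec fun x => ?_
  obtain ⟨W, hW, hsW, -⟩ := exists_isAffineOpen_mem_and_subset (x := h (f x)) (U := ⊤) trivial
  obtain ⟨V, hV, hyV, eV⟩ := exists_isAffineOpen_mem_and_subset (x := f x) (U := h ⁻¹ᵁ W) hsW
  obtain ⟨U, hU, hxU, eU⟩ := exists_isAffineOpen_mem_and_subset (x := x) (U := f ⁻¹ᵁ V) hyV
  refine ⟨U, hU, hxU, ?_⟩
  let _ := (h.appLE W V eV).hom.toAlgebra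
  let _ := (f.appLE V U eU).hom.toAlgebra
  let _ := ((f.appLE V U eU).hom.comp (h.appLE W V eV).hom).toAlgebra
  let _ := QcohFlat.overModule f F V U eU
  have : IsScalarTower Γ(S, W) Γ(Y, V) Γ(X, U) := .of_algebraMap_eq' rfl
  have : IsScalarTower Γ(Y, V) Γ(X, U) Γ(F, U) := IsScalarTower.of_algebraMap_smul fun _ _ => rfl
  have hA : Algebra.FinitePresentation Γ(S, W) Γ(Y, V) := h.finitePresentation_appLE hW hV eV
  have hAC : Algebra.FinitePresentation Γ(S, W) Γ(X, U) := by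
    have := (f ≫ h).finitePresentation_appLE hW hU (eU.trans (f.preimage_mono eV))
    rwa [← Scheme.Hom.appLE_comp_appLE f h W V U eV eU, CommRingCat.hom_comp] at this
  have : Algebra.FinitePresentation Γ(Y, V) Γ(X, U) :=
    Algebra.FinitePresentation.of_restrict_scalars_finitePresentation Γ(S, W) Γ(Y, V) Γ(X, U)
  have := QcohFP.finitePresentation_sections F hF hU
  suffices he : (hU.fromSpec ⁻¹' {x | IsFibFlatAt f h F x} : Set (PrimeSpectrum Γ(X, U))) =
      {q | FibFlat Γ(S, W) Γ(Y, V) Γ(X, U) Γ(F, U) q} by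
    rw [he]
    exact isConstructible_setOf_fibFlat
  ext (q : PrimeSpectrum Γ(X, U))
  have hy : hU.fromSpec q ∈ U := hU.range_fromSpec.le ⟨q, rfl⟩
  have hpr : hU.primeIdealOf ⟨_, hy⟩ = q :=
    hU.fromSpec.isOpenEmbedding.injective (hU.fromSpec_primeIdealOf _)
  rw [Set.mem_preimage, Set.mem_ofPred_eq, isFibFlatAt_iff f h F hW hV eV hU eU hy, hpr]
  rfl

theorem isLocallyConstructible_setOf_forall_fibre_isFibFlatAt (f : X ⟶ Y) (h : Y ⟶ S)
    [LocallyOfFinitePresentation (f ≫ h)] [QuasiCompact (f ≫ h)]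
    [LocallyOfFinitePresentation h] (F : X.Modules)
    [Coh.IsQCoh F] (hF : CohB1.IsFP F) :
    IsLocallyConstructible {s : S | ∀ x : X, (f ≫ h) x = s → IsFibFlatAt f h F x} := by
  have he : {s : S | ∀ x : X, (f ≫ h) x = s → IsFibFlatAt f h F x} =
      ((f ≫ h) '' {x : X | IsFibFlatAt f h F x}ᶜ)ᶜ := by
    ext s
    simp only [Set.mem_ofPred_eq, Set.mem_compl_iff, Set.mem_image]
    grind
  rw [he]
  exact isLocallyConstructible_compl ((f ≫ h).isLocallyConstructible_image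
    (isLocallyConstructible_compl (isLocallyConstructible_setOf_isFibFlatAt f h F hF)))

end Groth.Agent.EGA43.Cons
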