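import Groth.Agent.EGA43.Cons.FibreCritFT
import Groth.Agent.EGA43.Cons.FibFlatMor
import Mathlib.RingTheory.Flat.FaithfullyFlat.Basic

/-!
# The criterion of flatness by fibres on schemes (EGA IV 11.3.10)
-/

set_option autoImplicit false
set_option backward.isDefEq.respectTransparency false

universe u

open CategoryTheory AlgebraicGeometry Topology TopologicalSpace Opposite

namespace Groth.Agent.EGA43.Cons

/-- `R → T → U` local, `N` nonzero finite over `U`, flat over `T` and `R`: then `T` is flat over `R`. -/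
theorem flat_of_flat_nontrivial {R T U N : Type u} [CommRing R] [CommRing T] [CommRing U]
    [IsLocalRing T] [IsLocalRing U] [Algebra R T] [Algebra T U] [IsLocalHom (algebraMap T U)]
    [AddCommGroup N] [Module U N] [Module T N] [IsScalarTower T U N] [Module R N]
    [IsScalarTower R T N] [Module.Finite U N] [Nontrivial N] [Module.Flat T N] [Module.Flat R N] :
    Module.Flat R T := by
  have : Module.FaithfullyFlat T N := by
    refine ⟨fun m hm => ?_⟩
    intro he
    have hm' := IsLocalRing.eq_maximalIdeal hm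
    subst hm'
    have htop : (IsLocalRing.maximalIdeal U) • (⊤ : Submodule U N) = ⊤ := by
      refine top_le_iff.1 fun z _ => ?_
      have hz : z ∈ IsLocalRing.maximalIdeal T • (⊤ : Submodule T N) := he.ge trivial
      refine Submodule.smul_induction_on hz (fun a ha z _ => ?_) fun _ _ => add_mem
      rw [← algebraMap_smul U a z]
      exact Submodule.smul_mem_smul (map_nonunit (algebraMap T U) a ha) trivial
    have hbot := Submodule.eq_bot_of_le_smul_of_le_jacobson_bot _ _ Module.Finite.fg_top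
      htop.ge (IsLocalRing.maximalIdeal_le_jacobson ⊥)
    exact not_subsingleton N
      ⟨fun a b => ((Submodule.eq_bot_iff _).1 hbot a trivial).trans
        ((Submodule.eq_bot_iff _).1 hbot b trivial).symm⟩
  exact FlatCrit.flat_of_flat_of_faithfullyFlat (M := N)

theorem finite_of_isLocalizedModule {C M Cq Mq : Type u} [CommRing C] [CommRing Cq] [Algebra C Cq]
    (S : Submonoid C) [IsLocalization S Cq] [AddCommGroup M] [Module C M] [AddCommGroup Mq]
    [Module C Mq] [Module Cq Mq] [IsScalarTower C Cq Mq] (φ : M →ₗ[C] Mq) [IsLocalizedModule S φ]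
    [Module.Finite C M] : Module.Finite Cq Mq :=
  Module.Finite.of_isLocalizedModule S φ

variable {X Y S : Scheme.{u}} (f : X ⟶ Y) (h : Y ⟶ S)

theorem finite_stalk_of_isFP (F : X.Modules) [Coh.IsQCoh F] (hF : CohB1.IsFP F) (x : X) :
    Module.Finite (X.presheaf.stalk x) (F.presheaf.stalk x) := by
  obtain ⟨U, hU, hxU, -⟩ := exists_isAffineOpen_mem_and_subset (x := x) (U := ⊤) trivial
  have := QcohFP.finitePresentation_sections F hF hU
  let := (X.presheaf.germ U x hxU).hom.toAlgebra
  let := Module.compHom (F.presheaf.stalk x) (X.presheaf.germ U x hxU).hom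
  have : IsScalarTower Γ(X, U) (X.presheaf.stalk x) (F.presheaf.stalk x) :=
    .of_algebraMap_smul fun _ _ => rfl
  let φ : Γ(F, U) →ₗ[Γ(X, U)] F.presheaf.stalk x :=
    { toFun := fun m => F.presheaf.germ U x hxU m
      map_add' := fun a b => map_add _ a b
      map_smul' := fun r m => QCohLoc.germ_smul' F hxU r m }
  have := QcohFP.isLocalizedModule_germ F hU hxU φ fun _ => rfl
  have : IsLocalization.AtPrime (X.presheaf.stalk x) (hU.primeIdealOf ⟨x, hxU⟩).asIdeal :=
    hU.isLocalization_stalk ⟨x, hxU⟩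
  exact finite_of_isLocalizedModule (hU.primeIdealOf ⟨x, hxU⟩).asIdeal.primeCompl φ

section Crit

variable [LocallyOfFinitePresentation (f ≫ h)] [LocallyOfFiniteType h]

/-- **Criterion of flatness by fibres** at a point. -/
theorem isFlatOverAt_of_isFibFlatAt (F : X.Modules) [Coh.IsQCoh F] (hF : CohB1.IsFP F) (x : X)
    (h₁ : FlatMod.IsFlatOverAt (f ≫ h) F x) (h₂ : IsFibFlatAt f h F x) :
    FlatMod.IsFlatOverAt f F x := by
  obtain ⟨W, hW, hsW, -⟩ := exists_isAffineOpen_mem_and_subset (x := h (f x)) (U := ⊤) trivial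
  obtain ⟨V, hV, hyV, eV⟩ := exists_isAffineOpen_mem_and_subset (x := f x) (U := h ⁻¹ᵁ W) hsW
  obtain ⟨U, hU, hxU, eU⟩ := exists_isAffineOpen_mem_and_subset (x := x) (U := f ⁻¹ᵁ V) hyV
  let _ := (h.appLE W V eV).hom.toAlgebra
  let _ := (f.appLE V U eU).hom.toAlgebra
  let _ := ((f.appLE V U eU).hom.comp (h.appLE W V eV).hom).toAlgebra
  let _ := QcohFlat.overModule f F V U eU
  have : IsScalarTower Γ(S, W) Γ(Y, V) Γ(X, U) := .of_algebraMap_eq' rfl
  have : IsScalarTower Γ(Y, V) Γ(X, U) Γ(F, U) := IsScalarTower.of_algebraMap_smul fun _ _ => rfl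
  let _ := Module.compHom Γ(F, U) ((f.appLE V U eU).hom.comp (h.appLE W V eV).hom)
  have : IsScalarTower Γ(S, W) Γ(X, U) Γ(F, U) := IsScalarTower.of_algebraMap_smul fun _ _ => rfl
  have hA : Algebra.FiniteType Γ(S, W) Γ(Y, V) := h.finiteType_appLE hW hV eV
  have hcomp : ((f ≫ h).appLE W U (eU.trans (f.preimage_mono eV))).hom =
      (f.appLE V U eU).hom.comp (h.appLE W V eV).hom := by
    rw [← Scheme.Hom.appLE_comp_appLE f h W V U eV eU, CommRingCat.hom_comp]
  have hAC : Algebra.FinitePresentation Γ(S, W) Γ(X, U) := by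
    have := (f ≫ h).finitePresentation_appLE hW hU (eU.trans (f.preimage_mono eV))
    rwa [hcomp] at this
  have := QcohFP.finitePresentation_sections F hF hU
  rw [QcohFlat.isFlatOverAt_iff f F hV hU eU hxU]
  refine flat_of_fibFlat_of_finiteType (A := Γ(S, W)) _ ?_
    ((isFibFlatAt_iff f h F hW hV eV hU eU hxU).1 h₂)
  have := (QcohFlat.isFlatOverAt_iff (f ≫ h) F hW hU (eU.trans (f.preimage_mono eV)) hxU).1 h₁
  unfold QcohFlat.overModule at this
  convert this using 3 <;> rw [hcomp]

omit [LocallyOfFinitePresentation (f ≫ h)] [LocallyOfFiniteType h] in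
/-- If `F_x ≠ 0` is flat over `Y` and over `S`, then `Y` is flat over `S` at `f x`. -/
theorem flat_stalkMap_of_isFlatOverAt (F : X.Modules) [Coh.IsQCoh F] (hF : CohB1.IsFP F) (x : X)
    (hx : Nontrivial (F.presheaf.stalk x)) (h₁ : FlatMod.IsFlatOverAt (f ≫ h) F x)
    (h₂ : FlatMod.IsFlatOverAt f F x) : (h.stalkMap (f x)).hom.Flat := by
  let := FlatMod.moduleStalkOver f F x
  let := (f.stalkMap x).hom.toAlgebra
  let := (h.stalkMap (f x)).hom.toAlgebra
  let := Module.compHom (F.presheaf.stalk x) ((h.stalkMap (f x)).hom)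
  have : IsScalarTower (Y.presheaf.stalk (f x)) (X.presheaf.stalk x) (F.presheaf.stalk x) :=
    .of_algebraMap_smul fun _ _ => rfl
  have : IsScalarTower (S.presheaf.stalk (h (f x))) (Y.presheaf.stalk (f x)) (F.presheaf.stalk x) :=
    .of_algebraMap_smul fun _ _ => rfl
  have : IsLocalHom (algebraMap (Y.presheaf.stalk (f x)) (X.presheaf.stalk x)) :=
    inferInstanceAs (IsLocalHom (f.stalkMap x).hom)
  have := finite_stalk_of_isFP F hF x
  have h₂' : Module.Flat (Y.presheaf.stalk (f x)) (F.presheaf.stalk x) := h₂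
  have : Module.Flat (S.presheaf.stalk (h (f x))) (F.presheaf.stalk x) := by
    have he : FlatMod.moduleStalkOver (f ≫ h) F x =
        Module.compHom (F.presheaf.stalk x) ((h.stalkMap (f x)).hom) := by
      refine Module.ext' _ _ fun r m => ?_
      show ((f ≫ h).stalkMap x).hom r • m = (f.stalkMap x).hom ((h.stalkMap (f x)).hom r) • m
      rw [Scheme.Hom.stalkMap_comp]
      rfl
    unfold FlatMod.IsFlatOverAt at h₁
    rw [he] at h₁
    exact h₁
  exact flat_of_flat_nontrivial (U := X.presheaf.stalk x) (N := F.presheaf.stalk x)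

omit [LocallyOfFinitePresentation (f ≫ h)] [LocallyOfFiniteType h] in
theorem flat_stalkMap_iff_of_affine {W : Y.Opens} (hW : IsAffineOpen W) {U : X.Opens}
    (hU : IsAffineOpen U) (e : U ≤ f ⁻¹ᵁ W) {x : X} (hx : x ∈ U) :
    letI := (f.appLE W U e).hom.toAlgebra
    (f.stalkMap x).hom.Flat ↔ Module.Flat Γ(Y, W)
      (LocalizedModule (hU.primeIdealOf ⟨x, hx⟩).asIdeal.primeCompl Γ(X, U)) := by
  let := (f.appLE W U e).hom.toAlgebra
  let := (f.stalkMap x).hom.toAlgebra
  let := (X.presheaf.germ U x hx).hom.toAlgebra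
  let := (Y.presheaf.germ W (f x) (e hx)).hom.toAlgebra
  let := ((f.stalkMap x).hom.comp
    ((Y.presheaf.germ W (f x) (e hx)).hom : Γ(Y, W) →+* Y.presheaf.stalk (f x))).toAlgebra
  have : IsScalarTower Γ(Y, W) (Y.presheaf.stalk (f x)) (X.presheaf.stalk x) :=
    .of_algebraMap_eq' rfl
  have hgerm : (X.presheaf.germ U x hx).hom.comp (f.appLE W U e).hom =
      (f.stalkMap x).hom.comp (Y.presheaf.germ W (f x) (e hx)).hom := by
    rw [← CommRingCat.hom_comp, ← CommRingCat.hom_comp]
    congr 1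
    rw [Scheme.Hom.appLE, Category.assoc, TopCat.Presheaf.germ_res, Scheme.Hom.germ_stalkMap]
  have : IsScalarTower Γ(Y, W) Γ(X, U) (X.presheaf.stalk x) := .of_algebraMap_eq' hgerm.symm
  have hlocX : IsLocalization.AtPrime (X.presheaf.stalk x) (hU.primeIdealOf ⟨x, hx⟩).asIdeal :=
    hU.isLocalization_stalk ⟨x, hx⟩
  have : IsLocalizedModule (hU.primeIdealOf ⟨x, hx⟩).asIdeal.primeCompl
      (Algebra.linearMap Γ(X, U) (X.presheaf.stalk x)) :=
    (isLocalizedModule_iff_isLocalization' _ _).2 hlocX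
  let E := (IsLocalizedModule.iso (hU.primeIdealOf ⟨x, hx⟩).asIdeal.primeCompl
    (Algebra.linearMap Γ(X, U) (X.presheaf.stalk x))).restrictScalars Γ(Y, W)
  have hloc : IsLocalization.AtPrime (Y.presheaf.stalk (f x))
      (hW.primeIdealOf ⟨f x, e hx⟩).asIdeal := hW.isLocalization_stalk ⟨f x, e hx⟩
  show Module.Flat (Y.presheaf.stalk (f x)) (X.presheaf.stalk x) ↔ _
  rw [Module.flat_iff_of_isLocalization (Y.presheaf.stalk (f x))
    (hW.primeIdealOf ⟨f x, e hx⟩).asIdeal.primeCompl (X.presheaf.stalk x)]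
  exact Module.Flat.equiv_iff E |>.symm

/-- **Criterion of flatness by fibres** for the structure sheaf. -/
theorem flat_stalkMap_of_isFibFlatMorAt (x : X) (h₁ : ((f ≫ h).stalkMap x).hom.Flat)
    (h₂ : IsFibFlatMorAt f h x) : (f.stalkMap x).hom.Flat ∧ (h.stalkMap (f x)).hom.Flat := by
  obtain ⟨W, hW, hsW, -⟩ := exists_isAffineOpen_mem_and_subset (x := h (f x)) (U := ⊤) trivial
  obtain ⟨V, hV, hyV, eV⟩ := exists_isAffineOpen_mem_and_subset (x := f x) (U := h ⁻¹ᵁ W) hsW
  obtain ⟨U, hU, hxU, eU⟩ := exists_isAffineOpen_mem_and_subset (x := x) (U := f ⁻¹ᵁ V) hyV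
  let _ := (h.appLE W V eV).hom.toAlgebra
  let _ := (f.appLE V U eU).hom.toAlgebra
  let _ := ((f.appLE V U eU).hom.comp (h.appLE W V eV).hom).toAlgebra
  have : IsScalarTower Γ(S, W) Γ(Y, V) Γ(X, U) := .of_algebraMap_eq' rfl
  have hA : Algebra.FiniteType Γ(S, W) Γ(Y, V) := h.finiteType_appLE hW hV eV
  have hcomp : ((f ≫ h).appLE W U (eU.trans (f.preimage_mono eV))).hom =
      (f.appLE V U eU).hom.comp (h.appLE W V eV).hom := by
    rw [← Scheme.Hom.appLE_comp_appLE f h W V U eV eU, CommRingCat.hom_comp]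
  have hAC : Algebra.FinitePresentation Γ(S, W) Γ(X, U) := by
    have := (f ≫ h).finitePresentation_appLE hW hU (eU.trans (f.preimage_mono eV))
    rwa [hcomp] at this
  have hf : (f.stalkMap x).hom.Flat := by
    rw [flat_stalkMap_iff_of_affine f hV hU eU hxU]
    refine flat_of_fibFlat_of_finiteType (A := Γ(S, W)) _ ?_
      ((isFibFlatMorAt_iff f h hW hV eV hU eU hxU).1 h₂)
    have := (flat_stalkMap_iff_of_affine (f ≫ h) hW hU (eU.trans (f.preimage_mono eV)) hxU).1 h₁
    convert this using 3 <;> first | rfl | rw [hcomp]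
  refine ⟨hf, ?_⟩
  let := (f.stalkMap x).hom.toAlgebra
  let := (h.stalkMap (f x)).hom.toAlgebra
  let := ((f.stalkMap x).hom.comp (h.stalkMap (f x)).hom).toAlgebra
  have : IsScalarTower (S.presheaf.stalk (h (f x))) (Y.presheaf.stalk (f x)) (X.presheaf.stalk x) :=
    .of_algebraMap_eq' rfl
  have : IsLocalHom (algebraMap (Y.presheaf.stalk (f x)) (X.presheaf.stalk x)) :=
    inferInstanceAs (IsLocalHom (f.stalkMap x).hom)
  have : Module.Flat (Y.presheaf.stalk (f x)) (X.presheaf.stalk x) := hf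
  have : Module.Flat (S.presheaf.stalk (h (f x))) (X.presheaf.stalk x) := by
    rw [Scheme.Hom.stalkMap_comp, CommRingCat.hom_comp] at h₁
    exact h₁
  exact flat_of_flat_nontrivial (U := X.presheaf.stalk x) (N := X.presheaf.stalk x)

end Crit

theorem isFibFlatAt_of_isFlatOverAt (F : X.Modules) (x : X) (h₂ : FlatMod.IsFlatOverAt f F x) :
    IsFibFlatAt f h F x := by
  let := FlatMod.moduleStalkOver f F x
  have : Module.Flat (Y.presheaf.stalk (f x)) (F.presheaf.stalk x) := h₂
  unfold IsFibFlatAt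
  rw [flat_quotient_iff_quotFlat]
  exact FlatCrit.quotFlat_of_module_flat _

theorem isFibFlatMorAt_of_flat (x : X) (h₂ : (f.stalkMap x).hom.Flat) : IsFibFlatMorAt f h x := by
  let := (f.stalkMap x).hom.toAlgebra
  have : Module.Flat (Y.presheaf.stalk (f x)) (X.presheaf.stalk x) := h₂
  unfold IsFibFlatMorAt
  rw [flat_quotient_iff_quotFlat]
  exact FlatCrit.quotFlat_of_module_flat _

end Groth.Agent.EGA43.Cons
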