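import Groth.Agent.H8Top.Noetherian
import Mathlib.RingTheory.Spectrum.Prime.ConstructibleSet
import Mathlib.RingTheory.Spectrum.Prime.Topology
import Mathlib.RingTheory.Spectrum.Prime.Noetherian
import Mathlib.RingTheory.Extension.Presentation.Core
import Mathlib.RingTheory.FiniteStability
import Mathlib.RingTheory.TensorProduct.Finite
import Mathlib.LinearAlgebra.TensorProduct.Finiteness
import Mathlib.RingTheory.TensorProduct.DirectLimitFG
import Mathlib.RingTheory.Adjoin.FG

/-!
# Engine for constructibility of loci defined fibrewise (affine, algebraic part)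

* `isConstructible_of_fibrewise`: constructibility may be checked over a principal open of each
  irreducible closed subset of the base;
* `exists_model_with_set`: a finitely presented algebra with a constructible subset of its spectrum
  comes from a Noetherian one.
-/

set_option autoImplicit false
set_option backward.isDefEq.respectTransparency false

universe u

open PrimeSpectrum TensorProduct Topology

namespace Groth.Agent.EGA43.Cons

/-- Constructibility can be checked generically over every irreducible closed subset of the base. -/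
theorem isConstructible_of_fibrewise {A B : Type u} [CommRing A] [CommRing B] [Algebra A B]
    [IsNoetherianRing A] (E : Set (PrimeSpectrum B))
    (h : ∀ p : PrimeSpectrum A, ∃ a ∉ p.asIdeal, IsConstructible
      (E ∩ comap (algebraMap A B) ⁻¹' (closure {p} ∩ (basicOpen a : Set (PrimeSpectrum A))))) :
    IsConstructible E := by
  suffices ∀ T : Set (PrimeSpectrum A), IsClosed T →
      IsConstructible (E ∩ comap (algebraMap A B) ⁻¹' T) by
    simpa using this Set.univ isClosed_univ
  refine H8Top.closed_induction
    (motive := fun T ↦ IsConstructible (E ∩ comap (algebraMap A B) ⁻¹' T)) ?_ ?_ ?_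
  · simp
  · intro T T' _ _ hT hT'
    rw [Set.preimage_union, Set.inter_union_distrib_left]
    exact hT.union hT'
  · intro T hT hTi ih
    obtain ⟨p, hp⟩ := QuasiSober.sober hTi hT
    obtain ⟨a, ha, hc⟩ := h p
    rw [show closure {p} = T from hp.def] at hc
    have hrest := ih (T \ (basicOpen a : Set (PrimeSpectrum A)))
      (hT.sdiff (basicOpen a).isOpen)
      (H8Top.sdiff_ssubset_of_inter_nonempty ⟨p, ha, hp.mem⟩)
    convert hc.union hrest using 1
    rw [← Set.inter_union_distrib_left, ← Set.preimage_union, Set.inter_union_sdiff]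

/-- The step enlarging the base ring of a model so that it sees given elements. -/
theorem exists_model_with_set_aux {R C A M B : Type u} [CommRing R] [CommRing C] [CommRing A]
    [CommRing M] [CommRing B] [Algebra R C] [Algebra R A] [Algebra C A] [IsScalarTower R C A]
    [Algebra R M] [Algebra.FinitePresentation R M] [Algebra A B] [IsNoetherianRing C]
    (e : A ⊗[R] M ≃ₐ[A] B) (S : ConstructibleSetData B)
    (h : ∀ D ∈ S, ∀ b : B, (b = D.f ∨ ∃ i, b = D.g i) → ∃ z : C ⊗[R] M,
      e ((IsScalarTower.toAlgHom R C A).toLinearMap.rTensor M z) = b) :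
    ∃ (A₀ B₀ : Type u) (_ : CommRing A₀) (_ : CommRing B₀) (_ : Algebra A₀ B₀) (_ : Algebra A₀ A)
      (_ : IsNoetherianRing A₀) (_ : Algebra.FinitePresentation A₀ B₀)
      (e : A ⊗[A₀] B₀ ≃ₐ[A] B) (Z₀ : Set (PrimeSpectrum B₀)), IsConstructible Z₀ ∧
      S.toSet = comap ((e : A ⊗[A₀] B₀ →+* B).comp
        (Algebra.TensorProduct.includeRight (R := A₀) (A := A) (B := B₀)).toRingHom) ⁻¹' Z₀ := by
  classical
  let e' : A ⊗[C] (C ⊗[R] M) ≃ₐ[A] B :=
    (Algebra.TensorProduct.cancelBaseChange R C A A M).trans e
  refine ⟨C, C ⊗[R] M, inferInstance, inferInstance, inferInstance, inferInstance, inferInstance,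
    inferInstance, e', ?_⟩
  let φ : C ⊗[R] M →+* B := (e' : A ⊗[C] (C ⊗[R] M) →+* B).comp
    (Algebra.TensorProduct.includeRight (R := C) (A := A) (B := C ⊗[R] M)).toRingHom
  have key : ∀ z : C ⊗[R] M, φ z = e ((IsScalarTower.toAlgHom R C A).toLinearMap.rTensor M z) :=
    fun z => by
      induction z using TensorProduct.induction_on with
      | zero => simp
      | add u v hu hv => simp only [map_add, hu, hv]
      | tmul c m =>
        show e (Algebra.TensorProduct.cancelBaseChange R C A A M ((1 : A) ⊗ₜ[C] (c ⊗ₜ[R] m))) = _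
        rw [Algebra.TensorProduct.cancelBaseChange_tmul, LinearMap.rTensor_tmul]
        congr 2
        exact (Algebra.algebraMap_eq_smul_one c).symm
  let lift : B → C ⊗[R] M := fun b =>
    if hb : ∃ z, φ z = b then hb.choose else 0
  have hlift : ∀ D ∈ S, ∀ b : B, (b = D.f ∨ ∃ i, b = D.g i) → φ (lift b) = b := fun D hD b hb => by
    have : ∃ z, φ z = b := by
      obtain ⟨z, hz⟩ := h D hD b hb
      exact ⟨z, (key z).trans hz⟩
    simp only [lift, dif_pos this]
    exact this.choose_spec
  let S₀ : ConstructibleSetData (C ⊗[R] M) := S.image fun D => ⟨lift D.f, D.n, lift ∘ D.g⟩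
  refine ⟨S₀.toSet, S₀.isConstructible_toSet, ?_⟩
  rw [← ConstructibleSetData.toSet_map]
  congr 1
  show S = S₀.map φ
  rw [ConstructibleSetData.map, Finset.image_image]
  conv_lhs => rw [← Finset.image_id (s := S)]
  refine Finset.image_congr fun D hD => ?_
  simp only [Function.comp_apply, id_eq]
  refine BasicConstructibleSetData.ext ?_ rfl ?_
  · exact (hlift D hD _ (Or.inl rfl)).symm
  · exact heq_of_eq (funext fun i => (hlift D hD _ (Or.inr ⟨i, rfl⟩)).symm)

/-- A finitely presented algebra with a constructible subset of its spectrum has a Noetherian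
model. -/
theorem exists_model_with_set {A B : Type u} [CommRing A] [CommRing B] [Algebra A B]
    [Algebra.FinitePresentation A B] {Z : Set (PrimeSpectrum B)} (hZ : IsConstructible Z) :
    ∃ (A₀ B₀ : Type u) (_ : CommRing A₀) (_ : CommRing B₀) (_ : Algebra A₀ B₀) (_ : Algebra A₀ A)
      (_ : IsNoetherianRing A₀) (_ : Algebra.FinitePresentation A₀ B₀)
      (e : A ⊗[A₀] B₀ ≃ₐ[A] B) (Z₀ : Set (PrimeSpectrum B₀)), IsConstructible Z₀ ∧
      Z = comap ((e : A ⊗[A₀] B₀ →+* B).comp
        (Algebra.TensorProduct.includeRight (R := A₀) (A := A) (B := B₀)).toRingHom) ⁻¹' Z₀ := by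
  classical
  let P := Algebra.Presentation.ofFinitePresentation A B
  let M := P.ModelOfHasCoeffs P.Core
  let e : A ⊗[P.Core] M ≃ₐ[A] B := P.tensorModelOfHasCoeffsEquiv P.Core
  have : IsNoetherianRing P.Core := Algebra.FiniteType.isNoetherianRing ℤ _
  obtain ⟨S, rfl⟩ := exists_constructibleSetData_iff.2 hZ
  -- the finitely many coefficients
  let coeffs : Finset B := S.biUnion fun C => insert C.f (Finset.univ.image C.g)
  choose C₁ hC₁ y hy using fun b : B => TensorProduct.Algebra.exists_of_fg (e.symm b)
  let C : Subalgebra P.Core A := coeffs.sup C₁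
  have hC : C.FG := Finset.sup_induction Subalgebra.fg_bot
    (fun a ha b hb => Subalgebra.FG.sup ha hb) fun b _ => hC₁ b
  have : Algebra.FiniteType P.Core C := C.fg_iff_finiteType.1 hC
  have : IsNoetherianRing C := Algebra.FiniteType.isNoetherianRing P.Core _
  have hmem : ∀ b ∈ coeffs, ∃ z : C ⊗[P.Core] M,
      e ((IsScalarTower.toAlgHom P.Core C A).toLinearMap.rTensor M z) = b := fun b hb => by
    refine ⟨(Subalgebra.inclusion (Finset.le_sup (f := C₁) hb)).toLinearMap.rTensor M (y b), ?_⟩
    rw [← LinearMap.rTensor_comp_apply]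
    have h2 : (IsScalarTower.toAlgHom P.Core C A).toLinearMap ∘ₗ
        (Subalgebra.inclusion (Finset.le_sup (f := C₁) hb)).toLinearMap =
        (C₁ b).val.toLinearMap := rfl
    rw [h2, hy b, AlgEquiv.apply_symm_apply]
  exact exists_model_with_set_aux e S fun D hD b hb => hmem b (Finset.mem_biUnion.2 ⟨D, hD, by
    rcases hb with rfl | ⟨i, rfl⟩
    · exact Finset.mem_insert_self _ _
    · exact Finset.mem_insert_of_mem (Finset.mem_image_of_mem _ (Finset.mem_univ i))⟩)

end Groth.Agent.EGA43.Cons
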