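import Groth.Agent.EGA43.Cons.FibFlat
import Groth.Agent.EGA43.Cons.Engine
import Mathlib.RingTheory.Spectrum.Prime.Chevalley
import Mathlib.RingTheory.TensorProduct.MvPolynomial
import Mathlib.RingTheory.TensorProduct.IsBaseChangePi
import Mathlib.RingTheory.Polynomial.Basic
import Mathlib.RingTheory.Localization.InvSubmonoid
import Mathlib.RingTheory.RingHom.FiniteType

/-!
# The locus of fibrewise flatness is constructible (EGA IV 11.2, 9.4)
-/

set_option autoImplicit false
set_option backward.isDefEq.respectTransparency false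

universe u

open TensorProduct Function PrimeSpectrum Topology

namespace Groth.Agent.EGA43.Cons

section Tensor

variable {R R' T T' N N' : Type u} [CommRing R] [CommRing R'] [CommRing T] [CommRing T']
  [Algebra R T] [Algebra R R'] [Algebra T T'] [Algebra R' T'] [Algebra R T']
  [IsScalarTower R T T'] [IsScalarTower R R' T'] [Algebra.IsPushout R T R' T']
  [AddCommGroup N] [Module R' N] [Module R N] [IsScalarTower R R' N]
  [AddCommGroup N'] [Module T' N'] [Module T N'] [IsScalarTower T T' N']
  [Module R' N'] [IsScalarTower R' T' N'] [Module R N'] [IsScalarTower R T N']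
  [IsScalarTower R R' N']

theorem liftBaseChange_cancel (μ : N →ₗ[R'] N') (z : T ⊗[R] N) :
    μ.liftBaseChange T' ((Algebra.IsPushout.cancelBaseChange R T R' T' N).symm z) =
      (μ.restrictScalars R).liftBaseChange T z := by
  induction z using TensorProduct.induction_on with
  | zero => simp
  | add u v hu hv => simp only [map_add, hu, hv]
  | tmul t n => simp

/-- Base change along a pushout square may be computed on either side. -/
theorem isBaseChange_iff_of_isPushout (μ : N →ₗ[R'] N') :
    IsBaseChange T' μ ↔ IsBaseChange T (μ.restrictScalars R) := by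
  let c := Algebra.IsPushout.cancelBaseChange R T R' T' N
  have key : ⇑((μ.restrictScalars R).liftBaseChange T) = ⇑(μ.liftBaseChange T') ∘ ⇑c.symm :=
    funext fun z => (liftBaseChange_cancel μ z).symm
  constructor
  · intro h
    have hb : Bijective ((μ.restrictScalars R).liftBaseChange T) := by
      rw [key]
      refine Bijective.comp ?_ c.symm.bijective
      have : ⇑(μ.liftBaseChange T') = ⇑h.equiv := funext fun z => by
        induction z using TensorProduct.induction_on with
        | zero => simp
        | add u v hu hv => simp only [map_add, hu, hv]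
        | tmul t n => simp [IsBaseChange.equiv_tmul]
      rw [this]
      exact h.equiv.bijective
    exact IsBaseChange.of_equiv (LinearEquiv.ofBijective _ hb) fun x => by simp
  · intro h
    have hb : Bijective (μ.liftBaseChange T') := by
      have : Bijective ((μ.restrictScalars R).liftBaseChange T) := by
        have : ⇑((μ.restrictScalars R).liftBaseChange T) = ⇑h.equiv := funext fun z => by
          induction z using TensorProduct.induction_on with
          | zero => simp
          | add u v hu hv => simp only [map_add, hu, hv]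
          | tmul t n => simp [IsBaseChange.equiv_tmul]
        rw [this]
        exact h.equiv.bijective
      rw [key] at this
      exact (Bijective.of_comp_iff _ c.symm.bijective).1 this
    exact IsBaseChange.of_equiv (LinearEquiv.ofBijective _ hb) fun x => by simp

/-- The quotient of a base change by the image of a submodule is a base change. -/
theorem isBaseChange_quotient {P P' : Type u} [CommRing P] [CommRing P'] [Algebra P P']
    {V V' : Type u} [AddCommGroup V] [Module P V] [AddCommGroup V'] [Module P' V'] [Module P V']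
    [IsScalarTower P P' V'] {f : V →ₗ[P] V'} (hf : IsBaseChange P' f) (K : Submodule P V)
    (K' : Submodule P' V') (hK : K' = Submodule.span P' (f '' K))
    (μ : (V ⧸ K) →ₗ[P] V' ⧸ K') (hμ : ∀ v, μ (K.mkQ v) = K'.mkQ (f v)) : IsBaseChange P' μ := by
  refine IsBaseChange.of_lift_unique μ fun Q _ _ _ _ g => ?_
  let _ : AddCommGroup Q := Module.addCommMonoidToAddCommGroup P'
  let h := hf.lift (g ∘ₗ K.mkQ)
  have hh : ∀ v, h (f v) = g (K.mkQ v) := fun v => hf.lift_eq _ v
  have hle : K' ≤ LinearMap.ker h := by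
    rw [hK, Submodule.span_le]
    rintro _ ⟨v, hv, rfl⟩
    rw [SetLike.mem_coe, LinearMap.mem_ker, hh, Submodule.mkQ_apply,
      (Submodule.Quotient.mk_eq_zero K).2 hv, map_zero]
  refine ⟨K'.liftQ h hle, ?_, fun g' hg' => ?_⟩
  · refine LinearMap.ext fun w => ?_
    obtain ⟨v, rfl⟩ := K.mkQ_surjective w
    rw [LinearMap.comp_apply, LinearMap.restrictScalars_apply, hμ, Submodule.mkQ_apply K',
      Submodule.liftQ_apply, hh]
  · apply Submodule.linearMap_qext
    refine hf.algHom_ext _ _ fun v => ?_
    have := LinearMap.congr_fun hg' (K.mkQ v)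
    rw [LinearMap.comp_apply, LinearMap.restrictScalars_apply, hμ] at this
    rw [LinearMap.comp_apply, this, LinearMap.comp_apply, Submodule.mkQ_apply K',
      Submodule.liftQ_apply, hh]

end Tensor

section Helpers

/-- Composition of pushout squares. -/
theorem isPushout_comp (A₁ A B₁ B Q₁ Q : Type u) [CommRing A₁] [CommRing A] [CommRing B₁]
    [CommRing B] [CommRing Q₁] [CommRing Q] [Algebra A₁ A] [Algebra A₁ B₁] [Algebra A₁ B]
    [Algebra A B] [Algebra B₁ B] [IsScalarTower A₁ A B] [IsScalarTower A₁ B₁ B]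
    [Algebra B₁ Q₁] [Algebra B₁ Q] [Algebra B Q] [Algebra Q₁ Q] [IsScalarTower B₁ B Q]
    [IsScalarTower B₁ Q₁ Q] [Algebra A₁ Q₁] [Algebra A₁ Q] [Algebra A Q] [IsScalarTower A₁ B₁ Q₁]
    [IsScalarTower A₁ A Q] [IsScalarTower A₁ Q₁ Q] [IsScalarTower A₁ B Q] [IsScalarTower A B Q]
    (h₁ : Algebra.IsPushout A₁ A B₁ B) (h₂ : Algebra.IsPushout B₁ B Q₁ Q) :
    Algebra.IsPushout A₁ A Q₁ Q := by
  have := h₁.symm
  exact ((Algebra.IsPushout.comp_iff (R := A₁) (S := B₁) (R' := A) (S' := B) (T := Q₁)
    (T' := Q)).2 h₂.symm).symm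

theorem exists_model_with_coeffs_aux {R C A M B : Type u} [CommRing R] [CommRing C] [CommRing A]
    [CommRing M] [CommRing B] [Algebra R C] [Algebra R A] [Algebra C A] [IsScalarTower R C A]
    [Algebra R M] [Algebra.FinitePresentation R M] [Algebra A B] [IsNoetherianRing C]
    (e : A ⊗[R] M ≃ₐ[A] B) (t : Finset B)
    (h : ∀ b ∈ t, ∃ z : C ⊗[R] M,
      e ((IsScalarTower.toAlgHom R C A).toLinearMap.rTensor M z) = b) :
    ∃ (A₁ B₁ : Type u) (_ : CommRing A₁) (_ : CommRing B₁) (_ : Algebra A₁ B₁) (_ : Algebra A₁ A)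
      (_ : IsNoetherianRing A₁) (_ : Algebra.FinitePresentation A₁ B₁)
      (e : A ⊗[A₁] B₁ ≃ₐ[A] B), ∀ b ∈ t, ∃ b₁ : B₁, e ((1 : A) ⊗ₜ[A₁] b₁) = b := by
  let e' : A ⊗[C] (C ⊗[R] M) ≃ₐ[A] B :=
    (Algebra.TensorProduct.cancelBaseChange R C A A M).trans e
  refine ⟨C, C ⊗[R] M, inferInstance, inferInstance, inferInstance, inferInstance, inferInstance,
    inferInstance, e', fun b hb => ?_⟩
  obtain ⟨z, hz⟩ := h b hb
  refine ⟨z, Eq.trans ?_ hz⟩
  clear hz
  induction z using TensorProduct.induction_on with
  | zero => simp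
  | add u v hu hv => simp only [tmul_add, map_add, hu, hv]
  | tmul c m =>
    show e (Algebra.TensorProduct.cancelBaseChange R C A A M ((1 : A) ⊗ₜ[C] (c ⊗ₜ[R] m))) = _
    rw [Algebra.TensorProduct.cancelBaseChange_tmul, LinearMap.rTensor_tmul]
    congr 2
    exact (Algebra.algebraMap_eq_smul_one c).symm

/-- A Noetherian model seeing finitely many given elements. -/
theorem exists_model_with_coeffs (A B : Type u) [CommRing A] [CommRing B] [Algebra A B]
    [Algebra.FinitePresentation A B] (t : Finset B) :
    ∃ (A₁ B₁ : Type u) (_ : CommRing A₁) (_ : CommRing B₁) (_ : Algebra A₁ B₁) (_ : Algebra A₁ A)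
      (_ : IsNoetherianRing A₁) (_ : Algebra.FinitePresentation A₁ B₁)
      (e : A ⊗[A₁] B₁ ≃ₐ[A] B), ∀ b ∈ t, ∃ b₁ : B₁, e ((1 : A) ⊗ₜ[A₁] b₁) = b := by
  classical
  let P := Algebra.Presentation.ofFinitePresentation A B
  let M := P.ModelOfHasCoeffs P.Core
  let e : A ⊗[P.Core] M ≃ₐ[A] B := P.tensorModelOfHasCoeffsEquiv P.Core
  have : IsNoetherianRing P.Core := Algebra.FiniteType.isNoetherianRing ℤ _
  choose C₁ hC₁ y hy using fun b : B => TensorProduct.Algebra.exists_of_fg (e.symm b)
  let C : Subalgebra P.Core A := t.sup C₁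
  have hC : C.FG := Finset.sup_induction Subalgebra.fg_bot
    (fun a ha b hb => Subalgebra.FG.sup ha hb) fun b _ => hC₁ b
  have : Algebra.FiniteType P.Core C := C.fg_iff_finiteType.1 hC
  have : IsNoetherianRing C := Algebra.FiniteType.isNoetherianRing P.Core _
  refine exists_model_with_coeffs_aux (C := C) e t fun b hb => ?_
  refine ⟨(Subalgebra.inclusion (Finset.le_sup (f := C₁) hb)).toLinearMap.rTensor M (y b), ?_⟩
  rw [← LinearMap.rTensor_comp_apply]
  have h2 : (IsScalarTower.toAlgHom P.Core C A).toLinearMap ∘ₗ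
      (Subalgebra.inclusion (Finset.le_sup (f := C₁) hb)).toLinearMap =
      (C₁ b).val.toLinearMap := rfl
  rw [h2, hy b, AlgEquiv.apply_symm_apply]

theorem FibFlat.of_linearEquiv {A B C M N : Type u} [CommRing A] [CommRing B] [CommRing C]
    [Algebra A B] [Algebra B C] [Algebra A C] [IsScalarTower A B C] [AddCommGroup M] [Module C M]
    [Module B M] [IsScalarTower B C M] [AddCommGroup N] [Module C N] [Module B N]
    [IsScalarTower B C N] {q : PrimeSpectrum C} (e : M ≃ₗ[C] N) (h : FibFlat A B C M q) :
    FibFlat A B C N q := by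
  intro X Y _ _ _ _ i hY hi z hz
  let eX := AlgebraTensorModule.congr e (LinearEquiv.refl B X)
  let eY := AlgebraTensorModule.congr e (LinearEquiv.refl B Y)
  obtain ⟨z, rfl⟩ := eX.surjective z
  have hnat : eY (i.lTensor M z) = i.lTensor N (eX z) := by
    clear hz
    induction z using TensorProduct.induction_on with
    | zero => simp
    | add u v hu hv => simp only [map_add, hu, hv]
    | tmul m x => simp [eX, eY]
  obtain ⟨c, hc, hcz⟩ := h i hY hi z (eY.injective (by rw [hnat, hz, map_zero]))
  exact ⟨c, hc, by rw [← map_smul, hcz, map_zero]⟩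

theorem flat_localizedModule {A C M : Type u} [CommRing A] [CommRing C] [Algebra A C]
    [AddCommGroup M] [Module A M] [Module C M] [IsScalarTower A C M] [Module.Flat A M]
    (q : PrimeSpectrum C) : Module.Flat A (LocalizedModule q.asIdeal.primeCompl M) := by
  rw [Module.Flat.iff_rTensor_preserves_injective_linearMap]
  intro X Y _ _ _ _ i hi
  exact FlatOpen.rTensor_injective_localized i _ fun x hx =>
    ⟨1, q.asIdeal.primeCompl.one_mem, by
      rw [one_smul]
      exact Module.Flat.lTensor_preserves_injective_linearMap i hi (hx.trans (map_zero _).symm)⟩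

end Helpers

section Noetherian

/-- Over a base on which `M` is flat the fibrewise flat locus is the flat locus. -/
theorem setOf_fibFlat_eq {A B C M : Type u} [CommRing A] [CommRing B] [CommRing C] [Algebra A B]
    [Algebra B C] [Algebra A C] [IsScalarTower A B C] [AddCommGroup M] [Module C M] [Module B M]
    [IsScalarTower B C M] [Module A M] [IsScalarTower A B M] [IsScalarTower A C M]
    [IsNoetherianRing B] [IsNoetherianRing C] [Module.Finite C M] [Module.Flat A M] :
    {q | FibFlat A B C M q} =
      {q : PrimeSpectrum C | Module.Flat B (LocalizedModule q.asIdeal.primeCompl M)} := by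
  ext q
  refine ⟨fun h => ?_, fun h => fibFlat_of_flat h⟩
  have : Module.Flat A (LocalizedModule q.asIdeal.primeCompl M) := flat_localizedModule q
  exact flat_of_fibFlat h

variable {A B C M : Type u} [CommRing A] [CommRing B] [CommRing C] [Algebra A B] [Algebra B C]
  [Algebra A C] [IsScalarTower A B C] [AddCommGroup M] [Module C M] [Module B M]
  [IsScalarTower B C M] [Module A M] [IsScalarTower A B M] [IsScalarTower A C M]
  [IsNoetherianRing A] [Algebra.FiniteType A B] [Algebra.FiniteType B C] [Module.Finite C M]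

set_option maxHeartbeats 800000 in
theorem exists_fibFlat_stratum {D : Type u} [CommRing D] [Algebra A D] [IsNoetherianRing D]
    [Algebra.FinitePresentation A D] [Module.Flat D (D ⊗[A] M)] :
    IsConstructible ({q | FibFlat A B C M q} ∩ Set.range (comap
      (Algebra.TensorProduct.includeRight (R := A) (A := D) (B := C)).toRingHom)) := by
  let B' := D ⊗[A] B
  let C' := D ⊗[A] C
  let M' := D ⊗[A] M
  let φ : B' →ₐ[D] C' := Algebra.TensorProduct.map (AlgHom.id D D) (IsScalarTower.toAlgHom A B C)
  let _ : Algebra B' C' := φ.toRingHom.toAlgebra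
  have : IsScalarTower D B' C' := .of_algebraMap_eq fun d => (φ.commutes d).symm
  let _ : Algebra B B' := Algebra.TensorProduct.rightAlgebra
  let _ : Algebra C C' := Algebra.TensorProduct.rightAlgebra
  let _ : Algebra B C' := ((algebraMap C C').comp (algebraMap B C)).toAlgebra
  have : IsScalarTower B B' C' := .of_algebraMap_eq fun b => by
    show (1 : D) ⊗ₜ[A] algebraMap B C b = φ ((1 : D) ⊗ₜ[A] b)
    rw [Algebra.TensorProduct.map_tmul, map_one]
    rfl
  have : IsScalarTower B C C' := .of_algebraMap_eq' rfl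
  let _ : Module C' M' := FlatDescent.bcModule A C M D
  let _ := Module.compHom M' φ.toRingHom
  have : IsScalarTower B' C' M' := .of_algebraMap_smul fun _ _ => rfl
  have hDB : IsScalarTower D B' M' := .of_algebraMap_smul fun d x => by
    show φ (algebraMap D B' d) • x = d • x
    rw [φ.commutes, algebraMap_smul]
  let _ := Module.compHom M' (algebraMap B B')
  have : IsScalarTower B B' M' := .of_algebraMap_smul fun _ _ => rfl
  have : IsScalarTower A D M' := inferInstance
  have hB : ∀ (b : B) (d : D) (m : M), b • (d ⊗ₜ[A] m : M') = d ⊗ₜ[A] (b • m) := fun b d m => by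
    show φ ((1 : D) ⊗ₜ[A] b) • (d ⊗ₜ[A] m) = _
    rw [Algebra.TensorProduct.map_tmul, map_one, FlatDescent.bc_smul_tmul, one_mul]
    exact congrArg (d ⊗ₜ[A] ·) (algebraMap_smul C b m)
  have : IsScalarTower A B M' := .of_algebraMap_smul fun a x => by
    induction x using TensorProduct.induction_on with
    | zero => simp
    | add u v hu hv => simp only [smul_add, hu, hv]
    | tmul d m => rw [hB, algebraMap_smul, TensorProduct.tmul_smul]
  let μ : M →ₗ[B] M' :=
    { toFun := fun m => (1 : D) ⊗ₜ[A] m
      map_add' := tmul_add _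
      map_smul' := fun b m => (hB b 1 m).symm }
  have hμA : IsBaseChange D (μ.restrictScalars A) := TensorProduct.isBaseChange A M D
  have hμ : IsBaseChange B' μ :=
    (isBaseChange_iff_of_isPushout (R := A) (T := D) (R' := B) (T' := B') μ).2 hμA
  have hμC : ∀ (c : C) m, μ (c • m) = algebraMap C C' c • μ m := fun c m => by
    show (1 : D) ⊗ₜ[A] (c • m) = ((1 : D) ⊗ₜ[A] c) • ((1 : D) ⊗ₜ[A] m)
    rw [FlatDescent.bc_smul_tmul, one_mul]
  have hpre : comap (algebraMap C C') ⁻¹' {q | FibFlat A B C M q} =
      {q' | FibFlat D B' C' M' q'} := by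
    ext q'
    exact ⟨fun h => FibFlat.baseChange hμ hμC h, fun h => FibFlat.of_baseChange hμ hμC h⟩
  have : IsNoetherianRing B := Algebra.FiniteType.isNoetherianRing A B
  have : Algebra.FiniteType A C := Algebra.FiniteType.trans (S := B) inferInstance inferInstance
  have : Algebra.FinitePresentation A C := Algebra.FinitePresentation.of_finiteType.1 inferInstance
  have hC'fin : Algebra.FiniteType D C' := Algebra.FiniteType.baseChange (A := C) D
  have : IsNoetherianRing C' := Algebra.FiniteType.isNoetherianRing D C'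
  have : Algebra.FiniteType D B' := Algebra.FiniteType.baseChange (A := B) D
  have : IsNoetherianRing B' := Algebra.FiniteType.isNoetherianRing D B'
  have : Algebra.FiniteType B' C' := Algebra.FiniteType.of_restrictScalars_finiteType D B' C'
  have : Module.Finite C' M' := FlatDescent.finite_bc A C M D
  have hopen : IsConstructible (comap (algebraMap C C') ⁻¹' {q | FibFlat A B C M q}) := by
    rw [hpre, setOf_fibFlat_eq]
    exact H8Top.isConstructible_of_isOpen (FlatOpen.isOpen_flatLocus B' C' M')
  have hfp : (algebraMap C C').FinitePresentation := by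
    have : Algebra.FinitePresentation C (C ⊗[A] D) := inferInstance
    have he : algebraMap C C' = (Algebra.TensorProduct.comm A C D).toRingHom.comp
        (algebraMap C (C ⊗[A] D)) := by
      ext c
      show (1 : D) ⊗ₜ[A] c = Algebra.TensorProduct.comm A C D (c ⊗ₜ[A] 1)
      rw [Algebra.TensorProduct.comm_tmul]
    rw [he]
    exact RingHom.FinitePresentation.comp
      (RingHom.FinitePresentation.of_bijective (Algebra.TensorProduct.comm A C D).bijective)
      (RingHom.finitePresentation_algebraMap.2 this)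
  have := isConstructible_comap_image hfp hopen
  rwa [Set.image_preimage_eq_inter_range] at this

/-- The fibrewise flat locus is constructible over a Noetherian base. -/
theorem isConstructible_setOf_fibFlat_of_isNoetherianRing :
    IsConstructible {q | FibFlat A B C M q} := by
  refine isConstructible_of_fibrewise (A := A) _ fun p => ?_
  have : Algebra.FiniteType A C := Algebra.FiniteType.trans (S := B) inferInstance inferInstance
  obtain ⟨a', ha', hfree⟩ := FlatOpen.gFree_baseChange A C M (A ⧸ p.asIdeal)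
  obtain ⟨a, rfl⟩ := Ideal.Quotient.mk_surjective a'
  have hap : a ∉ p.asIdeal := fun h => ha' (Ideal.Quotient.eq_zero_iff_mem.2 h)
  refine ⟨a, hap, ?_⟩
  let D := Localization.Away (Ideal.Quotient.mk p.asIdeal a)
  have : Module.Flat D (D ⊗[A] M) :=
    Module.Flat.of_linearEquiv (AlgebraTensorModule.cancelBaseChange A (A ⧸ p.asIdeal) D D M).symm
  have : Algebra.FinitePresentation A D := Algebra.FinitePresentation.of_finiteType.1
    (Algebra.FiniteType.trans (S := A ⧸ p.asIdeal) inferInstance
      (IsLocalization.finiteType_of_monoid_fg (Submonoid.powers (Ideal.Quotient.mk p.asIdeal a)) D))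
  have : IsNoetherianRing D := Algebra.FiniteType.isNoetherianRing A D
  convert exists_fibFlat_stratum (A := A) (B := B) (C := C) (M := M) (D := D) using 2
  -- the range of `Spec (D ⊗ C) → Spec C`
  ext q
  rw [Set.mem_preimage, Set.mem_inter_iff, PrimeSpectrum.closure_singleton, mem_zeroLocus,
    SetLike.mem_coe, PrimeSpectrum.mem_basicOpen]
  constructor
  · rintro ⟨hp, ha⟩
    have hp' : ∀ x ∈ p.asIdeal, algebraMap A q.asIdeal.ResidueField x = 0 := fun x hx => by
      rw [IsScalarTower.algebraMap_apply A C, Ideal.algebraMap_residueField_eq_zero]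
      exact hp hx
    let h₁ : (A ⧸ p.asIdeal) →ₐ[A] q.asIdeal.ResidueField :=
      Ideal.Quotient.liftₐ p.asIdeal (Algebra.ofId A _) hp'
    have hu : IsUnit (h₁ (Ideal.Quotient.mk p.asIdeal a)) := by
      rw [isUnit_iff_ne_zero]
      show algebraMap A q.asIdeal.ResidueField a ≠ 0
      rw [IsScalarTower.algebraMap_apply A C, ne_eq, Ideal.algebraMap_residueField_eq_zero]
      exact ha
    let h₂ : D →ₐ[A] q.asIdeal.ResidueField :=
      { IsLocalization.Away.lift (S := D) (Ideal.Quotient.mk p.asIdeal a) (g := h₁.toRingHom) hu with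
        commutes' := fun x => by
          show IsLocalization.Away.lift (S := D) (Ideal.Quotient.mk p.asIdeal a) (g := h₁.toRingHom)
            hu (algebraMap A D x) = _
          rw [IsScalarTower.algebraMap_apply A (A ⧸ p.asIdeal) D,
            IsLocalization.Away.lift_eq (S := D)]
          exact h₁.commutes x }
    let Ψ : D ⊗[A] C →ₐ[A] q.asIdeal.ResidueField :=
      Algebra.TensorProduct.lift h₂ (IsScalarTower.toAlgHom A C _) fun _ _ => Commute.all _ _
    refine ⟨⟨RingHom.ker Ψ, RingHom.ker_isPrime _⟩, ?_⟩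
    ext c
    show Ψ ((1 : D) ⊗ₜ[A] c) = 0 ↔ _
    rw [Algebra.TensorProduct.lift_tmul, map_one, one_mul, IsScalarTower.toAlgHom_apply,
      Ideal.algebraMap_residueField_eq_zero]
  · rintro ⟨q', rfl⟩
    have hmap : ∀ x : A, x ∈ (comap (algebraMap A C) (comap (Algebra.TensorProduct.includeRight
        (R := A) (A := D) (B := C)).toRingHom q')).asIdeal ↔
        algebraMap A D x ⊗ₜ[A] (1 : C) ∈ q'.asIdeal := fun x => by
      show (1 : D) ⊗ₜ[A] algebraMap A C x ∈ q'.asIdeal ↔ _
      rw [Algebra.algebraMap_eq_smul_one, ← TensorProduct.smul_tmul, ← Algebra.algebraMap_eq_smul_one]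
    refine ⟨fun x hx => (hmap x).2 ?_, fun ha => ?_⟩
    · rw [IsScalarTower.algebraMap_apply A (A ⧸ p.asIdeal) D,
        show algebraMap A (A ⧸ p.asIdeal) x = 0 from Ideal.Quotient.eq_zero_iff_mem.2 hx, map_zero,
        zero_tmul]
      exact q'.asIdeal.zero_mem
    · exact q'.isPrime.ne_top (Ideal.eq_top_of_isUnit_mem _ ((hmap a).1 ha)
        ((IsLocalization.Away.algebraMap_isUnit (S := D) (Ideal.Quotient.mk p.asIdeal a)).map
          (Algebra.TensorProduct.includeLeft (R := A) (S := A) (A := D) (B := C))))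

end Noetherian

section Model

/-- A tensor presentation is a pushout. -/
theorem isPushout_of_tensor {A₁ A B₁ B : Type u} [CommRing A₁] [CommRing A] [CommRing B₁]
    [CommRing B] [Algebra A₁ A] [Algebra A₁ B₁] [Algebra A₁ B] [Algebra A B] [Algebra B₁ B]
    [IsScalarTower A₁ A B] [IsScalarTower A₁ B₁ B] (e : A ⊗[A₁] B₁ ≃ₐ[A] B)
    (he : ∀ b, algebraMap B₁ B b = e ((1 : A) ⊗ₜ[A₁] b)) : Algebra.IsPushout A₁ A B₁ B := by
  let _ : Algebra B₁ (A ⊗[A₁] B₁) := Algebra.TensorProduct.rightAlgebra
  have h : Algebra.IsPushout A₁ A B₁ (A ⊗[A₁] B₁) := TensorProduct.isPushout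
  exact Algebra.IsPushout.of_equiv (h := h) e (RingHom.ext fun b => (he b).symm)

set_option maxHeartbeats 800000 in
/-- The fibrewise flat locus of a quotient of a free module with a Noetherian model. -/
theorem isConstructible_setOf_fibFlat_of_model {A₁ A B₁ B Q₁ Q : Type u} [CommRing A₁] [CommRing A]
    [CommRing B₁] [CommRing B] [CommRing Q₁] [CommRing Q] [Algebra A₁ A] [Algebra A₁ B₁]
    [Algebra A₁ B] [Algebra A B] [Algebra B₁ B] [IsScalarTower A₁ A B] [IsScalarTower A₁ B₁ B]
    [Algebra B₁ Q₁] [Algebra B₁ Q] [Algebra B Q] [Algebra A Q] [IsScalarTower A B Q] [Algebra Q₁ Q]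
    [IsScalarTower B₁ B Q] [IsScalarTower B₁ Q₁ Q]
    (h₁ : Algebra.IsPushout A₁ A B₁ B) (h₂ : Algebra.IsPushout B₁ B Q₁ Q) [IsNoetherianRing A₁]
    [Algebra.FiniteType A₁ B₁] [Algebra.FiniteType B₁ Q₁] {k : ℕ} (s : Finset (Fin k → Q))
    (hs : ∀ w ∈ s, ∀ j, ∃ x : Q₁, algebraMap Q₁ Q x = w j) :
    IsConstructible {q | FibFlat A B Q
      ((Fin k → Q) ⧸ Submodule.span Q (s : Set (Fin k → Q))) q} := by
  let _ : Algebra A₁ Q₁ := ((algebraMap B₁ Q₁).comp (algebraMap A₁ B₁)).toAlgebra
  let _ : Algebra A₁ Q := ((algebraMap B Q).comp (algebraMap A₁ B)).toAlgebra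
  have : IsScalarTower A₁ B₁ Q₁ := .of_algebraMap_eq' rfl
  have : IsScalarTower A₁ B Q := .of_algebraMap_eq' rfl
  have : IsScalarTower A₁ A Q := .of_algebraMap_eq fun x => by
    rw [IsScalarTower.algebraMap_apply A B Q, ← IsScalarTower.algebraMap_apply A₁ A B]
    rfl
  have : IsScalarTower A₁ Q₁ Q := .of_algebraMap_eq fun x => by
    rw [IsScalarTower.algebraMap_apply A₁ B₁ Q₁, ← IsScalarTower.algebraMap_apply B₁ Q₁ Q,
      IsScalarTower.algebraMap_apply B₁ B Q, ← IsScalarTower.algebraMap_apply A₁ B₁ B]
    rfl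
  have hpAQ : Algebra.IsPushout A₁ A Q₁ Q := isPushout_comp A₁ A B₁ B Q₁ Q h₁ h₂
  choose w₀ hw₀ using fun w : s => fun j => hs w.1 w.2 j
  let K₁ : Submodule Q₁ (Fin k → Q₁) := Submodule.span _ (Set.range w₀)
  let K := Submodule.span Q (s : Set (Fin k → Q))
  let f : (Fin k → Q₁) →ₗ[Q₁] (Fin k → Q) := LinearMap.compLeft (Algebra.linearMap Q₁ Q) (Fin k)
  have hf : IsBaseChange Q f := IsBaseChange.finitePow (Fin k) (IsBaseChange.linearMap _ _)
  have hfw : ∀ w : s, f (w₀ w) = w.1 := fun w => funext fun j => hw₀ w j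
  have hfK : Set.MapsTo f K₁ K := fun x hx => by
    induction hx using Submodule.span_induction with
    | mem x hx => obtain ⟨w, rfl⟩ := hx; rw [hfw]; exact Submodule.subset_span w.2
    | zero => rw [map_zero]; exact zero_mem _
    | add x y _ _ hx hy => rw [map_add]; exact add_mem hx hy
    | smul c x _ hx =>
      rw [map_smul, ← algebraMap_smul Q c (f x)]
      exact K.smul_mem _ hx
  have hKeq : K = Submodule.span Q (f '' K₁) := le_antisymm
    (Submodule.span_le.2 fun w hw => Submodule.subset_span
      ⟨w₀ ⟨w, hw⟩, Submodule.subset_span ⟨_, rfl⟩, hfw _⟩)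
    (Submodule.span_le.2 (Set.image_subset_iff.2 hfK))
  let μQ : ((Fin k → Q₁) ⧸ K₁) →ₗ[Q₁] (Fin k → Q) ⧸ K :=
    K₁.liftQ ((K.mkQ.restrictScalars Q₁) ∘ₗ f) fun x hx =>
      (Submodule.Quotient.mk_eq_zero K).2 (hfK hx)
  have hμQ := isBaseChange_quotient hf K₁ K hKeq μQ fun v => rfl
  have hμ : IsBaseChange B (μQ.restrictScalars B₁) :=
    (isBaseChange_iff_of_isPushout (R := B₁) (T := B) (R' := Q₁) (T' := Q) μQ).1 hμQ
  have hμC : ∀ (c : Q₁) m, μQ.restrictScalars B₁ (c • m) =
      algebraMap Q₁ Q c • μQ.restrictScalars B₁ m :=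
    fun c m => (μQ.map_smul c m).trans (algebraMap_smul _ c _).symm
  have key : {q | FibFlat A B Q ((Fin k → Q) ⧸ K) q} =
      comap (algebraMap Q₁ Q) ⁻¹' {q | FibFlat A₁ B₁ Q₁ ((Fin k → Q₁) ⧸ K₁) q} := by
    ext q
    exact ⟨fun h => FibFlat.of_baseChange hμ hμC h, fun h => FibFlat.baseChange hμ hμC h⟩
  show IsConstructible {q | FibFlat A B Q ((Fin k → Q) ⧸ K) q}
  rw [key]
  obtain ⟨S, hS⟩ := exists_constructibleSetData_iff.2
    (isConstructible_setOf_fibFlat_of_isNoetherianRing (A := A₁) (B := B₁) (C := Q₁)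
      (M := (Fin k → Q₁) ⧸ K₁))
  rw [← hS, ← ConstructibleSetData.toSet_map]
  exact ConstructibleSetData.isConstructible_toSet _

set_option maxHeartbeats 800000 in
/-- The fibrewise flat locus of a finitely presented module over a polynomial algebra. -/
theorem isConstructible_setOf_fibFlat_quotient (A B : Type u) [CommRing A] [CommRing B]
    [Algebra A B] [Algebra.FinitePresentation A B] (n k : ℕ)
    (s : Finset (Fin k → MvPolynomial (Fin n) B)) :
    IsConstructible {q | FibFlat A B (MvPolynomial (Fin n) B) ((Fin k → MvPolynomial (Fin n) B) ⧸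
      Submodule.span (MvPolynomial (Fin n) B) (s : Set (Fin k → MvPolynomial (Fin n) B))) q} := by
  classical
  obtain ⟨A₁, B₁, _, _, _, _, _, _, e, hmod⟩ := exists_model_with_coeffs A B
    (s.biUnion fun w => Finset.univ.biUnion fun j => (w j).coeffs)
  let φ : B₁ →+* B := (e : A ⊗[A₁] B₁ →+* B).comp
    (Algebra.TensorProduct.includeRight (R := A₁) (A := A) (B := B₁)).toRingHom
  let _ : Algebra B₁ B := φ.toAlgebra
  let _ : Algebra A₁ B := ((algebraMap A B).comp (algebraMap A₁ A)).toAlgebra
  have : IsScalarTower A₁ A B := .of_algebraMap_eq' rfl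
  have : IsScalarTower A₁ B₁ B := .of_algebraMap_eq fun x => by
    show algebraMap A B (algebraMap A₁ A x) = e ((1 : A) ⊗ₜ[A₁] algebraMap A₁ B₁ x)
    rw [Algebra.algebraMap_eq_smul_one (A := B₁), ← TensorProduct.smul_tmul,
      ← Algebra.algebraMap_eq_smul_one]
    exact (e.commutes _).symm
  let _ : Algebra (MvPolynomial (Fin n) B₁) (MvPolynomial (Fin n) B) :=
    MvPolynomial.algebraMvPolynomial
  refine isConstructible_setOf_fibFlat_of_model (Q₁ := MvPolynomial (Fin n) B₁)
    (isPushout_of_tensor e fun b => rfl) inferInstance s fun w hw j => ?_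
  rw [← RingHom.mem_range, ← SetLike.mem_coe, RingHom.coe_range]
  show w j ∈ Set.range (MvPolynomial.map (algebraMap B₁ B))
  rw [MvPolynomial.mem_range_map_iff_coeffs_subset]
  exact fun b hb => hmod b (Finset.mem_biUnion.2
    ⟨w, hw, Finset.mem_biUnion.2 ⟨j, Finset.mem_univ j, hb⟩⟩)

end Model

/-- The locus along a surjection of algebras. -/
theorem setOf_fibFlat_of_surjective {A B P C M : Type u} [CommRing A] [CommRing B] [CommRing P]
    [CommRing C] [Algebra A B] [Algebra B P] [Algebra A P] [IsScalarTower A B P] [Algebra B C]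
    [Algebra A C] [IsScalarTower A B C] [AddCommGroup M] [Module C M] [Module B M]
    [IsScalarTower B C M] [Module P M] [IsScalarTower B P M] (π : P →ₐ[B] C)
    (hπ : Surjective π) (hsmul : ∀ (c : P) (m : M), c • m = π c • m) :
    {q | FibFlat A B C M q} = comap π.toRingHom ⁻¹' {q | FibFlat A B P M q} := by
  ext q
  have hA : ∀ a : A, algebraMap A C a = π (algebraMap A P a) := fun a => by
    rw [IsScalarTower.algebraMap_apply A B C, IsScalarTower.algebraMap_apply A B P, π.commutes]
  have hs : ∀ {X : Type u} [AddCommGroup X] [Module B X] (c : P) (z : M ⊗[B] X),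
      c • z = π c • z := fun c z => by
    induction z using TensorProduct.induction_on with
    | zero => simp
    | add u v hu hv => simp only [smul_add, hu, hv]
    | tmul m x => rw [TensorProduct.smul_tmul', TensorProduct.smul_tmul', hsmul]
  constructor
  · intro H X Y _ _ _ _ i hY hi z hz
    obtain ⟨c, hc, hcz⟩ := H i (fun a ha y => hY a (by
      show π (algebraMap A P a) ∈ q.asIdeal
      rw [← hA]; exact ha) y) hi z hz
    obtain ⟨d, rfl⟩ := hπ c
    exact ⟨d, hc, by rw [hs, hcz]⟩
  · intro H X Y _ _ _ _ i hY hi z hz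
    obtain ⟨c, hc, hcz⟩ := H i (fun a ha y => hY a (by rw [hA]; exact ha) y) hi z hz
    exact ⟨π c, hc, by rw [← hs, hcz]⟩

theorem exists_presentation {P C M : Type u} [CommRing P] [CommRing C] [Algebra P C]
    [AddCommGroup M] [Module C M] [Module P M] [IsScalarTower P C M]
    [Module.FinitePresentation C M] (h : Surjective (algebraMap P C))
    (hker : (RingHom.ker (algebraMap P C)).FG) :
    ∃ (k : ℕ) (s : Finset (Fin k → P)),
      Nonempty (((Fin k → P) ⧸ Submodule.span P (s : Set (Fin k → P))) ≃ₗ[P] M) := by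
  have : Module.FinitePresentation P C :=
    Module.finitePresentation_of_surjective (Algebra.linearMap P C) h (by exact hker)
  have := Module.FinitePresentation.trans P M C
  obtain ⟨k, r, hr⟩ := Module.Finite.exists_fin' P M
  obtain ⟨s, hs⟩ := Module.FinitePresentation.fg_ker r hr
  exact ⟨k, s, ⟨(Submodule.quotEquivOfEq _ _ hs).trans (LinearMap.quotKerEquivOfSurjective r hr)⟩⟩

/-- **The fibrewise flat locus is constructible.** -/
theorem isConstructible_setOf_fibFlat {A B C M : Type u} [CommRing A] [CommRing B] [CommRing C]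
    [Algebra A B] [Algebra B C] [Algebra A C] [IsScalarTower A B C] [Algebra.FinitePresentation A B]
    [Algebra.FinitePresentation B C] [AddCommGroup M] [Module C M] [Module B M]
    [IsScalarTower B C M] [Module.FinitePresentation C M] :
    IsConstructible {q | FibFlat A B C M q} := by
  obtain ⟨n, π, hπ, hπker⟩ := ‹Algebra.FinitePresentation B C›.out
  let _ := Module.compHom M π.toRingHom
  let _ : Algebra (MvPolynomial (Fin n) B) C := π.toRingHom.toAlgebra
  have : IsScalarTower B (MvPolynomial (Fin n) B) M := .of_algebraMap_smul fun b m => by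
    show π (algebraMap B _ b) • m = b • m
    rw [π.commutes, algebraMap_smul]
  have : IsScalarTower (MvPolynomial (Fin n) B) C M := .of_algebraMap_smul fun _ _ => rfl
  obtain ⟨k, s, ⟨e⟩⟩ := exists_presentation (P := MvPolynomial (Fin n) B) (C := C) (M := M) hπ hπker
  have hiso : {q | FibFlat A B (MvPolynomial (Fin n) B) M q} =
      {q | FibFlat A B (MvPolynomial (Fin n) B) ((Fin k → MvPolynomial (Fin n) B) ⧸
        Submodule.span (MvPolynomial (Fin n) B) (s : Set (Fin k → MvPolynomial (Fin n) B))) q} := by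
    ext q
    exact ⟨FibFlat.of_linearEquiv e.symm, FibFlat.of_linearEquiv e⟩
  rw [setOf_fibFlat_of_surjective π hπ fun _ _ => rfl, hiso]
  obtain ⟨S, hS⟩ := exists_constructibleSetData_iff.2
    (isConstructible_setOf_fibFlat_quotient A B n k s)
  rw [← hS, ← ConstructibleSetData.toSet_map]
  exact ConstructibleSetData.isConstructible_toSet _

end Groth.Agent.EGA43.Cons
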