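import Groth.Agent.EGA43.Cons.Engine
import Groth.Agent.EGA43.FlatDescent.GenFreeGeneral
import Mathlib.RingTheory.Ideal.GoingDown
import Mathlib.RingTheory.LocalRing.ResidueField.Fiber
import Mathlib.RingTheory.Flat.Equalizer
import Mathlib.RingTheory.Ideal.MinimalPrime.Localization

/-!
# The fibrewise closure of a constructible set is constructible (EGA IV 9.5, affine case)
-/

set_option autoImplicit false
set_option backward.isDefEq.respectTransparency false

universe u

open PrimeSpectrum TensorProduct Topology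

namespace Groth.Agent.EGA43.Cons

section Def

variable (A : Type u) [CommRing A] {B : Type u} [CommRing B] [Algebra A B]

/-- Points which specialise a point of `Z` in the same fibre over `Spec A`. -/
def fibreClosure (Z : Set (PrimeSpectrum B)) : Set (PrimeSpectrum B) :=
  {q | ∃ r ∈ Z, r.asIdeal ≤ q.asIdeal ∧
    comap (algebraMap A B) r = comap (algebraMap A B) q}

variable {A}

theorem subset_fibreClosure (Z : Set (PrimeSpectrum B)) : Z ⊆ fibreClosure A Z :=
  fun q hq => ⟨q, hq, le_rfl, rfl⟩

theorem fibreClosure_mono {Z Z' : Set (PrimeSpectrum B)} (h : Z ⊆ Z') :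
    fibreClosure A Z ⊆ fibreClosure A Z' :=
  fun _ ⟨r, hr, h₁, h₂⟩ => ⟨r, h hr, h₁, h₂⟩

theorem fibreClosure_empty : fibreClosure A (∅ : Set (PrimeSpectrum B)) = ∅ :=
  Set.eq_empty_iff_forall_notMem.2 fun _ ⟨_, hr, _⟩ => hr

theorem fibreClosure_iUnion {ι : Sort*} (Z : ι → Set (PrimeSpectrum B)) :
    fibreClosure A (⋃ i, Z i) = ⋃ i, fibreClosure A (Z i) := by
  ext q
  constructor
  · rintro ⟨r, hr, h⟩
    obtain ⟨i, hi⟩ := Set.mem_iUnion.1 hr
    exact Set.mem_iUnion.2 ⟨i, r, hi, h⟩
  · intro hq
    obtain ⟨i, r, hr, h⟩ := Set.mem_iUnion.1 hq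
    exact ⟨r, Set.mem_iUnion.2 ⟨i, hr⟩, h⟩

theorem fibreClosure_union (Z Z' : Set (PrimeSpectrum B)) :
    fibreClosure A (Z ∪ Z') = fibreClosure A Z ∪ fibreClosure A Z' := by
  ext q
  constructor
  · rintro ⟨r, hr | hr, h⟩
    · exact Or.inl ⟨r, hr, h⟩
    · exact Or.inr ⟨r, hr, h⟩
  · rintro (⟨r, hr, h⟩ | ⟨r, hr, h⟩)
    · exact ⟨r, Or.inl hr, h⟩
    · exact ⟨r, Or.inr hr, h⟩

theorem fibreClosure_comap_equiv {B' : Type u} [CommRing B'] [Algebra A B'] (e : B' ≃ₐ[A] B)
    (Z : Set (PrimeSpectrum B')) :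
    fibreClosure A (comap (e : B' →+* B) ⁻¹' Z) = comap (e : B' →+* B) ⁻¹' fibreClosure A Z := by
  have hA : ∀ r : PrimeSpectrum B, comap (algebraMap A B') (comap (e : B' →+* B) r) =
      comap (algebraMap A B) r := fun r => by
    rw [← PrimeSpectrum.comap_comp_apply]
    congr 2
    exact RingHom.ext e.commutes
  ext q
  constructor
  · rintro ⟨r, hr, h₁, h₂⟩
    exact ⟨_, hr, Ideal.comap_mono h₁, by rw [hA, hA, h₂]⟩
  · rintro ⟨r, hr, h₁, h₂⟩
    have hre : comap (e : B' →+* B) (comap (e.symm : B →+* B') r) = r := by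
      ext x
      simp
    refine ⟨comap (e.symm : B →+* B') r, by rw [Set.mem_preimage, hre]; exact hr, ?_, ?_⟩
    · intro x hx
      have h := h₁ hx
      simpa using h
    · rw [← hA, hre, h₂, hA]

end Def

section BaseChange

variable {A A' B : Type u} [CommRing A] [CommRing A'] [CommRing B] [Algebra A A'] [Algebra A B]

theorem comap_algebraMap_includeRight (q' : PrimeSpectrum (A' ⊗[A] B)) :
    comap (algebraMap A B) (comap (Algebra.TensorProduct.includeRight
      (R := A) (A := A') (B := B)).toRingHom q') =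
    comap (algebraMap A A') (comap (algebraMap A' (A' ⊗[A] B)) q') := by
  rw [← PrimeSpectrum.comap_comp_apply, ← PrimeSpectrum.comap_comp_apply,
    show (Algebra.TensorProduct.includeRight (R := A) (A := A') (B := B)).toRingHom.comp
      (algebraMap A B) = (algebraMap A' (A' ⊗[A] B)).comp (algebraMap A A') by
    rw [← IsScalarTower.algebraMap_eq]
    exact RingHom.ext (Algebra.TensorProduct.includeRight (R := A) (A := A') (B := B)).commutes]

/-- Going down along an extension of the base field of an algebra. -/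
theorem exists_prime_le_fieldExt {K K' L F : Type u} [Field K] [Field K'] [Field L] [CommRing F]
    [Algebra K K'] [Algebra K L] [Algebra K F] (η : F →ₐ[K] L) (ι : K' →ₐ[K] L) (R : Ideal F)
    [R.IsPrime] (hR : R ≤ RingHom.ker η) :
    ∃ R'' : Ideal (F ⊗[K] K'), R''.IsPrime ∧
      R'' ≤ RingHom.ker (Algebra.TensorProduct.lift η ι fun _ _ => Commute.all _ _) ∧
      ∀ x : F, x ⊗ₜ[K] (1 : K') ∈ R'' ↔ x ∈ R := by
  let Ψ := Algebra.TensorProduct.lift η ι fun _ _ => Commute.all _ _
  have : (RingHom.ker Ψ).IsPrime := RingHom.ker_isPrime _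
  have : (RingHom.ker η).IsPrime := RingHom.ker_isPrime _
  have : (RingHom.ker Ψ).LiesOver (RingHom.ker η) := ⟨by
    ext x
    show η x = 0 ↔ Ψ (x ⊗ₜ[K] (1 : K')) = 0
    rw [Algebra.TensorProduct.lift_tmul, map_one, mul_one]⟩
  obtain ⟨R'', hle, hp, hover⟩ := Ideal.exists_ideal_le_liesOver_of_le (RingHom.ker Ψ) hR
  exact ⟨R'', hp, hle, fun x => (SetLike.ext_iff.1 hover.over x).symm⟩

/-- Generisations in a fibre lift to any base change of the fibre. -/
theorem exists_lift_generization (q' : PrimeSpectrum (A' ⊗[A] B)) (r : PrimeSpectrum B)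
    (hle : r.asIdeal ≤ (comap (Algebra.TensorProduct.includeRight
      (R := A) (A := A') (B := B)).toRingHom q').asIdeal)
    (hr : comap (algebraMap A B) r = comap (algebraMap A B) (comap (Algebra.TensorProduct.includeRight
      (R := A) (A := A') (B := B)).toRingHom q')) :
    ∃ r' : PrimeSpectrum (A' ⊗[A] B), r'.asIdeal ≤ q'.asIdeal ∧
      comap (algebraMap A' (A' ⊗[A] B)) r' = comap (algebraMap A' (A' ⊗[A] B)) q' ∧
      comap (Algebra.TensorProduct.includeRight (R := A) (A := A') (B := B)).toRingHom r' = r := by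
  let p' : Ideal A' := (comap (algebraMap A' (A' ⊗[A] B)) q').asIdeal
  let p : Ideal A := (comap (algebraMap A B) r).asIdeal
  have hp : p = p'.comap (algebraMap A A') := by
    show (comap (algebraMap A B) r).asIdeal = _
    rw [hr, comap_algebraMap_includeRight]
    rfl
  have : p'.LiesOver p := ⟨hp⟩
  have : r.asIdeal.LiesOver p := ⟨rfl⟩
  let φq : A' ⊗[A] B →+* q'.asIdeal.ResidueField := algebraMap _ _
  have : q'.asIdeal.LiesOver p' := ⟨rfl⟩
  let F := p.ResidueField ⊗[A] B
  let K' := p'.ResidueField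
  -- the residue field of `q'` as an algebra over the fibre and over `K'`
  let j : p.ResidueField →ₐ[A] K' := Ideal.ResidueField.mapₐ p p' (Algebra.ofId A A') hp
  let _ : Algebra p.ResidueField K' := j.toRingHom.toAlgebra
  have : IsScalarTower A p.ResidueField K' := .of_algebraMap_eq fun a => (j.commutes a).symm
  let iL : K' →ₐ[A] q'.asIdeal.ResidueField :=
    Ideal.ResidueField.mapₐ p' q'.asIdeal (IsScalarTower.toAlgHom A A' (A' ⊗[A] B)) rfl
  let ιK' : K' →+* q'.asIdeal.ResidueField := iL.toRingHom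
  let jr : p.ResidueField →ₐ[A] r.asIdeal.ResidueField :=
    Ideal.ResidueField.mapₐ p r.asIdeal (Algebra.ofId A B) rfl
  let ηB : B →ₐ[A] q'.asIdeal.ResidueField :=
    (IsScalarTower.toAlgHom A (A' ⊗[A] B) _).comp
      (Algebra.TensorProduct.includeRight (R := A) (A := A') (B := B))
  have hK : ∀ a : A, ιK' (algebraMap p.ResidueField K' (algebraMap A p.ResidueField a)) =
      algebraMap A q'.asIdeal.ResidueField a := fun a => (iL.comp j).commutes a
  let ηK : p.ResidueField →ₐ[A] q'.asIdeal.ResidueField :=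
    { ιK'.comp (algebraMap p.ResidueField K') with commutes' := hK }
  let η : F →ₐ[A] q'.asIdeal.ResidueField :=
    Algebra.TensorProduct.lift ηK ηB fun _ _ => Commute.all _ _
  let R : Ideal F := RingHom.ker (Algebra.TensorProduct.lift
    jr
    (IsScalarTower.toAlgHom A B r.asIdeal.ResidueField) fun _ _ => Commute.all _ _ :
      F →ₐ[A] r.asIdeal.ResidueField)
  have hRprime : R.IsPrime := RingHom.ker_isPrime _
  have hRB : ∀ b : B, (1 : p.ResidueField) ⊗ₜ[A] b ∈ R ↔ b ∈ r.asIdeal := fun b => by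
    rw [RingHom.mem_ker, Algebra.TensorProduct.lift_tmul, map_one, one_mul,
      IsScalarTower.toAlgHom_apply, Ideal.algebraMap_residueField_eq_zero]
  -- `R ≤ ker η`
  have hRQ : R ≤ RingHom.ker η := fun x hx => by
    obtain ⟨s, hs, b, hb⟩ := Ideal.Fiber.exists_smul_eq_one_tmul p x
    have hbr : b ∈ r.asIdeal := (hRB b).1 (hb ▸ R.smul_of_tower_mem s hx)
    have h0 : η (s • x) = 0 := by
      rw [hb, Algebra.TensorProduct.lift_tmul, map_one, one_mul]
      exact Ideal.algebraMap_residueField_eq_zero.2 (hle hbr)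
    rw [map_smul, Algebra.smul_def, mul_eq_zero] at h0
    refine RingHom.mem_ker.2 (h0.resolve_left fun h => hs ?_)
    rw [← hK, map_eq_zero, map_eq_zero, Ideal.algebraMap_residueField_eq_zero] at h
    exact h
  -- the extended fibre
  let G := F ⊗[p.ResidueField] K'
  let _ : Algebra p.ResidueField q'.asIdeal.ResidueField :=
    (ηK : p.ResidueField →+* q'.asIdeal.ResidueField).toAlgebra
  let ηalg : F →ₐ[p.ResidueField] q'.asIdeal.ResidueField :=
    { η.toRingHom with
      commutes' := fun k => by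
        show η (k ⊗ₜ[A] (1 : B)) = ηK k
        rw [Algebra.TensorProduct.lift_tmul, map_one, mul_one] }
  let ιalg : K' →ₐ[p.ResidueField] q'.asIdeal.ResidueField := { ιK' with commutes' := fun _ => rfl }
  let Ψ : G →ₐ[p.ResidueField] q'.asIdeal.ResidueField :=
    Algebra.TensorProduct.lift ηalg ιalg fun _ _ => Commute.all _ _
  let Q'' : Ideal G := RingHom.ker Ψ
  obtain ⟨R'', hR''p, hR'', hR''R⟩ : ∃ R'' : Ideal G, R''.IsPrime ∧ R'' ≤ Q'' ∧
      ∀ x : F, x ⊗ₜ[p.ResidueField] (1 : K') ∈ R'' ↔ x ∈ R :=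
    exists_prime_le_fieldExt ηalg ιalg R hRQ
  -- from `A' ⊗ B` to the extended fibre
  let iB : B →ₐ[A] G :=
    ((Algebra.TensorProduct.includeLeft (R := p.ResidueField) (S := p.ResidueField)
      (A := F) (B := K')).restrictScalars A).comp
      (Algebra.TensorProduct.includeRight (R := A) (A := p.ResidueField) (B := B))
  let iA' : A' →ₐ[A] G :=
    { (Algebra.TensorProduct.includeRight (R := p.ResidueField) (A := F) (B := K')).toRingHom.comp
        (algebraMap A' K') with
      commutes' := fun a => by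
        show Algebra.TensorProduct.includeRight (R := p.ResidueField) (A := F) (B := K')
          (algebraMap A' K' (algebraMap A A' a)) = algebraMap A G a
        rw [← IsScalarTower.algebraMap_apply, IsScalarTower.algebraMap_apply A p.ResidueField K',
          AlgHom.commutes, ← IsScalarTower.algebraMap_apply] }
  let χ : A' ⊗[A] B →ₐ[A] G := Algebra.TensorProduct.lift iA' iB fun _ _ => Commute.all _ _
  have hΨχ : ∀ z, Ψ (χ z) = φq z := fun z => by
    induction z using TensorProduct.induction_on with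
    | zero => simp
    | add u v hu hv => rw [map_add, map_add, map_add, hu, hv]
    | tmul a b =>
      have h1 : (a ⊗ₜ[A] b : A' ⊗[A] B) =
          algebraMap A' (A' ⊗[A] B) a * (1 : A') ⊗ₜ[A] b := by simp
      rw [Algebra.TensorProduct.lift_tmul, map_mul, h1, map_mul]
      congr 1
      · show Ψ ((1 : F) ⊗ₜ[p.ResidueField] algebraMap A' K' a) = _
        rw [Algebra.TensorProduct.lift_tmul, map_one, one_mul]
        show ιK' (algebraMap A' K' a) = _
        exact Ideal.ResidueField.map_algebraMap _ _ _ _ a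
      · show Ψ (((1 : p.ResidueField) ⊗ₜ[A] b : F) ⊗ₜ[p.ResidueField] (1 : K')) = _
        rw [Algebra.TensorProduct.lift_tmul, map_one, mul_one]
        show η ((1 : p.ResidueField) ⊗ₜ[A] b) = _
        rw [Algebra.TensorProduct.lift_tmul, map_one, one_mul]
        rfl
  have hQ'' : Q''.comap χ.toRingHom = q'.asIdeal := by
    ext z
    show Ψ (χ z) = 0 ↔ _
    rw [hΨχ, Ideal.algebraMap_residueField_eq_zero]
  refine ⟨⟨R''.comap χ.toRingHom, Ideal.IsPrime.comap _⟩, ?_, ?_, ?_⟩
  · exact (Ideal.comap_mono hR'').trans hQ''.le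
  · ext a
    show χ (algebraMap A' (A' ⊗[A] B) a) ∈ R'' ↔ algebraMap A' (A' ⊗[A] B) a ∈ q'.asIdeal
    constructor
    · intro h
      have := hR'' h
      rwa [RingHom.mem_ker, hΨχ, Ideal.algebraMap_residueField_eq_zero] at this
    · intro h
      have hap : a ∈ p' := h
      show χ (a ⊗ₜ[A] (1 : B)) ∈ R''
      rw [Algebra.TensorProduct.lift_tmul, map_one, mul_one]
      show (Algebra.TensorProduct.includeRight (R := p.ResidueField) (A := F) (B := K'))
        (algebraMap A' K' a) ∈ R''
      rw [Ideal.algebraMap_residueField_eq_zero.2 hap, map_zero]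
      exact R''.zero_mem
  · ext b
    show χ ((1 : A') ⊗ₜ[A] b) ∈ R'' ↔ b ∈ r.asIdeal
    rw [Algebra.TensorProduct.lift_tmul, map_one, one_mul, ← hRB b]
    exact hR''R _

/-- The fibrewise closure is compatible with base change. -/
theorem fibreClosure_baseChange (Z : Set (PrimeSpectrum B)) :
    fibreClosure A' (comap (Algebra.TensorProduct.includeRight
      (R := A) (A := A') (B := B)).toRingHom ⁻¹' Z) =
    comap (Algebra.TensorProduct.includeRight (R := A) (A := A') (B := B)).toRingHom ⁻¹'
      fibreClosure A Z := by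
  ext q'
  constructor
  · rintro ⟨r', hr', h₁, h₂⟩
    exact ⟨_, hr', Ideal.comap_mono h₁,
      by rw [comap_algebraMap_includeRight, comap_algebraMap_includeRight, h₂]⟩
  · rintro ⟨r, hr, h₁, h₂⟩
    obtain ⟨r', hle, hA', hB⟩ := exists_lift_generization q' r h₁ h₂
    exact ⟨r', by rw [Set.mem_preimage, hB]; exact hr, hle, hA'⟩

end BaseChange

section Noetherian

/-- Over an integral base, an element nonzero in a domain is outside the minimal primes of the
generic fibres. -/
theorem exists_forall_generization {A C : Type u} [CommRing A] [IsNoetherianRing A] [IsDomain A]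
    [CommRing C] [IsDomain C] [Algebra A C] [Algebra.FiniteType A C] (g : C) (hg : g ≠ 0) :
    ∃ a : A, a ≠ 0 ∧ ∀ q : PrimeSpectrum C, algebraMap A C a ∉ q.asIdeal →
      ∃ r : PrimeSpectrum C, g ∉ r.asIdeal ∧ r.asIdeal ≤ q.asIdeal ∧
        comap (algebraMap A C) r = comap (algebraMap A C) q := by
  obtain ⟨a, ha, hfree⟩ := (FlatDescent.gFree_general (R := A) (S := C)
    (M := C ⧸ Ideal.span {g})).1
  refine ⟨a, ha, fun q hq => ?_⟩
  let t : Ideal A := (comap (algebraMap A C) q).asIdeal
  have hat : a ∉ t := hq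
  let L := Localization.Away a
  let k := t.ResidueField
  let τ : L →ₐ[A] k :=
    { IsLocalization.Away.lift (S := L) a (g := algebraMap A k) (by
        rw [isUnit_iff_ne_zero, ne_eq, Ideal.algebraMap_residueField_eq_zero]; exact hat) with
      commutes' := fun x => IsLocalization.Away.lift_eq (S := L) a _ x }
  let _ : Algebra L k := τ.toRingHom.toAlgebra
  have : IsScalarTower A L k := .of_algebraMap_eq fun x => (τ.commutes x).symm
  -- multiplication by `g` stays injective on the fibre
  let m : C →ₗ[A] C := LinearMap.mulLeft A g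
  let π : C →ₗ[A] C ⧸ Ideal.span {g} := (Ideal.Quotient.mkₐ A (Ideal.span {g})).toLinearMap
  have hflatA : Module.Flat A L := IsLocalization.flat L (Submonoid.powers a)
  have hex : Function.Exact m π := fun x => by
    refine ⟨fun h => ?_, fun ⟨y, hy⟩ => ?_⟩
    · obtain ⟨y, hy⟩ := Ideal.mem_span_singleton'.1 (Ideal.Quotient.eq_zero_iff_mem.1 h)
      exact ⟨y, by rw [← hy]; exact mul_comm g y⟩
    · rw [← hy]
      exact Ideal.Quotient.eq_zero_iff_mem.2
        (Ideal.mem_span_singleton'.2 ⟨y, mul_comm y g⟩)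
  have hinjL : Function.Injective (m.baseChange L) :=
    Module.Flat.lTensor_preserves_injective_linearMap m (mul_right_injective₀ hg)
  have hexL : Function.Exact (m.baseChange L) (π.baseChange L) :=
    lTensor_exact L hex Ideal.Quotient.mk_surjective
  have hk : Function.Injective ((m.baseChange L).lTensor k) :=
    LinearMap.lTensor_injective_of_exact_of_flat (π.baseChange L)
      (LinearMap.lTensor_surjective L Ideal.Quotient.mk_surjective) (m.baseChange L) hinjL hexL k
  let c := TensorProduct.AlgebraTensorModule.cancelBaseChange A L k k C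
  have hc : ∀ z, c ((m.baseChange L).lTensor k z) = m.lTensor k (c z) := fun z => by
    induction z using TensorProduct.induction_on with
    | zero => simp
    | add u v hu hv => simp only [map_add, hu, hv]
    | tmul x y =>
      induction y using TensorProduct.induction_on with
      | zero => simp
      | add u v hu hv => simp only [tmul_add, map_add, hu, hv]
      | tmul l y =>
        simp only [c, LinearMap.lTensor_tmul, LinearMap.baseChange_tmul,
          TensorProduct.AlgebraTensorModule.cancelBaseChange_tmul]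
  have hk' : Function.Injective (m.lTensor k) := fun x y hxy => by
    apply c.symm.injective
    apply hk
    apply c.injective
    rw [hc, hc, c.apply_symm_apply, c.apply_symm_apply, hxy]
  let g₁ : k ⊗[A] C := (1 : k) ⊗ₜ[A] g
  have hg₁ : g₁ ∈ nonZeroDivisors (k ⊗[A] C) := mem_nonZeroDivisors_iff_right.2 fun z hz => by
    apply hk'
    rw [map_zero, ← hz]
    clear hz
    induction z using TensorProduct.induction_on with
    | zero => simp
    | add u v hu hv => rw [map_add, hu, hv, add_mul]
    | tmul x y => simp [m, g₁, mul_comm]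
  -- a minimal prime of the fibre below `q`
  let e := PrimeSpectrum.preimageOrderIsoFiber A C ⟨t, inferInstance⟩
  let Q := e ⟨q, rfl⟩
  obtain ⟨R, hR, hRQ⟩ := Ideal.exists_minimalPrimes_le (I := (⊥ : Ideal (k ⊗[A] C)))
    (J := Q.asIdeal) bot_le
  have : R.IsPrime := hR.1.1
  let r := e.symm ⟨R, this⟩
  refine ⟨r.1, ?_, ?_, r.2⟩
  · intro hgr
    exact notMem_nonZeroDivisors_of_mem_mem_minimalPrimes
      (show g₁ ∈ R from hgr) hR hg₁
  · have h : r ≤ e.symm Q := e.symm.monotone hRQ
    rw [e.symm_apply_apply] at h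
    exact h

variable {A B : Type u} [CommRing A] [IsNoetherianRing A] [CommRing B] [Algebra A B]
  [Algebra.FiniteType A B]

/-- The basic case: `Z = V(P) ∩ D(g)` with `P` above the base point. -/
theorem exists_fibreClosure_prime (p : PrimeSpectrum A) (P : Ideal B) [P.IsPrime] (g : B)
    (hP : p.asIdeal ≤ P.comap (algebraMap A B)) :
    ∃ a ∉ p.asIdeal, IsConstructible (fibreClosure A (zeroLocus (P : Set B) ∩ basicOpen g) ∩
      comap (algebraMap A B) ⁻¹' (closure {p} ∩ (basicOpen a : Set (PrimeSpectrum A)))) := by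
  have : IsNoetherianRing B := Algebra.FiniteType.isNoetherianRing A B
  rw [PrimeSpectrum.closure_singleton]
  by_cases hgP : g ∈ P
  · refine ⟨1, p.isPrime.one_notMem, ?_⟩
    have : zeroLocus (P : Set B) ∩ (basicOpen g : Set (PrimeSpectrum B)) = ∅ :=
      Set.eq_empty_iff_forall_notMem.2 fun q hq => hq.2 (hq.1 hgP)
    rw [this, fibreClosure_empty, Set.empty_inter]
    exact .empty
  by_cases hpP : P.comap (algebraMap A B) ≤ p.asIdeal
  swap
  · obtain ⟨a, haP, hap⟩ := Set.not_subset.1 hpP
    refine ⟨a, hap, ?_⟩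
    convert IsConstructible.empty using 1
    refine Set.eq_empty_iff_forall_notMem.2 ?_
    rintro q ⟨⟨r, hr, hle, -⟩, -, ha⟩
    exact ha (hle (hr.1 haP))
  have hB : ∀ {s : Set B}, IsConstructible (zeroLocus s) := fun {s} =>
    H8Top.isConstructible_of_isClosed (isClosed_zeroLocus _)
  have hAc : ∀ a : A, IsConstructible (comap (algebraMap A B) ⁻¹'
      (zeroLocus (p.asIdeal : Set A) ∩ (basicOpen a : Set (PrimeSpectrum A)))) := fun a => by
    rw [Set.preimage_inter]
    exact (H8Top.isConstructible_of_isClosed ((isClosed_zeroLocus _).preimage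
      (continuous_comap _))).inter
      (H8Top.isConstructible_of_isOpen ((basicOpen a).isOpen.preimage (continuous_comap _)))
  have heq : P.comap (algebraMap A B) = p.asIdeal := le_antisymm hpP hP
  have : P.LiesOver p.asIdeal := ⟨heq.symm⟩
  have : Algebra.FiniteType (A ⧸ p.asIdeal) (B ⧸ P) :=
    Algebra.FiniteType.of_restrictScalars_finiteType A _ _
  obtain ⟨a', ha', H⟩ := exists_forall_generization (A := A ⧸ p.asIdeal) (C := B ⧸ P)
    (Ideal.Quotient.mk P g) (by rwa [ne_eq, Ideal.Quotient.eq_zero_iff_mem])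
  obtain ⟨a, rfl⟩ := Ideal.Quotient.mk_surjective a'
  have ha : a ∉ p.asIdeal := fun h => ha' (Ideal.Quotient.eq_zero_iff_mem.2 h)
  refine ⟨a, ha, ?_⟩
  convert (hB (s := (P : Set B))).inter (hAc a) using 1
  ext q
  constructor
  · rintro ⟨⟨r, hr, hle, -⟩, hq⟩
    exact ⟨hr.1.trans hle, hq⟩
  · rintro ⟨hqP, hqp, hqa⟩
    obtain ⟨q₁, rfl⟩ : q ∈ Set.range (comap (Ideal.Quotient.mk P)) := by
      rw [range_comap_of_surjective _ _ Ideal.Quotient.mk_surjective, Ideal.mk_ker]
      exact hqP
    obtain ⟨r₁, hr₁, hle, heq₁⟩ := H q₁ hqa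
    refine ⟨⟨comap (Ideal.Quotient.mk P) r₁, ⟨?_, hr₁⟩, Ideal.comap_mono hle, ?_⟩, hqp, hqa⟩
    · intro x hx
      show Ideal.Quotient.mk P x ∈ r₁.asIdeal
      rw [Ideal.Quotient.eq_zero_iff_mem.2 hx]
      exact r₁.asIdeal.zero_mem
    · ext x
      exact SetLike.ext_iff.1 (congrArg PrimeSpectrum.asIdeal heq₁) (Ideal.Quotient.mk _ x)

/-- The fibrewise closure of a constructible set is constructible (Noetherian base). -/
theorem isConstructible_fibreClosure_of_isNoetherianRing {Z : Set (PrimeSpectrum B)}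
    (hZ : IsConstructible Z) : IsConstructible (fibreClosure A Z) := by
  classical
  have : IsNoetherianRing B := Algebra.FiniteType.isNoetherianRing A B
  obtain ⟨S, rfl⟩ := exists_constructibleSetData_iff.2 hZ
  refine isConstructible_of_fibrewise (A := A) _ fun p => ?_
  -- the primes cutting out `Z` over the closure of `p`
  let J : BasicConstructibleSetData B → Ideal B := fun D =>
    Ideal.span (Set.range D.g) ⊔ p.asIdeal.map (algebraMap A B)
  have hfin : ∀ D, (J D).minimalPrimes.Finite := fun D =>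
    Ideal.finite_minimalPrimes_of_isNoetherianRing B (J D)
  let σ := Σ D : S, {P : Ideal B // P ∈ (J D.1).minimalPrimes}
  have : ∀ D : S, Finite {P : Ideal B // P ∈ (J D.1).minimalPrimes} := fun D => (hfin D.1).to_subtype
  have := Fintype.ofFinite σ
  have H : ∀ i : σ, ∃ a ∉ p.asIdeal, IsConstructible
      (fibreClosure A (zeroLocus (i.2.1 : Set B) ∩ basicOpen i.1.1.f) ∩
        comap (algebraMap A B) ⁻¹' (closure {p} ∩ (basicOpen a : Set (PrimeSpectrum A)))) := fun i => by
    have : i.2.1.IsPrime := i.2.2.1.1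
    exact exists_fibreClosure_prime p i.2.1 i.1.1.f
      (Ideal.map_le_iff_le_comap.1 (le_sup_right.trans i.2.2.1.2))
  choose a ha hc using H
  refine ⟨∏ i, a i, fun h => ?_, ?_⟩
  · obtain ⟨i, -, hi⟩ := Ideal.IsPrime.prod_mem_iff.1 h
    exact ha i hi
  have hD : IsConstructible (comap (algebraMap A B) ⁻¹'
      (closure {p} ∩ (basicOpen (∏ i, a i) : Set (PrimeSpectrum A)))) := by
    rw [Set.preimage_inter]
    exact (H8Top.isConstructible_of_isClosed (isClosed_closure.preimage (continuous_comap _))).inter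
      (H8Top.isConstructible_of_isOpen ((basicOpen _).isOpen.preimage (continuous_comap _)))
  have key := (IsConstructible.iUnion hc).inter hD
  convert key using 1
  ext q
  constructor
  · rintro ⟨⟨r, hr, hle, heq⟩, hq⟩
    refine ⟨?_, hq⟩
    obtain ⟨D, hDS, hrg, hrf⟩ : ∃ D ∈ S, r ∈ zeroLocus (Set.range D.g) ∧ r ∉ zeroLocus {D.f} := by
      obtain ⟨D, hDS, hD⟩ := Set.mem_iUnion₂.1 hr
      exact ⟨D, hDS, hD.1, hD.2⟩
    have hJ : J D ≤ r.asIdeal := by
      refine sup_le (Ideal.span_le.2 hrg) (Ideal.map_le_iff_le_comap.2 ?_)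
      have hmem : comap (algebraMap A B) r ∈ closure {p} := heq ▸ hq.1
      rw [PrimeSpectrum.closure_singleton] at hmem
      exact hmem
    obtain ⟨P, hP, hPr⟩ := Ideal.exists_minimalPrimes_le hJ
    refine Set.mem_iUnion.2 ⟨⟨⟨D, hDS⟩, P, hP⟩, ⟨r, ⟨hPr, ?_⟩, hle, heq⟩, hq.1, ?_⟩
    · intro h
      exact hrf (by simpa using h)
    · intro h
      exact hq.2 (by
        rw [← Finset.prod_erase_mul _ _ (Finset.mem_univ (⟨⟨D, hDS⟩, P, hP⟩ : σ))]
        exact Ideal.mul_mem_left _ _ h)
  · rintro ⟨hmem, hq⟩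
    obtain ⟨⟨⟨D, hDS⟩, P, hP⟩, ⟨r, hr, hle, heq⟩, -⟩ := Set.mem_iUnion.1 hmem
    refine ⟨⟨r, ?_, hle, heq⟩, hq⟩
    refine Set.mem_biUnion hDS ⟨fun x hx => hr.1 ((le_sup_left.trans hP.1.2) (Ideal.subset_span hx)), ?_⟩
    intro h
    exact hr.2 (h rfl)

end Noetherian

/-- **The fibrewise closure of a constructible set is constructible.** -/
theorem isConstructible_fibreClosure {A B : Type u} [CommRing A] [CommRing B] [Algebra A B]
    [Algebra.FinitePresentation A B] {Z : Set (PrimeSpectrum B)} (hZ : IsConstructible Z) :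
    IsConstructible (fibreClosure A Z) := by
  obtain ⟨A₀, B₀, _, _, _, _, _, _, e, Z₀, hZ₀, rfl⟩ := exists_model_with_set (A := A) hZ
  rw [PrimeSpectrum.comap_comp, Set.preimage_comp, fibreClosure_comap_equiv,
    fibreClosure_baseChange]
  obtain ⟨S, hS⟩ := exists_constructibleSetData_iff.2
    (isConstructible_fibreClosure_of_isNoetherianRing (A := A₀) hZ₀)
  rw [← hS, ← ConstructibleSetData.toSet_map, ← ConstructibleSetData.toSet_map]
  exact ConstructibleSetData.isConstructible_toSet _


end Groth.Agent.EGA43.Cons
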