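import Groth.Agent.EGA43.Cons.FibreCritScheme
import Mathlib.RingTheory.FinitePresentation
import Mathlib.Algebra.Module.LocalizedModule.Submodule
import Mathlib.RingTheory.Localization.BaseChange

/-!
# The criterion of flatness by fibres for algebras essentially of finite presentation
-/

set_option autoImplicit false
set_option backward.isDefEq.respectTransparency false

universe u

open TensorProduct Function

namespace Groth.Agent.EGA43.Cons

set_option maxHeartbeats 400000 in
/-- A finitely presented model receiving a given finitely presented algebra. -/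
theorem exists_fp_over {R S₀ T₀ S' : Type u} [CommRing R] [CommRing S₀] [CommRing T₀] [CommRing S']
    [Algebra R S₀] [Algebra R T₀] [Algebra R S'] [Algebra.FinitePresentation R S₀]
    [Algebra.FinitePresentation R T₀] [Algebra T₀ S'] [IsScalarTower R T₀ S'] (L : Submonoid T₀)
    [IsLocalization L S'] (f : S₀ →ₐ[R] S') :
    ∃ (C : Type u) (_ : CommRing C) (_ : Algebra R C) (_ : Algebra C S') (g : S₀ →ₐ[R] C)
      (L' : Submonoid C), Algebra.FinitePresentation R C ∧ IsScalarTower R C S' ∧
        IsLocalization L' S' ∧ ∀ b, algebraMap C S' (g b) = f b := by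
  classical
  obtain ⟨n, π, hπ⟩ := Algebra.FiniteType.iff_quotient_mvPolynomial''.1
    (Algebra.FiniteType.of_finitePresentation (R := R) (A := S₀))
  choose cm hcm using fun i => IsLocalization.surj L (f (π (MvPolynomial.X i)))
  let c : Fin n → T₀ := fun i => (cm i).1
  let m : Fin n → L := fun i => (cm i).2
  let J : Ideal (S₀ ⊗[R] T₀) := Ideal.span (Set.range fun i =>
    π (MvPolynomial.X i) ⊗ₜ[R] (m i : T₀) - (1 : S₀) ⊗ₜ[R] c i)
  have hfpP : Algebra.FinitePresentation R (S₀ ⊗[R] T₀) :=
    Algebra.FinitePresentation.trans R S₀ (S₀ ⊗[R] T₀)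
  let φ : S₀ ⊗[R] T₀ →ₐ[R] S' :=
    Algebra.TensorProduct.lift f (IsScalarTower.toAlgHom R T₀ S') fun _ _ => Commute.all _ _
  have hJ : J ≤ RingHom.ker φ := Ideal.span_le.2 (by
    rintro _ ⟨i, rfl⟩
    rw [SetLike.mem_coe, RingHom.mem_ker, map_sub, Algebra.TensorProduct.lift_tmul,
      Algebra.TensorProduct.lift_tmul, map_one, one_mul, IsScalarTower.toAlgHom_apply,
      IsScalarTower.toAlgHom_apply, hcm, sub_self])
  let C := (S₀ ⊗[R] T₀) ⧸ J
  let φ' : C →ₐ[R] S' := Ideal.Quotient.liftₐ J φ fun x hx => hJ hx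
  let _ : Algebra C S' := φ'.toRingHom.toAlgebra
  have htC : IsScalarTower R C S' :=
    IsScalarTower.of_algebraMap_eq (R := R) (S := C) (A := S') fun r => (φ'.commutes r).symm
  let j : T₀ →ₐ[R] C := (Ideal.Quotient.mkₐ R J).comp Algebra.TensorProduct.includeRight
  let L' : Submonoid C := L.map j
  have hj : ∀ t, algebraMap C S' (j t) = algebraMap T₀ S' t := fun t => by
    show φ ((1 : S₀) ⊗ₜ[R] t) = _
    rw [Algebra.TensorProduct.lift_tmul, map_one, one_mul, IsScalarTower.toAlgHom_apply]
  refine ⟨C, inferInstance, inferInstance, inferInstance,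
    (Ideal.Quotient.mkₐ R J).comp Algebra.TensorProduct.includeLeft, L',
    Algebra.FinitePresentation.quotient (Submodule.fg_span (Set.finite_range _)), htC, ?_, fun b => ?_⟩
  swap
  · show φ (b ⊗ₜ[R] (1 : T₀)) = _
    rw [Algebra.TensorProduct.lift_tmul, map_one, mul_one]
  have hunit : ∀ l : L', IsUnit (algebraMap C S' l) := fun ⟨_, l, hl, rfl⟩ => by
    rw [hj]
    exact IsLocalization.map_units S' ⟨l, hl⟩
  let χ := IsLocalization.lift (S := S') (P := Localization L') (M := L)
    (g := (algebraMap C (Localization L')).comp j.toRingHom) fun l =>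
      IsLocalization.map_units (Localization L') (⟨j l, l, l.2, rfl⟩ : L')
  have hT : ∀ t, χ (algebraMap C S' (j t)) = algebraMap C (Localization L') (j t) := fun t => by
    rw [hj, IsLocalization.lift_eq]
    rfl
  have key : ∀ x : C, χ (algebraMap C S' x) = algebraMap C (Localization L') x := fun x => by
    obtain ⟨x, rfl⟩ := Ideal.Quotient.mk_surjective x
    induction x using TensorProduct.induction_on with
    | zero => simp
    | add u v hu hv => simp only [map_add, hu, hv]
    | tmul s t =>
      have hst : Ideal.Quotient.mk J (s ⊗ₜ[R] t) = Ideal.Quotient.mk J (s ⊗ₜ[R] 1) * j t := by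
        show _ = _ * Ideal.Quotient.mk J ((1 : S₀) ⊗ₜ[R] t)
        rw [← map_mul, Algebra.TensorProduct.tmul_mul_tmul, mul_one, one_mul]
      rw [hst, map_mul, map_mul, map_mul, hT]
      congr 1
      clear hst
      obtain ⟨s, rfl⟩ := hπ s
      induction s using MvPolynomial.induction_on with
      | C r =>
        have : Ideal.Quotient.mk J ((π (MvPolynomial.C r)) ⊗ₜ[R] (1 : T₀)) = j (algebraMap R T₀ r) := by
          show _ = Ideal.Quotient.mk J ((1 : S₀) ⊗ₜ[R] algebraMap R T₀ r)
          rw [← MvPolynomial.algebraMap_eq, π.commutes, Algebra.algebraMap_eq_smul_one,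
            Algebra.algebraMap_eq_smul_one, TensorProduct.smul_tmul]
        rw [this, hT]
      | add p q hp hq => simp only [map_add, TensorProduct.add_tmul, hp, hq]
      | mul_X p i hp =>
        rw [map_mul, show (π p * π (MvPolynomial.X i)) ⊗ₜ[R] (1 : T₀) =
          (π p ⊗ₜ[R] 1) * (π (MvPolynomial.X i) ⊗ₜ[R] 1) by
            rw [Algebra.TensorProduct.tmul_mul_tmul, one_mul], map_mul, map_mul, map_mul, map_mul, hp]
        congr 1
        have hrel : Ideal.Quotient.mk J (π (MvPolynomial.X i) ⊗ₜ[R] 1) * j (m i) = j (c i) := by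
          show _ * Ideal.Quotient.mk J ((1 : S₀) ⊗ₜ[R] (m i : T₀)) = Ideal.Quotient.mk J _
          rw [← map_mul, Algebra.TensorProduct.tmul_mul_tmul, one_mul, mul_one, Ideal.Quotient.eq]
          exact Ideal.subset_span ⟨i, rfl⟩
        have hu : IsUnit (algebraMap C (Localization L') (j (m i))) :=
          IsLocalization.map_units (Localization L') (⟨j (m i), m i, (m i).2, rfl⟩ : L')
        apply hu.mul_left_injective
        show _ * _ = _ * _
        conv_lhs => rw [← hT, ← map_mul, ← map_mul, hrel]
        rw [← map_mul, hrel, hT]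
  refine { map_units := hunit, surj := fun z => ?_, exists_of_eq := fun {a b} hab => ?_ }
  · obtain ⟨⟨t, l⟩, hz⟩ := IsLocalization.surj L z
    exact ⟨⟨j t, ⟨j l, l, l.2, rfl⟩⟩, by rw [hj, hj]; exact hz⟩
  · refine (IsLocalization.eq_iff_exists L' (Localization L')).1 ?_
    rw [← key, ← key, hab]

set_option maxHeartbeats 400000 in
/-- A finitely presented module over a localisation descends. -/
theorem exists_fp_model_module {C S' M : Type u} [CommRing C] [CommRing S'] [Algebra C S']
    (L : Submonoid C) [IsLocalization L S'] [AddCommGroup M] [Module S' M] [Module C M]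
    [IsScalarTower C S' M] [Module.FinitePresentation S' M] :
    ∃ (M₀ : Type u) (_ : AddCommGroup M₀) (_ : Module C M₀) (φ : M₀ →ₗ[C] M),
      Module.FinitePresentation C M₀ ∧ IsLocalizedModule L φ := by
  classical
  obtain ⟨k, r, hr⟩ := Module.Finite.exists_fin' S' M
  obtain ⟨s, hs⟩ := Module.FinitePresentation.fg_ker r hr
  have hsurj : ∀ w : Fin k → S', ∃ (v : Fin k → C) (l : L),
      ∀ i, algebraMap C S' (v i) = algebraMap C S' l * w i := fun w => by
    obtain ⟨l, hl⟩ := IsLocalization.exist_integer_multiples_of_finite L w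
    choose v hv using hl
    exact ⟨v, l, fun i => (hv i).trans (Algebra.smul_def _ _)⟩
  choose v l hv using hsurj
  let K₀ : Submodule C (Fin k → C) := Submodule.span C (v '' (s : Set (Fin k → S')))
  have hK₀ : K₀.FG := ⟨s.image v, by rw [Finset.coe_image]⟩
  let ι : (Fin k → C) →ₗ[C] (Fin k → S') := LinearMap.compLeft (Algebra.linearMap C S') (Fin k)
  have hι : IsLocalizedModule L ι := by
    rw [isLocalizedModule_iff_isBaseChange L S']
    exact IsBaseChange.finitePow (Fin k) (IsBaseChange.linearMap C S')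
  have hιv : ∀ w, ι (v w) = algebraMap C S' (l w) • w := fun w => funext fun i => hv w i
  have hK : ∀ x ∈ K₀, r (ι x) = 0 := fun x hx => by
    induction hx using Submodule.span_induction with
    | mem x hx =>
      obtain ⟨w, hw, rfl⟩ := hx
      rw [hιv, map_smul, LinearMap.mem_ker.1 (hs.le (Submodule.subset_span hw)), smul_zero]
    | zero => simp
    | add x y _ _ hx hy => simp only [map_add, hx, hy, add_zero]
    | smul c x _ hx => rw [map_smul, LinearMap.map_smul_of_tower, hx, smul_zero]
  let φ : ((Fin k → C) ⧸ K₀) →ₗ[C] M :=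
    K₀.liftQ ((r.restrictScalars C) ∘ₗ ι) fun x hx => LinearMap.mem_ker.2 (hK x hx)
  refine ⟨_, inferInstance, inferInstance, φ,
    Module.finitePresentation_of_surjective K₀.mkQ K₀.mkQ_surjective (by rwa [Submodule.ker_mkQ]), ?_⟩
  refine { map_units := fun x => QcohFP.map_units_of_tower (R' := S') L x, surj := fun y => ?_,
           exists_of_eq := fun {a b} hab => ?_ }
  · obtain ⟨w, rfl⟩ := hr y
    refine ⟨⟨K₀.mkQ (v w), l w⟩, ?_⟩
    show (l w : C) • r w = r (ι (v w))
    rw [hιv, map_smul, algebraMap_smul]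
  · obtain ⟨a, rfl⟩ := K₀.mkQ_surjective a
    obtain ⟨b, rfl⟩ := K₀.mkQ_surjective b
    have hmem : ι (a - b) ∈ Submodule.span S' (s : Set (Fin k → S')) := by
      rw [hs, LinearMap.mem_ker, map_sub, map_sub, sub_eq_zero]
      exact hab
    have key : ∀ y ∈ Submodule.span S' (s : Set (Fin k → S')), ∃ (x : Fin k → C) (c : L),
        x ∈ K₀ ∧ ι x = (c : C) • y := fun y hy => by
      induction hy using Submodule.span_induction with
      | mem y hy =>
        exact ⟨v y, l y, Submodule.subset_span ⟨y, hy, rfl⟩, by rw [hιv, algebraMap_smul]⟩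
      | zero => exact ⟨0, 1, zero_mem _, by simp⟩
      | add y z _ _ hy hz =>
        obtain ⟨x, c, hx, e⟩ := hy
        obtain ⟨x', c', hx', e'⟩ := hz
        refine ⟨(c' : C) • x + (c : C) • x', c * c', add_mem (K₀.smul_mem _ hx) (K₀.smul_mem _ hx'), ?_⟩
        rw [map_add, map_smul, map_smul, e, e', Submonoid.coe_mul, smul_add, mul_smul,
          smul_comm (c' : C) (c : C) y, mul_smul]
      | smul t y _ hy =>
        obtain ⟨x, c, hx, e⟩ := hy
        obtain ⟨⟨t', d⟩, ht⟩ := IsLocalization.surj L t
        refine ⟨t' • x, d * c, K₀.smul_mem _ hx, ?_⟩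
        rw [map_smul, e, ← algebraMap_smul S' t', ← algebraMap_smul S' (c : C),
          ← algebraMap_smul S' ((d * c : L) : C), ← ht, smul_smul, smul_smul, Submonoid.coe_mul, map_mul]
        congr 1
        ring
    obtain ⟨x, c, hx, e⟩ := key _ hmem
    obtain ⟨d, hd⟩ := IsLocalizedModule.exists_of_eq (S := L) (f := ι)
      (x₁ := x) (x₂ := (c : C) • (a - b)) (by rw [e, map_smul])
    refine ⟨d * c, ?_⟩
    show ((d * c : L) : C) • K₀.mkQ a = ((d * c : L) : C) • K₀.mkQ b
    rw [← sub_eq_zero, ← smul_sub, ← map_sub, ← map_smul, Submodule.mkQ_apply,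
      Submodule.Quotient.mk_eq_zero, Submonoid.coe_mul, mul_smul]
    have h' : (d : C) • ((c : C) • (a - b)) = (d : C) • x := hd.symm
    rw [h']
    exact K₀.smul_mem _ hx

set_option maxHeartbeats 400000 in
/-- Fibre criterion over an algebra `C` localising to the local ring `S'`. -/
theorem flat_of_fibre_local {R S₀ S C S' M₀ M : Type u} [CommRing R] [CommRing S₀] [CommRing S]
    [CommRing C] [CommRing S'] [IsLocalRing R] [IsLocalRing S'] [Algebra R S] [Algebra R S₀]
    [Algebra S₀ S] [IsScalarTower R S₀ S] (L₀ : Submonoid S₀) [IsLocalization L₀ S] [Algebra R C]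
    [Algebra S₀ C] [IsScalarTower R S₀ C] [Algebra C S'] [Algebra R S'] [IsScalarTower R C S']
    [IsLocalHom (algebraMap R S')] [Algebra.FiniteType R S₀] [Algebra.FinitePresentation R C]
    (L : Submonoid C) [IsLocalization L S']
    [AddCommGroup M₀] [Module C M₀] [Module.FinitePresentation C M₀] [AddCommGroup M] [Module S' M]
    [Module C M] [IsScalarTower C S' M] [Module S M] [Module S₀ M] [IsScalarTower S₀ S M]
    [IsScalarTower S₀ C M] [Module R M] [IsScalarTower R C M] (φ : M₀ →ₗ[C] M) [IsLocalizedModule L φ]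
    [Module.Flat R M]
    (hfib : Module.Flat (S ⧸ (IsLocalRing.maximalIdeal R).map (algebraMap R S))
      (M ⧸ (IsLocalRing.maximalIdeal R).map (algebraMap R S) • (⊤ : Submodule S M))) :
    Module.Flat S M := by
  let q : PrimeSpectrum C := PrimeSpectrum.comap (algebraMap C S') (IsLocalRing.closedPoint S')
  have hLq : L ≤ q.asIdeal.primeCompl := fun x hx hxq => hxq (IsLocalization.map_units S' ⟨x, hx⟩)
  have : IsLocalizedModule q.asIdeal.primeCompl φ :=
    { map_units := fun x => by
        rw [← (Algebra.lsmul C (A := S') C M).commutes]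
        exact (not_not.1 (show ¬ ¬ IsUnit (algebraMap C S' x) from x.2)).map _
      surj := fun y => by
        obtain ⟨⟨a, s⟩, h⟩ := IsLocalizedModule.surj L φ y
        exact ⟨⟨a, ⟨s, hLq s.2⟩⟩, h⟩
      exists_of_eq := fun h => by
        obtain ⟨s, hs⟩ := IsLocalizedModule.exists_of_eq (S := L) h
        exact ⟨⟨s, hLq s.2⟩, hs⟩ }
  let _ := Module.compHom M₀ (algebraMap S₀ C)
  let _ := Module.compHom M₀ (algebraMap R C)
  have : IsScalarTower S₀ C M₀ := .of_algebraMap_smul fun _ _ => rfl
  have : IsScalarTower R C M₀ := .of_algebraMap_smul fun _ _ => rfl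
  let eR : LocalizedModule q.asIdeal.primeCompl M₀ ≃ₗ[R] M :=
    (IsLocalizedModule.iso q.asIdeal.primeCompl φ).restrictScalars R
  let eS : LocalizedModule q.asIdeal.primeCompl M₀ ≃ₗ[S₀] M :=
    (IsLocalizedModule.iso q.asIdeal.primeCompl φ).restrictScalars S₀
  have hA : Module.Flat R (LocalizedModule q.asIdeal.primeCompl M₀) := Module.Flat.of_linearEquiv eR
  have hq : q.asIdeal.comap (algebraMap R C) = IsLocalRing.maximalIdeal R := by
    show ((IsLocalRing.maximalIdeal S').comap (algebraMap C S')).comap (algebraMap R C) = _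
    rw [Ideal.comap_comap, ← IsScalarTower.algebraMap_eq]
    exact ((IsLocalRing.local_hom_TFAE (algebraMap R S')).out 0 4).1 ‹_›
  have hI : (IsLocalRing.maximalIdeal R).map (algebraMap R S) =
      ((q.asIdeal.comap (algebraMap R C)).map (algebraMap R S₀)).map (algebraMap S₀ S) := by
    rw [hq, Ideal.map_map, ← IsScalarTower.algebraMap_eq]
  have hF := (flat_quotient_iff_fibFlat (A := R) q L₀ φ _ hI).1 hfib
  have := flat_of_fibFlat_of_finiteType (A := R) q hA hF
  rw [Module.flat_iff_of_isLocalization S L₀ M]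
  exact Module.Flat.of_linearEquiv eS.symm

end Groth.Agent.EGA43.Cons
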