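import Groth.Agent.EGA43.Cons.FibFlatLocus
import Groth.Agent.EGA43.FlatDescent.Global

/-!
# The criterion of flatness by fibres for finitely presented modules (EGA IV 11.3.10)
-/

set_option autoImplicit false
set_option backward.isDefEq.respectTransparency false

universe u

open TensorProduct Function

namespace Groth.Agent.EGA43.Cons

section BaseChange

variable {B B' C C' M M' : Type u} [CommRing B] [CommRing B'] [CommRing C] [CommRing C']
  [Algebra B C] [Algebra B B'] [Algebra C C'] [Algebra B' C'] [AddCommGroup M] [Module C M]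
  [Module B M] [IsScalarTower B C M] [AddCommGroup M'] [Module C' M'] [Module B' M']
  [IsScalarTower B' C' M'] [Module B M'] [IsScalarTower B B' M'] [Algebra B C']
  [IsScalarTower B B' C'] [IsScalarTower B C C'] {μ : M →ₗ[B] M'}
  (hμ : IsBaseChange B' μ) (hμC : ∀ (c : C) m, μ (c • m) = algebraMap C C' c • μ m)

include hμ hμC in
/-- Flatness at a prime goes up along base changes. -/
theorem flat_localized_of_baseChange (q' : PrimeSpectrum C')
    (h : Module.Flat B
      (LocalizedModule (PrimeSpectrum.comap (algebraMap C C') q').asIdeal.primeCompl M)) :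
    Module.Flat B' (LocalizedModule q'.asIdeal.primeCompl M') := by
  refine (@Module.Flat.iff_rTensor_preserves_injective_linearMap B'
    (LocalizedModule q'.asIdeal.primeCompl M') _ _ _).2 fun X Y _ _ _ _ i hi =>
      FlatOpen.rTensor_injective_localized i _ fun z hz => ?_
  let _ := Module.compHom X (algebraMap B B')
  let _ := Module.compHom Y (algebraMap B B')
  have : IsScalarTower B B' X := .of_algebraMap_smul fun _ _ => rfl
  have : IsScalarTower B B' Y := .of_algebraMap_smul fun _ _ => rfl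
  obtain ⟨z, rfl⟩ := (bcTensor hμ X).surjective z
  obtain ⟨c, hc, hcz⟩ := FlatOpen.exists_smul_eq_zero_of_flat (i.restrictScalars B) hi
    (PrimeSpectrum.comap (algebraMap C C') q').asIdeal.primeCompl z (by
      apply (bcTensor hμ Y).injective
      show bcTensor hμ Y ((i.restrictScalars B).lTensor M z) = _
      rw [bcTensor_lTensor, map_zero]
      exact hz)
  exact ⟨algebraMap C C' c, hc, by rw [← bcTensor_smul hμ hμC, hcz, map_zero]⟩

end BaseChange

attribute [local instance] FlatDescent.bcModule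

set_option maxHeartbeats 1600000 in
/-- Criterion of flatness by fibres, from a Noetherian stage `D`. -/
theorem flat_of_fibFlat_stage {A₁ A B₁ B Q₁ Q N₁ N D : Type u} [CommRing A₁] [CommRing A]
    [CommRing B₁] [CommRing B] [CommRing Q₁] [CommRing Q] [Algebra A₁ A] [Algebra A₁ B₁]
    [Algebra A₁ B] [Algebra A B] [Algebra B₁ B] [IsScalarTower A₁ A B] [IsScalarTower A₁ B₁ B]
    [Algebra B₁ Q₁] [Algebra A₁ Q₁] [IsScalarTower A₁ B₁ Q₁] [Algebra B Q] [Algebra A Q]
    [IsScalarTower A B Q] [Algebra Q₁ Q] [Algebra B₁ Q] [IsScalarTower B₁ B Q]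
    [IsScalarTower B₁ Q₁ Q]
    [AddCommGroup N₁] [Module Q₁ N₁] [Module B₁ N₁] [IsScalarTower B₁ Q₁ N₁] [Module A₁ N₁]
    [IsScalarTower A₁ Q₁ N₁] [IsScalarTower A₁ B₁ N₁]
    [AddCommGroup N] [Module Q N] [Module B N] [IsScalarTower B Q N] [Module B₁ N]
    [IsScalarTower B₁ B N] [Module Q₁ N] [IsScalarTower Q₁ Q N]
    [Algebra.FiniteType A₁ B₁] [Algebra.FiniteType A₁ Q₁] [Module.Finite Q₁ N₁]
    (μ : N₁ →ₗ[B₁] N) (hμB : IsBaseChange B μ)
    (hμC : ∀ (c : Q₁) m, μ (c • m) = algebraMap Q₁ Q c • μ m) (q : PrimeSpectrum Q)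
    (h₁' : FibFlat A₁ B₁ Q₁ N₁ (PrimeSpectrum.comap (algebraMap Q₁ Q) q))
    [CommRing D] [Algebra A₁ D] [IsNoetherianRing D] (j : D →ₐ[A₁] A) (ψ : A ⊗[A₁] Q₁ →+* Q)
    (hψ : ∀ a c, ψ (a ⊗ₜ[A₁] c) = algebraMap A Q a * algebraMap Q₁ Q c)
    (hflat₂ : FlatDescent.FlatAt A₁ Q₁ N₁ D
      ((q.asIdeal.comap ψ).comap (Algebra.TensorProduct.map j (AlgHom.id A₁ Q₁)))) :
    Module.Flat B (LocalizedModule q.asIdeal.primeCompl N) := by
  let σ := Algebra.TensorProduct.map j (AlgHom.id A₁ Q₁)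
  let q₂ : PrimeSpectrum (D ⊗[A₁] Q₁) := PrimeSpectrum.comap σ.toRingHom (PrimeSpectrum.comap ψ q)
  have : Module.Flat D (LocalizedModule q₂.asIdeal.primeCompl (D ⊗[A₁] N₁)) := hflat₂
  -- the stage as a triple
  let B₂ := D ⊗[A₁] B₁
  let Q₂ := D ⊗[A₁] Q₁
  let N₂ := D ⊗[A₁] N₁
  let φ : B₂ →ₐ[D] Q₂ := Algebra.TensorProduct.map (AlgHom.id D D) (IsScalarTower.toAlgHom A₁ B₁ Q₁)
  let _ : Algebra B₂ Q₂ := φ.toRingHom.toAlgebra
  have : IsScalarTower D B₂ Q₂ := .of_algebraMap_eq fun d => (φ.commutes d).symm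
  let _ : Algebra B₁ B₂ := Algebra.TensorProduct.rightAlgebra
  let _ : Algebra Q₁ Q₂ := Algebra.TensorProduct.rightAlgebra
  let _ : Algebra B₁ Q₂ := ((algebraMap Q₁ Q₂).comp (algebraMap B₁ Q₁)).toAlgebra
  have : IsScalarTower B₁ B₂ Q₂ := .of_algebraMap_eq fun b => by
    show (1 : D) ⊗ₜ[A₁] algebraMap B₁ Q₁ b = φ ((1 : D) ⊗ₜ[A₁] b)
    rw [Algebra.TensorProduct.map_tmul, map_one]
    rfl
  have : IsScalarTower B₁ Q₁ Q₂ := .of_algebraMap_eq' rfl
  let _ := Module.compHom N₂ φ.toRingHom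
  have : IsScalarTower B₂ Q₂ N₂ := .of_algebraMap_smul fun _ _ => rfl
  have : IsScalarTower D B₂ N₂ := IsScalarTower.of_algebraMap_smul (R := D) (A := B₂) (M := N₂) fun d x => by
    show φ (algebraMap D B₂ d) • x = d • x
    rw [φ.commutes, algebraMap_smul]
  let _ := Module.compHom N₂ (algebraMap B₁ B₂)
  have : IsScalarTower B₁ B₂ N₂ := .of_algebraMap_smul fun _ _ => rfl
  have hB : ∀ (b : B₁) (d : D) (m : N₁), b • (d ⊗ₜ[A₁] m : N₂) = d ⊗ₜ[A₁] (b • m) := fun b d m => by
    show φ ((1 : D) ⊗ₜ[A₁] b) • (d ⊗ₜ[A₁] m) = _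
    rw [Algebra.TensorProduct.map_tmul, map_one, FlatDescent.bc_smul_tmul, one_mul]
    exact congrArg (d ⊗ₜ[A₁] ·) (algebraMap_smul Q₁ b m)
  have : IsScalarTower A₁ B₁ N₂ := .of_algebraMap_smul fun a x => by
    induction x using TensorProduct.induction_on with
    | zero => simp
    | add u v hu hv => simp only [smul_add, hu, hv]
    | tmul d m => rw [hB, algebraMap_smul, TensorProduct.tmul_smul]
  let μ₂ : N₁ →ₗ[B₁] N₂ :=
    { toFun := fun m => (1 : D) ⊗ₜ[A₁] m
      map_add' := tmul_add _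
      map_smul' := fun b m => (hB b 1 m).symm }
  have hμ₂ : IsBaseChange B₂ μ₂ :=
    (isBaseChange_iff_of_isPushout (R := A₁) (T := D) (R' := B₁) (T' := B₂) μ₂).2
      (TensorProduct.isBaseChange A₁ N₁ D)
  have hμ₂C : ∀ (c : Q₁) m, μ₂ (c • m) = algebraMap Q₁ Q₂ c • μ₂ m := fun c m => by
    show (1 : D) ⊗ₜ[A₁] (c • m) = ((1 : D) ⊗ₜ[A₁] c) • ((1 : D) ⊗ₜ[A₁] m)
    rw [FlatDescent.bc_smul_tmul, one_mul]
  have hq₂ : PrimeSpectrum.comap (algebraMap Q₁ Q₂) q₂ = PrimeSpectrum.comap (algebraMap Q₁ Q) q := by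
    ext c
    show ψ (j (1 : D) ⊗ₜ[A₁] c) ∈ q.asIdeal ↔ algebraMap Q₁ Q c ∈ q.asIdeal
    rw [hψ, map_one, map_one, one_mul]
  have hfib₂ : FibFlat D B₂ Q₂ N₂ q₂ := FibFlat.baseChange hμ₂ hμ₂C (hq₂ ▸ h₁')
  have : IsNoetherianRing B₂ := by
    have : Algebra.FiniteType D B₂ := Algebra.FiniteType.baseChange (A := B₁) D
    exact Algebra.FiniteType.isNoetherianRing D B₂
  have : IsNoetherianRing Q₂ := by
    have : Algebra.FiniteType D Q₂ := Algebra.FiniteType.baseChange (A := Q₁) D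
    exact Algebra.FiniteType.isNoetherianRing D Q₂
  have : Module.Finite Q₂ N₂ := FlatDescent.finite_bc A₁ Q₁ N₁ D
  have hB₂ := flat_of_fibFlat hfib₂
  -- back to `B`
  let θB : B₂ →+* B := (Algebra.TensorProduct.lift ((IsScalarTower.toAlgHom A₁ A B).comp j)
    (IsScalarTower.toAlgHom A₁ B₁ B) fun _ _ => Commute.all _ _).toRingHom
  have hθB : ∀ (d : D) b, θB (d ⊗ₜ[A₁] b) = algebraMap A B (j d) * algebraMap B₁ B b := fun d b => rfl
  let _ : Algebra B₂ B := θB.toAlgebra
  let θQ : Q₂ →+* Q := ψ.comp σ.toRingHom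
  have hθQ : ∀ (d : D) c, θQ (d ⊗ₜ[A₁] c) = algebraMap A Q (j d) * algebraMap Q₁ Q c := fun d c => hψ (j d) c
  let _ : Algebra Q₂ Q := θQ.toAlgebra
  have : IsScalarTower B₁ B₂ B := .of_algebraMap_eq fun b => by
    show algebraMap B₁ B b = θB ((1 : D) ⊗ₜ[A₁] b)
    rw [hθB, map_one, map_one, one_mul]
  let _ := Module.compHom N θB
  have : IsScalarTower B₂ B N := .of_algebraMap_smul fun _ _ => rfl
  have : IsScalarTower B₁ B₂ N := .of_algebraMap_smul fun b m => by
    show θB ((1 : D) ⊗ₜ[A₁] b) • m = b • m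
    rw [hθB, map_one, map_one, one_mul, algebraMap_smul]
  let μ₃ : N₂ →ₗ[B₂] N := hμ₂.lift (μ.restrictScalars B₁)
  have hμ₃ : IsBaseChange B μ₃ := by
    refine IsBaseChange.of_comp hμ₂ ?_
    rw [IsBaseChange.lift_comp]
    exact hμB
  have hμ₃t : ∀ (d : D) m, μ₃ (d ⊗ₜ[A₁] m) = algebraMap A Q (j d) • μ m := fun d m => by
    have : (d ⊗ₜ[A₁] m : N₂) = algebraMap D B₂ d • μ₂ m := by
      rw [algebraMap_smul]
      show _ = d • ((1 : D) ⊗ₜ[A₁] m)
      rw [TensorProduct.smul_tmul', smul_eq_mul, mul_one]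
    rw [this, map_smul, IsBaseChange.lift_eq]
    show θB (d ⊗ₜ[A₁] (1 : B₁)) • μ m = _
    rw [hθB, map_one, mul_one, IsScalarTower.algebraMap_apply A B Q]
    exact (algebraMap_smul Q (algebraMap A B (j d)) (μ m)).symm
  have hμ₃C : ∀ (c : Q₂) m, μ₃ (c • m) = algebraMap Q₂ Q c • μ₃ m := fun c m => by
    refine FlatDescent.map_smul_of_tmul θQ μ₃.toAddMonoidHom (fun a p d n => ?_) c m
    show μ₃ _ = θQ (a ⊗ₜ p) • μ₃ _
    rw [FlatDescent.bc_smul_tmul, hμ₃t, hμ₃t, hθQ, map_mul, map_mul, hμC, smul_smul, smul_smul]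
    congr 1
    ring
  let _ : Algebra B₂ Q := ((algebraMap B Q).comp θB).toAlgebra
  have : IsScalarTower B₂ B Q := .of_algebraMap_eq' rfl
  have : IsScalarTower B₂ Q₂ Q := .of_algebraMap_eq fun b => by
    show algebraMap B Q (θB b) = θQ (φ b)
    induction b using TensorProduct.induction_on with
    | zero => simp
    | add u v hu hv => simp only [map_add, hu, hv]
    | tmul d b =>
      show _ = θQ (d ⊗ₜ[A₁] algebraMap B₁ Q₁ b)
      rw [hθB, hθQ, map_mul, ← IsScalarTower.algebraMap_apply A B Q,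
        ← IsScalarTower.algebraMap_apply B₁ B Q, ← IsScalarTower.algebraMap_apply B₁ Q₁ Q]
  exact flat_localized_of_baseChange hμ₃ hμ₃C q hB₂

set_option maxHeartbeats 1600000 in
/-- Criterion of flatness by fibres in the presence of a Noetherian model. -/
theorem flat_of_fibFlat_model {A₁ A B₁ B Q₁ Q N₁ N : Type u} [CommRing A₁] [CommRing A]
    [CommRing B₁] [CommRing B] [CommRing Q₁] [CommRing Q] [Algebra A₁ A] [Algebra A₁ B₁]
    [Algebra A₁ B] [Algebra A B] [Algebra B₁ B] [IsScalarTower A₁ A B] [IsScalarTower A₁ B₁ B]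
    [Algebra B₁ Q₁] [Algebra B₁ Q] [Algebra B Q] [Algebra A Q] [IsScalarTower A B Q] [Algebra Q₁ Q]
    [IsScalarTower B₁ B Q] [IsScalarTower B₁ Q₁ Q]
    [AddCommGroup N₁] [Module Q₁ N₁] [AddCommGroup N] [Module Q N] [Module B N]
    [IsScalarTower B Q N] [Module A N] [IsScalarTower A Q N] [Module Q₁ N] [IsScalarTower Q₁ Q N]
    (h₁ : Algebra.IsPushout A₁ A B₁ B) (h₂ : Algebra.IsPushout B₁ B Q₁ Q) [IsNoetherianRing A₁]
    [Algebra.FiniteType A₁ B₁] [Algebra.FiniteType B₁ Q₁] [Module.Finite Q₁ N₁]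
    (μ : N₁ →ₗ[Q₁] N) (hμQ : IsBaseChange Q μ) (q : PrimeSpectrum Q)
    (hA : Module.Flat A (LocalizedModule q.asIdeal.primeCompl N)) (h : FibFlat A B Q N q) :
    Module.Flat B (LocalizedModule q.asIdeal.primeCompl N) := by
  let _ : Algebra A₁ Q₁ := ((algebraMap B₁ Q₁).comp (algebraMap A₁ B₁)).toAlgebra
  let _ : Algebra A₁ Q := ((algebraMap B Q).comp (algebraMap A₁ B)).toAlgebra
  have : IsScalarTower A₁ B₁ Q₁ := .of_algebraMap_eq' rfl
  have : IsScalarTower A₁ B Q := .of_algebraMap_eq' rfl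
  have : IsScalarTower A₁ A Q := .of_algebraMap_eq fun x => by
    rw [IsScalarTower.algebraMap_apply A B Q, ← IsScalarTower.algebraMap_apply A₁ A B]
    rfl
  have : IsScalarTower A₁ Q₁ Q := .of_algebraMap_eq fun x => by
    rw [IsScalarTower.algebraMap_apply A₁ B₁ Q₁, ← IsScalarTower.algebraMap_apply B₁ Q₁ Q,
      IsScalarTower.algebraMap_apply B₁ B Q, ← IsScalarTower.algebraMap_apply A₁ B₁ B]
    rfl
  have hpAQ : Algebra.IsPushout A₁ A Q₁ Q := isPushout_comp A₁ A B₁ B Q₁ Q h₁ h₂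
  let _ := Module.compHom N₁ (algebraMap B₁ Q₁)
  let _ := Module.compHom N₁ (algebraMap A₁ Q₁)
  let _ := Module.compHom N (algebraMap B₁ Q)
  let _ := Module.compHom N (algebraMap A₁ Q)
  have : IsScalarTower B₁ Q₁ N₁ := .of_algebraMap_smul fun _ _ => rfl
  have : IsScalarTower A₁ Q₁ N₁ := .of_algebraMap_smul fun _ _ => rfl
  have : IsScalarTower A₁ B₁ N₁ := .of_algebraMap_smul fun a m => by
    show algebraMap B₁ Q₁ (algebraMap A₁ B₁ a) • m = algebraMap A₁ Q₁ a • m
    rfl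
  have : IsScalarTower B₁ Q N := .of_algebraMap_smul fun _ _ => rfl
  have : IsScalarTower A₁ Q N := .of_algebraMap_smul fun _ _ => rfl
  have : IsScalarTower B₁ B N := .of_algebraMap_smul fun b m => by
    show algebraMap B₁ B b • m = algebraMap B₁ Q b • m
    rw [IsScalarTower.algebraMap_apply B₁ B Q]
    exact (algebraMap_smul Q (algebraMap B₁ B b) m).symm
  have : IsScalarTower A₁ A N := .of_algebraMap_smul fun a m => by
    show algebraMap A₁ A a • m = algebraMap A₁ Q a • m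
    rw [IsScalarTower.algebraMap_apply A₁ A Q]
    exact (algebraMap_smul Q (algebraMap A₁ A a) m).symm
  have : IsScalarTower B₁ Q₁ N := .of_algebraMap_smul fun b m => by
    show algebraMap B₁ Q₁ b • m = algebraMap B₁ Q b • m
    rw [IsScalarTower.algebraMap_apply B₁ Q₁ Q]
    exact (algebraMap_smul Q (algebraMap B₁ Q₁ b) m).symm
  have : IsScalarTower A₁ Q₁ N := .of_algebraMap_smul fun a m => by
    show algebraMap A₁ Q₁ a • m = algebraMap A₁ Q a • m
    rw [IsScalarTower.algebraMap_apply A₁ Q₁ Q]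
    exact (algebraMap_smul Q (algebraMap A₁ Q₁ a) m).symm
  have : IsScalarTower A₁ B₁ N := .of_algebraMap_smul fun a m => by
    show algebraMap B₁ Q (algebraMap A₁ B₁ a) • m = algebraMap A₁ Q a • m
    rw [IsScalarTower.algebraMap_apply B₁ B Q, ← IsScalarTower.algebraMap_apply A₁ B₁ B]
    rfl
  have hμA : IsBaseChange A (μ.restrictScalars A₁) :=
    (isBaseChange_iff_of_isPushout (R := A₁) (T := A) (R' := Q₁) (T' := Q) μ).1 hμQ
  have hμB : IsBaseChange B (μ.restrictScalars B₁) :=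
    (isBaseChange_iff_of_isPushout (R := B₁) (T := B) (R' := Q₁) (T' := Q) μ).1 hμQ
  have hμC : ∀ (c : Q₁) m, μ.restrictScalars B₁ (c • m) =
      algebraMap Q₁ Q c • μ.restrictScalars B₁ m :=
    fun c m => (μ.map_smul c m).trans (algebraMap_smul _ c _).symm
  -- fibrewise flatness of the model
  have h₁' : FibFlat A₁ B₁ Q₁ N₁ (PrimeSpectrum.comap (algebraMap Q₁ Q) q) :=
    FibFlat.of_baseChange hμB hμC h
  -- flatness at a Noetherian stage
  let ψ : A ⊗[A₁] Q₁ ≃ₐ[A] Q := Algebra.IsPushout.equiv A₁ A Q₁ Q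
  let e : A ⊗[A₁] N₁ ≃ₗ[A] N := hμA.equiv
  have he : ∀ (t : A ⊗[A₁] Q₁) x, e (t • x) = ψ t • e x := fun t x => by
    refine FlatDescent.map_smul_of_tmul ψ.toRingEquiv.toRingHom e.toAddEquiv.toAddMonoidHom
      (fun a p c m => ?_) t x
    show e _ = ψ (a ⊗ₜ p) • e _
    rw [FlatDescent.bc_smul_tmul, IsBaseChange.equiv_tmul, IsBaseChange.equiv_tmul,
      Algebra.IsPushout.equiv_tmul, LinearMap.restrictScalars_apply, LinearMap.restrictScalars_apply,
      map_smul, ← algebraMap_smul Q (a * c), ← algebraMap_smul Q p, ← algebraMap_smul Q c,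
      smul_smul, smul_smul, map_mul]
    congr 1
    ring
  have hat : FlatDescent.FlatAt A₁ Q₁ N₁ A (q.asIdeal.comap ψ.toRingEquiv.toRingHom) :=
    (FlatDescent.flat_localized_iff ψ.toRingEquiv.toRingHom ψ.surjective e he q.asIdeal).2 hA
  have : Algebra.FiniteType A₁ Q₁ := Algebra.FiniteType.trans (S := B₁) inferInstance inferInstance
  obtain ⟨D, hDfg, hDflat⟩ := FlatDescent.exists_stage_flatAt _ hat
  have := FlatDescent.isNoetherianRing_of_fg hDfg
  exact flat_of_fibFlat_stage (μ.restrictScalars B₁) hμB hμC q h₁' D.val ψ.toRingEquiv.toRingHom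
    (fun a c => Algebra.IsPushout.equiv_tmul A₁ A Q₁ Q a c) hDflat

section General

set_option maxHeartbeats 800000 in
theorem flat_of_fibFlat_of_model_set {A₁ A B₁ B Q₁ Q : Type u} [CommRing A₁] [CommRing A]
    [CommRing B₁] [CommRing B] [CommRing Q₁] [CommRing Q] [Algebra A₁ A] [Algebra A₁ B₁]
    [Algebra A₁ B] [Algebra A B] [Algebra B₁ B] [IsScalarTower A₁ A B] [IsScalarTower A₁ B₁ B]
    [Algebra B₁ Q₁] [Algebra B₁ Q] [Algebra B Q] [Algebra A Q] [IsScalarTower A B Q] [Algebra Q₁ Q]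
    [IsScalarTower B₁ B Q] [IsScalarTower B₁ Q₁ Q]
    (h₁ : Algebra.IsPushout A₁ A B₁ B) (h₂ : Algebra.IsPushout B₁ B Q₁ Q) [IsNoetherianRing A₁]
    [Algebra.FiniteType A₁ B₁] [Algebra.FiniteType B₁ Q₁] {k : ℕ} (s : Finset (Fin k → Q))
    (hs : ∀ w ∈ s, ∀ j, ∃ x : Q₁, algebraMap Q₁ Q x = w j) (q : PrimeSpectrum Q)
    (hA : Module.Flat A (LocalizedModule q.asIdeal.primeCompl
      ((Fin k → Q) ⧸ Submodule.span Q (s : Set (Fin k → Q)))))
    (h : FibFlat A B Q ((Fin k → Q) ⧸ Submodule.span Q (s : Set (Fin k → Q))) q) :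
    Module.Flat B (LocalizedModule q.asIdeal.primeCompl
      ((Fin k → Q) ⧸ Submodule.span Q (s : Set (Fin k → Q)))) := by
  choose w₀ hw₀ using fun w : s => fun j => hs w.1 w.2 j
  let K₁ : Submodule Q₁ (Fin k → Q₁) := Submodule.span _ (Set.range w₀)
  let K := Submodule.span Q (s : Set (Fin k → Q))
  let f : (Fin k → Q₁) →ₗ[Q₁] (Fin k → Q) := LinearMap.compLeft (Algebra.linearMap Q₁ Q) (Fin k)
  have hf : IsBaseChange Q f := IsBaseChange.finitePow (Fin k) (IsBaseChange.linearMap _ _)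
  have hfw : ∀ w : s, f (w₀ w) = w.1 := fun w => funext fun j => hw₀ w j
  have hfK : Set.MapsTo f K₁ K := fun x hx => by
    induction hx using Submodule.span_induction with
    | mem x hx => obtain ⟨w, rfl⟩ := hx; rw [hfw]; exact Submodule.subset_span w.2
    | zero => rw [map_zero]; exact zero_mem _
    | add x y _ _ hx hy => rw [map_add]; exact add_mem hx hy
    | smul c x _ hx =>
      rw [map_smul, ← algebraMap_smul Q c (f x)]
      exact K.smul_mem _ hx
  have hKeq : K = Submodule.span Q (f '' K₁) := le_antisymm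
    (Submodule.span_le.2 fun w hw => Submodule.subset_span
      ⟨w₀ ⟨w, hw⟩, Submodule.subset_span ⟨_, rfl⟩, hfw _⟩)
    (Submodule.span_le.2 (Set.image_subset_iff.2 hfK))
  let μQ : ((Fin k → Q₁) ⧸ K₁) →ₗ[Q₁] (Fin k → Q) ⧸ K :=
    K₁.liftQ ((K.mkQ.restrictScalars Q₁) ∘ₗ f) fun x hx =>
      (Submodule.Quotient.mk_eq_zero K).2 (hfK hx)
  exact flat_of_fibFlat_model h₁ h₂ μQ (isBaseChange_quotient hf K₁ K hKeq μQ fun v => rfl) q hA h

set_option maxHeartbeats 800000 in
theorem flat_of_fibFlat_mvPolynomial (A B : Type u) [CommRing A] [CommRing B] [Algebra A B]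
    [Algebra.FinitePresentation A B] (n k : ℕ) (s : Finset (Fin k → MvPolynomial (Fin n) B))
    (q : PrimeSpectrum (MvPolynomial (Fin n) B))
    (hA : Module.Flat A (LocalizedModule q.asIdeal.primeCompl ((Fin k → MvPolynomial (Fin n) B) ⧸
      Submodule.span (MvPolynomial (Fin n) B) (s : Set (Fin k → MvPolynomial (Fin n) B)))))
    (h : FibFlat A B (MvPolynomial (Fin n) B) ((Fin k → MvPolynomial (Fin n) B) ⧸
      Submodule.span (MvPolynomial (Fin n) B) (s : Set (Fin k → MvPolynomial (Fin n) B))) q) :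
    Module.Flat B (LocalizedModule q.asIdeal.primeCompl ((Fin k → MvPolynomial (Fin n) B) ⧸
      Submodule.span (MvPolynomial (Fin n) B) (s : Set (Fin k → MvPolynomial (Fin n) B)))) := by
  classical
  obtain ⟨A₁, B₁, _, _, _, _, _, _, e, hmod⟩ := exists_model_with_coeffs A B
    (s.biUnion fun w => Finset.univ.biUnion fun j => (w j).coeffs)
  let φ : B₁ →+* B := (e : A ⊗[A₁] B₁ →+* B).comp
    (Algebra.TensorProduct.includeRight (R := A₁) (A := A) (B := B₁)).toRingHom
  let _ : Algebra B₁ B := φ.toAlgebra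
  let _ : Algebra A₁ B := ((algebraMap A B).comp (algebraMap A₁ A)).toAlgebra
  have : IsScalarTower A₁ A B := .of_algebraMap_eq' rfl
  have : IsScalarTower A₁ B₁ B := .of_algebraMap_eq fun x => by
    show algebraMap A B (algebraMap A₁ A x) = e ((1 : A) ⊗ₜ[A₁] algebraMap A₁ B₁ x)
    rw [Algebra.algebraMap_eq_smul_one (A := B₁), ← TensorProduct.smul_tmul,
      ← Algebra.algebraMap_eq_smul_one]
    exact (e.commutes _).symm
  let _ : Algebra (MvPolynomial (Fin n) B₁) (MvPolynomial (Fin n) B) :=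
    MvPolynomial.algebraMvPolynomial
  refine flat_of_fibFlat_of_model_set (Q₁ := MvPolynomial (Fin n) B₁)
    (isPushout_of_tensor e fun b => rfl) inferInstance s (fun w hw j => ?_) q hA h
  rw [← RingHom.mem_range, ← SetLike.mem_coe, RingHom.coe_range]
  show w j ∈ Set.range (MvPolynomial.map (algebraMap B₁ B))
  rw [MvPolynomial.mem_range_map_iff_coeffs_subset]
  exact fun b hb => hmod b (Finset.mem_biUnion.2
    ⟨w, hw, Finset.mem_biUnion.2 ⟨j, Finset.mem_univ j, hb⟩⟩)

/-- **Criterion of flatness by fibres** (EGA IV 11.3.10), affine form. -/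
theorem flat_of_fibFlat_of_finitePresentation {A B C M : Type u} [CommRing A] [CommRing B]
    [CommRing C] [Algebra A B] [Algebra B C] [Algebra A C] [IsScalarTower A B C]
    [Algebra.FinitePresentation A B] [Algebra.FinitePresentation B C] [AddCommGroup M] [Module C M]
    [Module B M] [IsScalarTower B C M] [Module A M] [IsScalarTower A C M]
    [Module.FinitePresentation C M] (q : PrimeSpectrum C)
    (hA : Module.Flat A (LocalizedModule q.asIdeal.primeCompl M)) (h : FibFlat A B C M q) :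
    Module.Flat B (LocalizedModule q.asIdeal.primeCompl M) := by
  obtain ⟨n, π, hπ, hπker⟩ := ‹Algebra.FinitePresentation B C›.out
  let _ := Module.compHom M π.toRingHom
  let _ : Algebra (MvPolynomial (Fin n) B) C := π.toRingHom.toAlgebra
  have : IsScalarTower B (MvPolynomial (Fin n) B) M := .of_algebraMap_smul fun b m => by
    show π (algebraMap B _ b) • m = b • m
    rw [π.commutes, algebraMap_smul]
  have : IsScalarTower A (MvPolynomial (Fin n) B) M := .of_algebraMap_smul fun a m => by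
    show π (algebraMap A _ a) • m = a • m
    rw [IsScalarTower.algebraMap_apply A B (MvPolynomial (Fin n) B), π.commutes,
      ← IsScalarTower.algebraMap_apply A B C, algebraMap_smul]
  have : IsScalarTower (MvPolynomial (Fin n) B) C M := .of_algebraMap_smul fun _ _ => rfl
  obtain ⟨k, s, ⟨e⟩⟩ := exists_presentation (P := MvPolynomial (Fin n) B) (C := C) (M := M) hπ hπker
  have hsmul : ∀ (c : MvPolynomial (Fin n) B) m, e (c • m) = π c • e m := fun c m => e.map_smul c m
  let q' : PrimeSpectrum (MvPolynomial (Fin n) B) := PrimeSpectrum.comap π.toRingHom q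
  have hA' := (FlatDescent.flat_localized_iff π.toRingHom hπ (e.restrictScalars A) hsmul q.asIdeal).2 hA
  refine (FlatDescent.flat_localized_iff π.toRingHom hπ (e.restrictScalars B) hsmul q.asIdeal).1 ?_
  refine flat_of_fibFlat_mvPolynomial A B n k s q' hA' (FibFlat.of_linearEquiv e.symm ?_)
  exact (Set.ext_iff.1 (setOf_fibFlat_of_surjective π hπ fun _ _ => rfl) q).1 h

end General

end Groth.Agent.EGA43.Cons
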