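import Groth.Agent.EGA43.FlatOpen
import Groth.Agent.EGA43.FlatDescent.BC
import Groth.Agent.FlatCrit.Inj
import Mathlib.RingTheory.TensorProduct.IsBaseChangePi
import Mathlib.RingTheory.Flat.Localization

/-!
# Fibrewise flatness of a module at a prime

`A → B → C`, `M` a `C`-module.  `FibFlat A B C M q` says that `M_q` is flat on the fibre of
`Spec B → Spec A` over `p = q ∩ A`, in the elementwise form: an element of `M ⊗[B] X` killed in
`M ⊗[B] Y`, for `X ↪ Y` killed by `p`, dies at `q`.  In this form the compatibility with base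
change of `A` is elementary.
-/

set_option autoImplicit false
set_option backward.isDefEq.respectTransparency false

universe u

open TensorProduct Function

namespace Groth.Agent.EGA43.Cons

section Def

variable (A B C M : Type u) [CommRing A] [CommRing B] [CommRing C] [Algebra A B] [Algebra B C]
  [Algebra A C] [IsScalarTower A B C] [AddCommGroup M] [Module C M] [Module B M]
  [IsScalarTower B C M]

/-- Fibrewise flatness at `q`, elementwise. -/
def FibFlat (q : PrimeSpectrum C) : Prop :=
  ∀ ⦃X Y : Type u⦄ [AddCommGroup X] [AddCommGroup Y] [Module B X] [Module B Y] (i : X →ₗ[B] Y),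
    (∀ a : A, algebraMap A C a ∈ q.asIdeal → ∀ y : Y, algebraMap A B a • y = 0) → Injective i →
    ∀ z : M ⊗[B] X, i.lTensor M z = 0 → ∃ c ∉ q.asIdeal, c • z = 0

variable {A B C M}

theorem eq_zero_iff_exists_localized {X : Type u} [AddCommGroup X] [Module B X] {q : PrimeSpectrum C}
    (z : M ⊗[B] X) :
    AlgebraTensorModule.rTensor B X (LocalizedModule.mkLinearMap q.asIdeal.primeCompl M) z = 0 ↔
      ∃ c ∉ q.asIdeal, c • z = 0 := by
  rw [IsLocalizedModule.eq_zero_iff q.asIdeal.primeCompl
    (AlgebraTensorModule.rTensor B X (LocalizedModule.mkLinearMap q.asIdeal.primeCompl M))]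
  exact ⟨fun ⟨c, hc⟩ => ⟨c.1, c.2, hc⟩, fun ⟨c, hc, h⟩ => ⟨⟨c, hc⟩, h⟩⟩

/-- A module flat at `q` is fibrewise flat at `q`. -/
theorem fibFlat_of_flat {q : PrimeSpectrum C}
    (h : Module.Flat B (LocalizedModule q.asIdeal.primeCompl M)) : FibFlat A B C M q := by
  intro X Y _ _ _ _ i _ hi z hz
  rw [← eq_zero_iff_exists_localized]
  apply Module.Flat.lTensor_preserves_injective_linearMap
    (M := LocalizedModule q.asIdeal.primeCompl M) i hi
  rw [map_zero]
  have : i.lTensor (LocalizedModule q.asIdeal.primeCompl M) ∘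
      AlgebraTensorModule.rTensor B X (LocalizedModule.mkLinearMap q.asIdeal.primeCompl M) =
      AlgebraTensorModule.rTensor B Y (LocalizedModule.mkLinearMap q.asIdeal.primeCompl M) ∘
        i.lTensor M := by
    funext w
    simp only [comp_apply]
    induction w using TensorProduct.induction_on with
    | zero => simp
    | add u v hu hv => simp only [map_add, hu, hv]
    | tmul m x => simp
  refine (congrFun this z).trans ?_
  rw [comp_apply, hz, map_zero]

/-- Fibrewise flatness as `QuotFlat` of the localised module. -/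
theorem quotFlat_of_fibFlat {q : PrimeSpectrum C} (h : FibFlat A B C M q) :
    FlatCrit.QuotFlat B (LocalizedModule q.asIdeal.primeCompl M)
      ((Ideal.comap (algebraMap A C) q.asIdeal).map (algebraMap A B)) := by
  intro X Y _ _ _ _ i hY hi
  rw [← LinearMap.lTensor_inj_iff_rTensor_inj]
  let ι := fun (Z : Type u) [AddCommGroup Z] [Module B Z] =>
    AlgebraTensorModule.rTensor B Z (LocalizedModule.mkLinearMap q.asIdeal.primeCompl M)
  have hnat : ∀ w, i.lTensor (LocalizedModule q.asIdeal.primeCompl M) (ι X w) =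
      ι Y (i.lTensor M w) := fun w => by
    induction w using TensorProduct.induction_on with
    | zero => simp
    | add u v hu hv => simp only [map_add, hu, hv]
    | tmul m x => simp [ι]
  refine (injective_iff_map_eq_zero (i.lTensor _)).2 fun w hw => ?_
  obtain ⟨⟨z, s⟩, hz⟩ := IsLocalizedModule.surj q.asIdeal.primeCompl (ι X) w
  have hz' : s.1 • w = ι X z := hz
  have hiz : ι Y (i.lTensor M z) = 0 := by
    rw [← hnat, ← hz']
    rw [show i.lTensor (LocalizedModule q.asIdeal.primeCompl M) (s.1 • w) =
      AlgebraTensorModule.lTensor C (LocalizedModule q.asIdeal.primeCompl M) i (s.1 • w) from rfl,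
      map_smul]
    exact (congrArg (s.1 • ·) hw).trans (smul_zero _)
  obtain ⟨c₀, hc₀, h₀⟩ := (eq_zero_iff_exists_localized _).1 hiz
  have hiz₀ : i.lTensor M (c₀ • z) = 0 := by
    rw [show i.lTensor M (c₀ • z) = AlgebraTensorModule.lTensor C M i (c₀ • z) from rfl, map_smul]
    exact h₀
  obtain ⟨c, hc, h₁⟩ := h i (fun a ha y => hY _ (Ideal.mem_map_of_mem _ ha) y) hi _ hiz₀
  have hι : ι X z = 0 :=
    (eq_zero_iff_exists_localized z).2 ⟨c * c₀, q.asIdeal.primeCompl.mul_mem hc hc₀,
      by rw [mul_smul, h₁]⟩
  rw [← hz'] at hι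
  exact ((Module.End.isUnit_iff _).1 (IsLocalizedModule.map_units (ι X) s)).1
    (hι.trans (map_zero _).symm)

theorem fibFlat_of_quotFlat {q : PrimeSpectrum C}
    (h : FlatCrit.QuotFlat B (LocalizedModule q.asIdeal.primeCompl M)
      ((Ideal.comap (algebraMap A C) q.asIdeal).map (algebraMap A B))) :
    FibFlat A B C M q := by
  intro X Y _ _ _ _ i hY hi z hz
  rw [← eq_zero_iff_exists_localized]
  have hY' : ∀ r ∈ (Ideal.comap (algebraMap A C) q.asIdeal).map (algebraMap A B), ∀ y : Y,
      r • y = 0 := fun r hr y => by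
    induction hr using Submodule.span_induction with
    | mem x hx => obtain ⟨a, ha, rfl⟩ := hx; exact hY a ha y
    | zero => exact zero_smul _ _
    | add u v _ _ hu hv => rw [add_smul, hu, hv, add_zero]
    | smul c u _ hu => rw [smul_eq_mul, mul_smul, hu, smul_zero]
  apply (LinearMap.lTensor_inj_iff_rTensor_inj _ i).2 (h i hY' hi)
  rw [map_zero]
  have : i.lTensor (LocalizedModule q.asIdeal.primeCompl M) ∘
      AlgebraTensorModule.rTensor B X (LocalizedModule.mkLinearMap q.asIdeal.primeCompl M) =
      AlgebraTensorModule.rTensor B Y (LocalizedModule.mkLinearMap q.asIdeal.primeCompl M) ∘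
        i.lTensor M := by
    funext w
    simp only [comp_apply]
    induction w using TensorProduct.induction_on with
    | zero => simp
    | add u v hu hv => simp only [map_add, hu, hv]
    | tmul m x => simp
  refine (congrFun this z).trans ?_
  rw [comp_apply, hz, map_zero]

/-- **Criterion of flatness by fibres** in this language. -/
theorem flat_of_fibFlat [IsNoetherianRing B] [IsNoetherianRing C] [Module.Finite C M]
    [Module A M] [IsScalarTower A B M] [IsScalarTower A C M] {q : PrimeSpectrum C}
    [Module.Flat A (LocalizedModule q.asIdeal.primeCompl M)] (h : FibFlat A B C M q) :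
    Module.Flat B (LocalizedModule q.asIdeal.primeCompl M) := by
  let S' := Localization.AtPrime q.asIdeal
  refine FlatCrit.flat_of_rTensor_injective (S := S')
    ((Ideal.comap (algebraMap A C) q.asIdeal).map (algebraMap A B)) ?_ ?_ (quotFlat_of_fibFlat h)
  · rw [IsLocalRing.jacobson_eq_maximalIdeal ⊥ bot_ne_top, Ideal.map_map, Ideal.map_le_iff_le_comap]
    intro a ha
    rw [Ideal.mem_comap, RingHom.comp_apply, ← IsScalarTower.algebraMap_apply,
      IsScalarTower.algebraMap_apply A C S', IsLocalization.AtPrime.to_map_mem_maximal_iff S' q.asIdeal]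
    exact ha
  · exact FlatCrit.rTensor_map_injective
      (Module.Flat.rTensor_preserves_injective_linearMap _ Subtype.val_injective)

end Def

/-- A field over the fraction field of a domain is flat over the domain. -/
theorem flat_of_fraction_tower (D K K' : Type u) [CommRing D] [Field K] [Field K'] [Algebra D K]
    [Algebra K K'] [Algebra D K'] [IsScalarTower D K K'] [IsFractionRing D K] : Module.Flat D K' := by
  have : Module.Flat D K := IsLocalization.flat K (nonZeroDivisors D)
  exact Module.Flat.trans D K K'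

/-- `(A/p) ⊗ K ≅ K` when `p` kills `K`. -/
noncomputable def lidQuotient {A : Type u} [CommRing A] (p : Ideal A) (K : Type u) [AddCommGroup K] [Module A K]
    [Module (A ⧸ p) K] [IsScalarTower A (A ⧸ p) K] : (A ⧸ p) ⊗[A] K ≃ₗ[A ⧸ p] K :=
  LinearEquiv.ofBijective
    ((LinearMap.id : K →ₗ[A] K).liftBaseChange (A ⧸ p)) ⟨fun x y hxy => by
      have key : ∀ z : (A ⧸ p) ⊗[A] K,
          z = 1 ⊗ₜ[A] ((LinearMap.id : K →ₗ[A] K).liftBaseChange (A ⧸ p) z) := fun z => by
        induction z using TensorProduct.induction_on with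
        | zero => simp
        | add u v hu hv => rw [map_add, tmul_add, ← hu, ← hv]
        | tmul r k =>
          obtain ⟨r, rfl⟩ := Ideal.Quotient.mk_surjective r
          rw [LinearMap.liftBaseChange_tmul, LinearMap.id_apply,
            show (Ideal.Quotient.mk p r : A ⧸ p) = r • 1 from by
              rw [Algebra.smul_def, mul_one]; rfl,
            smul_assoc, one_smul, smul_tmul]
      rw [key x, key y, hxy], fun k => ⟨1 ⊗ₜ k, by simp⟩⟩

/-- Tensoring with the residue field of a prime above `p` is exact on modules killed by `p`. -/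
theorem lTensor_residueField_injective {A A' : Type u} [CommRing A] [CommRing A'] [Algebra A A']
    (p : Ideal A) [p.IsPrime] (p' : Ideal A') [p'.IsPrime] [p'.LiesOver p] {X Y : Type u}
    [AddCommGroup X] [AddCommGroup Y] [Module A X] [Module A Y] (i : X →ₗ[A] Y)
    (hY : ∀ a ∈ p, ∀ y : Y, a • y = 0) (hi : Injective i) :
    Injective (i.lTensor p'.ResidueField) := by
  let j : p.ResidueField →ₐ[A] p'.ResidueField :=
    Ideal.ResidueField.mapₐ p p' (Algebra.ofId A A') (p'.over_def p)
  let _ : Algebra p.ResidueField p'.ResidueField := j.toRingHom.toAlgebra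
  let _ : Algebra (A ⧸ p) p'.ResidueField :=
    (j.toRingHom.comp (algebraMap (A ⧸ p) p.ResidueField)).toAlgebra
  have : IsScalarTower (A ⧸ p) p.ResidueField p'.ResidueField := .of_algebraMap_eq' rfl
  have : IsScalarTower A (A ⧸ p) p'.ResidueField := .of_algebraMap_eq fun a => (j.commutes a).symm
  have : Module.Flat (A ⧸ p) p'.ResidueField :=
    flat_of_fraction_tower (A ⧸ p) p.ResidueField p'.ResidueField
  have hflat : Module.Flat (A ⧸ p) ((A ⧸ p) ⊗[A] p'.ResidueField) :=
    Module.Flat.of_linearEquiv (lidQuotient p p'.ResidueField)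
  exact (LinearMap.lTensor_inj_iff_rTensor_inj _ i).2 (FlatCrit.quotFlat_of_flat p hflat i hY hi)

section BaseChange

/-- `(K ⊗ W) → M ⊗ (K ⊗ X)` for `W = M ⊗ X` is injective. -/
theorem injective_of_leftInverse {A B M X K : Type u} [CommRing A] [CommRing B] [Algebra A B]
    [AddCommGroup M] [Module B M] [AddCommGroup X] [Module A X] [Module B X] [IsScalarTower A B X]
    [Module A (M ⊗[B] X)] (hA : ∀ (a : A) (m : M) (x : X), a • (m ⊗ₜ[B] x) = m ⊗ₜ[B] (a • x))
    [AddCommGroup K] [Module A K] [Module B (K ⊗[A] X)]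
    (hKX : ∀ (b : B) (k : K) (x : X), b • (k ⊗ₜ[A] x) = k ⊗ₜ[A] (b • x))
    (Ω : K ⊗[A] (M ⊗[B] X) →+ M ⊗[B] (K ⊗[A] X))
    (hΩ : ∀ k m x, Ω (k ⊗ₜ[A] (m ⊗ₜ[B] x)) = m ⊗ₜ[B] (k ⊗ₜ[A] x)) : Injective Ω := by
  let g : M → K ⊗[A] X →ₗ[A] K ⊗[A] (M ⊗[B] X) := fun m =>
    LinearMap.lTensor K
      { toFun := fun x => m ⊗ₜ[B] x
        map_add' := fun x y => tmul_add m x y
        map_smul' := fun a x => (hA a m x).symm }
  have hg : ∀ m k x, g m (k ⊗ₜ[A] x) = k ⊗ₜ[A] (m ⊗ₜ[B] x) := fun _ _ _ => rfl
  let G : M →+ K ⊗[A] X →+ K ⊗[A] (M ⊗[B] X) :=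
    AddMonoidHom.mk' (fun m => (g m).toAddMonoidHom) fun m n => AddMonoidHom.ext fun w => by
      simp only [AddMonoidHom.add_apply, LinearMap.toAddMonoidHom_coe]
      induction w using TensorProduct.induction_on with
      | zero => simp
      | add u v hu hv => simp only [map_add, hu, hv]; abel
      | tmul k x => rw [hg, hg, hg, add_tmul, tmul_add]
  let Γ : M ⊗[B] (K ⊗[A] X) →+ K ⊗[A] (M ⊗[B] X) := TensorProduct.liftAddHom G fun b m w => by
    show g (b • m) w = g m (b • w)
    induction w using TensorProduct.induction_on with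
    | zero => simp
    | add u v hu hv => simp only [map_add, smul_add, hu, hv]
    | tmul k x => rw [hKX, hg, hg, smul_tmul]
  refine HasLeftInverse.injective ⟨Γ, fun w => ?_⟩
  induction w using TensorProduct.induction_on with
  | zero => simp
  | add u v hu hv => simp only [map_add, hu, hv]
  | tmul k w =>
    induction w using TensorProduct.induction_on with
    | zero => simp
    | add u v hu hv => simp only [tmul_add, map_add, hu, hv]
    | tmul m x => rw [hΩ]; exact hg m k x

variable {A A' B C M : Type u} [CommRing A] [CommRing A'] [CommRing B] [CommRing C] [Algebra A A']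
  [Algebra A B] [Algebra B C] [Algebra A C] [IsScalarTower A B C]
  [AddCommGroup M] [Module C M] [Module B M] [IsScalarTower B C M]
  {B' C' M' : Type u} [CommRing B'] [CommRing C'] [Algebra A' B'] [Algebra B' C'] [Algebra A' C']
  [IsScalarTower A' B' C'] [Algebra A B'] [IsScalarTower A A' B'] [Algebra B B']
  [IsScalarTower A B B'] [Algebra C C'] [Algebra B C'] [IsScalarTower B B' C']
  [IsScalarTower B C C'] [Algebra A C'] [IsScalarTower A A' C'] [IsScalarTower A C C']
  [AddCommGroup M'] [Module C' M'] [Module B' M'] [IsScalarTower B' C' M']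
  [Module B M'] [IsScalarTower B B' M']
  {μ : M →ₗ[B] M'} (hμ : IsBaseChange B' μ)
  (hμC : ∀ (c : C) m, μ (c • m) = algebraMap C C' c • μ m)

section

variable (X : Type u) [AddCommGroup X] [Module B X] [Module B' X] [IsScalarTower B B' X]

/-- `M ⊗ X ≅ M' ⊗ X` for a base change `M'` of `M`. -/
noncomputable def bcTensor : M ⊗[B] X ≃+ M' ⊗[B'] X :=
  ((TensorProduct.comm B M X).toAddEquiv.trans
    (AlgebraTensorModule.cancelBaseChange B B' B' X M).symm.toAddEquiv).trans
    ((TensorProduct.congr (LinearEquiv.refl B' X) hμ.equiv).trans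
      (TensorProduct.comm B' X M')).toAddEquiv

theorem bcTensor_tmul (m : M) (x : X) : bcTensor hμ X (m ⊗ₜ x) = μ m ⊗ₜ x := by
  simp [bcTensor, IsBaseChange.equiv_tmul]

include hμC in
theorem bcTensor_smul (c : C) (z : M ⊗[B] X) :
    bcTensor hμ X (c • z) = algebraMap C C' c • bcTensor hμ X z := by
  induction z using TensorProduct.induction_on with
  | zero => simp
  | add u v hu hv => simp only [smul_add, map_add, hu, hv]
  | tmul m x => rw [TensorProduct.smul_tmul', bcTensor_tmul, bcTensor_tmul, hμC,
      TensorProduct.smul_tmul']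

end

theorem bcTensor_lTensor {X Y : Type u} [AddCommGroup X] [Module B X] [Module B' X]
    [IsScalarTower B B' X] [AddCommGroup Y] [Module B Y] [Module B' Y] [IsScalarTower B B' Y]
    (i : X →ₗ[B'] Y) (z : M ⊗[B] X) :
    bcTensor hμ Y ((i.restrictScalars B).lTensor M z) = i.lTensor M' (bcTensor hμ X z) := by
  induction z using TensorProduct.induction_on with
  | zero => simp
  | add u v hu hv => simp only [map_add, hu, hv]
  | tmul m x => simp [bcTensor_tmul]

variable {q' : PrimeSpectrum C'}

include hμ hμC in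
/-- Fibrewise flatness goes up along base changes. -/
theorem FibFlat.baseChange (h : FibFlat A B C M (PrimeSpectrum.comap (algebraMap C C') q')) :
    FibFlat A' B' C' M' q' := by
  intro X Y _ _ _ _ i hY hi z hz
  let _ := Module.compHom X (algebraMap B B')
  let _ := Module.compHom Y (algebraMap B B')
  have : IsScalarTower B B' X := .of_algebraMap_smul fun _ _ => rfl
  have : IsScalarTower B B' Y := .of_algebraMap_smul fun _ _ => rfl
  obtain ⟨z, rfl⟩ := (bcTensor hμ X).surjective z
  have hkill : ∀ a : A, algebraMap A C a ∈ (PrimeSpectrum.comap (algebraMap C C') q').asIdeal →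
      ∀ y : Y, algebraMap A B a • y = 0 := fun a ha y => by
    rw [← algebraMap_smul B' (algebraMap A B a) y, ← IsScalarTower.algebraMap_apply,
      IsScalarTower.algebraMap_apply A A' B']
    refine hY _ ?_ y
    rwa [← IsScalarTower.algebraMap_apply A A' C', IsScalarTower.algebraMap_apply A C C']
  obtain ⟨c, hc, hcz⟩ := h (i.restrictScalars B) hkill hi z (by
    apply (bcTensor hμ Y).injective
    rw [bcTensor_lTensor, hz, map_zero])
  exact ⟨algebraMap C C' c, hc, by rw [← bcTensor_smul hμ hμC, hcz, map_zero]⟩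

variable [Algebra.IsPushout A A' B B'] [Algebra.IsPushout A A' C C']

set_option maxHeartbeats 800000 in
include hμ hμC in
/-- Fibrewise flatness goes down along base changes. -/
theorem FibFlat.of_baseChange (h : FibFlat A' B' C' M' q') :
    FibFlat A B C M (PrimeSpectrum.comap (algebraMap C C') q') := by
  intro X Y _ _ _ _ i hY hi z hz
  let p : Ideal A := (q'.asIdeal.comap (algebraMap A' C')).comap (algebraMap A A')
  let p' : Ideal A' := q'.asIdeal.comap (algebraMap A' C')
  have : p'.LiesOver p := ⟨rfl⟩
  let K := p'.ResidueField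
  let θ : B' →ₐ[A] K ⊗[A] B :=
    (Algebra.TensorProduct.map (IsScalarTower.toAlgHom A A' K) (AlgHom.id A B)).comp
      ((Algebra.IsPushout.equiv A A' B B').symm.toAlgHom.restrictScalars A)
  have hθB : ∀ b, θ (algebraMap B B' b) = (1 : K) ⊗ₜ[A] b := fun b => by
    simp [θ, Algebra.IsPushout.equiv_symm_algebraMap_right]
  have hθA : ∀ a, θ (algebraMap A' B' a) = algebraMap A' K a ⊗ₜ[A] (1 : B) := fun a => by
    simp [θ, Algebra.IsPushout.equiv_symm_algebraMap_left]
  let _ := Module.compHom X (algebraMap A B)
  let _ := Module.compHom Y (algebraMap A B)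
  have : IsScalarTower A B X := .of_algebraMap_smul fun _ _ => rfl
  have : IsScalarTower A B Y := .of_algebraMap_smul fun _ _ => rfl
  let _ : Module (K ⊗[A] B) (K ⊗[A] X) := FlatDescent.bcModule A B X K
  let _ : Module (K ⊗[A] B) (K ⊗[A] Y) := FlatDescent.bcModule A B Y K
  let _ := Module.compHom (K ⊗[A] X) θ.toRingHom
  let _ := Module.compHom (K ⊗[A] Y) θ.toRingHom
  let _ := Module.compHom (K ⊗[A] X) (algebraMap B B')
  let _ := Module.compHom (K ⊗[A] Y) (algebraMap B B')
  have : IsScalarTower B B' (K ⊗[A] X) := .of_algebraMap_smul fun _ _ => rfl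
  have : IsScalarTower B B' (K ⊗[A] Y) := .of_algebraMap_smul fun _ _ => rfl
  have hsX : ∀ (b : B) (k : K) (x : X), b • (k ⊗ₜ[A] x) = k ⊗ₜ[A] (b • x) := fun b k x => by
    show θ (algebraMap B B' b) • (k ⊗ₜ[A] x) = _
    rw [hθB, FlatDescent.bc_smul_tmul, one_mul]
  have hsA : ∀ (a : A') (k : K) (x : X),
      algebraMap A' B' a • (k ⊗ₜ[A] x) = (algebraMap A' K a * k) ⊗ₜ[A] x := fun a k x => by
    show θ (algebraMap A' B' a) • (k ⊗ₜ[A] x) = _
    rw [hθA, FlatDescent.bc_smul_tmul, one_smul]
  have hkill : ∀ a ∈ p, ∀ y : Y, a • y = 0 := fun a ha y => by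
    refine hY a ?_ y
    rw [PrimeSpectrum.comap_asIdeal, Ideal.mem_comap, ← IsScalarTower.algebraMap_apply,
      IsScalarTower.algebraMap_apply A A' C']
    exact ha
  have hkill' : ∀ a : A', algebraMap A' C' a ∈ q'.asIdeal → ∀ w : K ⊗[A] Y,
      algebraMap A' B' a • w = 0 := fun a ha w => by
    show θ (algebraMap A' B' a) • w = 0
    rw [hθA, Ideal.algebraMap_residueField_eq_zero.2 (show a ∈ p' from ha), zero_tmul, zero_smul]
  let iA : X →ₗ[A] Y := i.restrictScalars A
  have hiinj : Injective (iA.lTensor K) := lTensor_residueField_injective p p' iA hkill hi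
  let i' : K ⊗[A] X →ₗ[B'] K ⊗[A] Y :=
    { toFun := iA.lTensor K
      map_add' := map_add _
      map_smul' := fun b' w => by
        show iA.lTensor K (θ b' • w) = θ b' • iA.lTensor K w
        generalize θ b' = t
        induction w using TensorProduct.induction_on with
        | zero => simp
        | add u v hu hv => simp only [map_add, smul_add, hu, hv]
        | tmul k x =>
          induction t using TensorProduct.induction_on with
          | zero => simp
          | add u v hu hv => simp only [map_add, add_smul, hu, hv]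
          | tmul l b => simp [FlatDescent.bc_smul_tmul, iA] }
  -- `A` acts on `W = M ⊗ X` through `X`
  let _ : Module A (M ⊗[B] X) := Module.compHom _ (algebraMap A B)
  have hAW : ∀ (a : A) (m : M) (x : X), a • (m ⊗ₜ[B] x) = m ⊗ₜ[B] (a • x) := fun a m x => by
    show algebraMap A B a • (m ⊗ₜ[B] x) = _
    rw [← TensorProduct.tmul_smul]
    rfl
  let ω : X →ₗ[B] (K ⊗[A] X) :=
    { toFun := fun x => (1 : K) ⊗ₜ[A] x
      map_add' := tmul_add _
      map_smul' := fun b x => (hsX b 1 x).symm }
  let Φ : M ⊗[B] X →+ M' ⊗[B'] (K ⊗[A] X) :=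
    (bcTensor hμ (K ⊗[A] X)).toAddMonoidHom.comp (ω.lTensor M).toAddMonoidHom
  have hz' : i'.lTensor M' (Φ z) = 0 := by
    let ωY : Y →ₗ[B] (K ⊗[A] Y) :=
      { toFun := fun y => (1 : K) ⊗ₜ[A] y
        map_add' := tmul_add _
        map_smul' := fun b y => by
          show _ = θ (algebraMap B B' b) • ((1 : K) ⊗ₜ[A] y)
          rw [hθB, FlatDescent.bc_smul_tmul, one_mul] }
    have key : ∀ w, i'.lTensor M' (Φ w) =
        bcTensor hμ (K ⊗[A] Y) (ωY.lTensor M (i.lTensor M w)) := fun w => by
      induction w using TensorProduct.induction_on with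
      | zero => simp
      | add u v hu hv => simp only [map_add, hu, hv]
      | tmul m x => simp [Φ, ω, ωY, bcTensor_tmul, i', iA]
    rw [key, hz, map_zero, map_zero]
  obtain ⟨c', hc', hcz⟩ := h i' hkill' hiinj (Φ z) hz'
  -- the annihilator of `z`
  by_contra hcon
  push Not at hcon
  let I : Ideal C := LinearMap.ker (LinearMap.toSpanSingleton C (M ⊗[B] X) z)
  have hI : I ≤ (PrimeSpectrum.comap (algebraMap C C') q').asIdeal := fun c hc =>
    by_contra fun h => hcon c h hc
  -- `κ(p') ⊗ W → M' ⊗ (κ(p') ⊗ X)` is injective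
  let ΩB : K ⊗[A] (M ⊗[B] X) →+ M ⊗[B] (K ⊗[A] X) := TensorProduct.liftAddHom
    (AddMonoidHom.mk' (fun k => (LinearMap.lTensor M
      ({ toFun := fun x => k ⊗ₜ[A] x
         map_add' := tmul_add _
         map_smul' := fun b x => (hsX b k x).symm } : X →ₗ[B] K ⊗[A] X)).toAddMonoidHom)
      fun k l => AddMonoidHom.ext fun w => by
        simp only [AddMonoidHom.add_apply, LinearMap.toAddMonoidHom_coe]
        induction w using TensorProduct.induction_on with
        | zero => simp
        | add u v hu hv => simp only [map_add, hu, hv]; abel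
        | tmul m x => simp [add_tmul, tmul_add])
    fun a k w => by
      simp only [AddMonoidHom.mk'_apply, LinearMap.toAddMonoidHom_coe]
      induction w using TensorProduct.induction_on with
      | zero => simp
      | add u v hu hv => simp only [map_add, smul_add, hu, hv]
      | tmul m x => simp [hAW, smul_tmul]
  have hΩB : Injective ΩB := injective_of_leftInverse hAW hsX ΩB fun k m x => rfl
  let Ω : K ⊗[A] (M ⊗[B] X) →+ M' ⊗[B'] (K ⊗[A] X) :=
    (bcTensor hμ (K ⊗[A] X)).toAddMonoidHom.comp ΩB
  have hΩ : Injective Ω := (bcTensor hμ (K ⊗[A] X)).injective.comp hΩB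
  -- the cyclic module of `z`
  let jz : (C ⧸ I) →ₗ[A] M ⊗[B] X :=
    { toFun := fun c => I.liftQ (LinearMap.toSpanSingleton C (M ⊗[B] X) z) le_rfl c
      map_add' := map_add _
      map_smul' := fun a c => by
        obtain ⟨c, rfl⟩ := Ideal.Quotient.mk_surjective c
        show I.liftQ _ _ (Submodule.Quotient.mk (a • c)) = a • I.liftQ _ _ (Submodule.Quotient.mk c)
        rw [Submodule.liftQ_apply, Submodule.liftQ_apply, LinearMap.toSpanSingleton_apply,
          LinearMap.toSpanSingleton_apply]
        show (a • c) • z = algebraMap A B a • (c • z)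
        rw [Algebra.smul_def, mul_smul, IsScalarTower.algebraMap_apply A B C, algebraMap_smul] }
  have hjz : Injective jz := fun x y hxy => (LinearMap.ker_eq_bot.1
    (Submodule.ker_liftQ_eq_bot' I (LinearMap.toSpanSingleton C (M ⊗[B] X) z) rfl)) hxy
  have hjW : Injective (jz.lTensor K) := by
    refine lTensor_residueField_injective p p' jz (fun a ha w => ?_) hjz
    show algebraMap A B a • w = 0
    induction w using TensorProduct.induction_on with
    | zero => simp
    | add u v hu hv => rw [smul_add, hu, hv, add_zero]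
    | tmul m x =>
      rw [← TensorProduct.tmul_smul]
      have : algebraMap A B a • x = 0 := hi (by
        rw [map_smul, map_zero]
        exact hkill a ha (i x))
      rw [this, tmul_zero]
  -- the class of `c'` in `κ(p') ⊗ C / I` vanishes
  let π : C' →ₐ[A] K ⊗[A] (C ⧸ I) :=
    (Algebra.TensorProduct.map (IsScalarTower.toAlgHom A A' K) (Ideal.Quotient.mkₐ A I)).comp
      ((Algebra.IsPushout.equiv A A' C C').symm.toAlgHom.restrictScalars A)
  have hπ : ∀ d : C', Ω (jz.lTensor K (π d)) = d • Φ z := fun d => by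
    obtain ⟨t, rfl⟩ := (Algebra.IsPushout.equiv A A' C C').surjective d
    induction t using TensorProduct.induction_on with
    | zero => simp
    | add u v hu hv => simp only [map_add, add_smul, hu, hv]
    | tmul a c =>
      have e1 : π (Algebra.IsPushout.equiv A A' C C' (a ⊗ₜ c)) =
          algebraMap A' K a ⊗ₜ[A] Ideal.Quotient.mk I c := by simp [π]
      rw [e1, LinearMap.lTensor_tmul, Algebra.IsPushout.equiv_tmul]
      show bcTensor hμ _ (ΩB (algebraMap A' K a ⊗ₜ[A] (c • z))) = _
      rw [mul_smul, show algebraMap C C' c • Φ z = Φ (c • z) by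
        show _ = bcTensor hμ _ (AlgebraTensorModule.lTensor C M ω (c • z))
        rw [map_smul, bcTensor_smul hμ hμC]
        rfl]
      generalize c • z = w
      induction w using TensorProduct.induction_on with
      | zero => simp
      | add u v hu hv => simp only [tmul_add, map_add, smul_add, hu, hv]
      | tmul m x =>
        show bcTensor hμ _ (m ⊗ₜ[B] (algebraMap A' K a ⊗ₜ[A] x)) =
          algebraMap A' C' a • bcTensor hμ _ (m ⊗ₜ[B] ((1 : K) ⊗ₜ[A] x))
        rw [bcTensor_tmul, bcTensor_tmul, TensorProduct.smul_tmul',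
          IsScalarTower.algebraMap_apply A' B' C', algebraMap_smul, smul_tmul, hsA, mul_one]
  have hπc : π c' = 0 := hjW (hΩ (by rw [hπ, hcz, map_zero, map_zero]))
  -- evaluate in the residue field of `q'`
  have : q'.asIdeal.LiesOver p' := ⟨rfl⟩
  let k' : K →ₐ[A] q'.asIdeal.ResidueField :=
    (Ideal.ResidueField.mapₐ p' q'.asIdeal (IsScalarTower.toAlgHom A A' C') rfl)
  let l : (C ⧸ I) →ₐ[A] q'.asIdeal.ResidueField :=
    Ideal.Quotient.liftₐ I ((IsScalarTower.toAlgHom A C' q'.asIdeal.ResidueField).comp
      (IsScalarTower.toAlgHom A C C')) fun c hc =>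
        Ideal.algebraMap_residueField_eq_zero.2 (hI hc)
  let ev := Algebra.TensorProduct.lift k' l fun _ _ => Commute.all _ _
  have hev : ∀ d, ev (π d) = algebraMap C' q'.asIdeal.ResidueField d := fun d => by
    obtain ⟨t, rfl⟩ := (Algebra.IsPushout.equiv A A' C C').surjective d
    induction t using TensorProduct.induction_on with
    | zero => simp
    | add u v hu hv => simp only [map_add, hu, hv]
    | tmul a c =>
      have e1 : π (Algebra.IsPushout.equiv A A' C C' (a ⊗ₜ c)) =
          algebraMap A' K a ⊗ₜ[A] Ideal.Quotient.mk I c := by simp [π]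
      rw [e1, Algebra.IsPushout.equiv_tmul, map_mul, Algebra.TensorProduct.lift_tmul]
      congr 1
      exact Ideal.ResidueField.map_algebraMap _ _ _ _ a
  exact hc' (Ideal.algebraMap_residueField_eq_zero.1 (by rw [← hev, hπc, map_zero]))

end BaseChange

end Groth.Agent.EGA43.Cons
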