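import Groth.Agent.EGA43.Cons.FibFlatLocus
import Mathlib.RingTheory.Localization.BaseChange
import Mathlib.LinearAlgebra.TensorProduct.Quotient
import Mathlib.RingTheory.Flat.Localization

/-!
# Fibrewise flatness on local rings
-/

set_option autoImplicit false
set_option backward.isDefEq.respectTransparency false

universe u

open TensorProduct Function

namespace Groth.Agent.EGA43.Cons

/-- Converse of `FlatCrit.quotFlat_of_flat`. -/
theorem flat_of_quotFlat_quot {R M : Type u} [CommRing R] [AddCommGroup M] [Module R M] (I : Ideal R)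
    (h : FlatCrit.QuotFlat R M I) : Module.Flat (R ⧸ I) ((R ⧸ I) ⊗[R] M) := by
  rw [Module.Flat.iff_rTensor_preserves_injective_linearMap]
  intro X Y _ _ _ _ i hi
  let _ : Module R X := Module.compHom X (Ideal.Quotient.mk I)
  let _ : Module R Y := Module.compHom Y (Ideal.Quotient.mk I)
  have : IsScalarTower R (R ⧸ I) X := .of_algebraMap_smul fun _ _ => rfl
  have : IsScalarTower R (R ⧸ I) Y := .of_algebraMap_smul fun _ _ => rfl
  let eA := AlgebraTensorModule.cancelBaseChange R (R ⧸ I) (R ⧸ I) X M
  let eB := AlgebraTensorModule.cancelBaseChange R (R ⧸ I) (R ⧸ I) Y M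
  have hcomm : ∀ x, (i.restrictScalars R).rTensor M (eA x) = eB (i.rTensor _ x) := fun x => by
    induction x with
    | zero => simp
    | add x y hx hy => simp [hx, hy]
    | tmul a y =>
      induction y with
      | zero => simp
      | add x y hx hy => simp [tmul_add, hx, hy]
      | tmul c m =>
        simp only [eA, eB, AlgebraTensorModule.cancelBaseChange_tmul, LinearMap.rTensor_tmul]
        rw [← map_smul i]
        rfl
  have hY : ∀ r ∈ I, ∀ y : Y, r • y = 0 := fun r hr y => by
    rw [← algebraMap_smul (R ⧸ I) r y, Ideal.Quotient.algebraMap_eq,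
      Ideal.Quotient.eq_zero_iff_mem.2 hr, zero_smul]
  intro x y hxy
  apply eA.injective
  apply h (i.restrictScalars R) hY hi
  rw [hcomm, hcomm, hxy]

theorem flat_quotient_iff_quotFlat {R M : Type u} [CommRing R] [AddCommGroup M] [Module R M]
    (I : Ideal R) :
    Module.Flat (R ⧸ I) (M ⧸ (I • ⊤ : Submodule R M)) ↔ FlatCrit.QuotFlat R M I := by
  have e : (R ⧸ I) ⊗[R] M ≃ₗ[R ⧸ I] M ⧸ (I • ⊤ : Submodule R M) :=
    (TensorProduct.quotTensorEquivQuotSMul M I).extendScalarsOfSurjective
      Ideal.Quotient.mk_surjective
  rw [← Module.Flat.equiv_iff e]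
  exact ⟨FlatCrit.quotFlat_of_flat I, flat_of_quotFlat_quot I⟩

variable {B By N : Type u} [CommRing B] [CommRing By] [Algebra B By] [AddCommGroup N] [Module B N]
  [Module By N] [IsScalarTower B By N] (J : Ideal B)

theorem quotFlat_localization (S : Submonoid B) [IsLocalization S By] :
    FlatCrit.QuotFlat B N J ↔ FlatCrit.QuotFlat By N (J.map (algebraMap B By)) := by
  constructor
  · intro h X Y _ _ _ _ i hY hi
    let _ : Module B X := Module.compHom X (algebraMap B By)
    let _ : Module B Y := Module.compHom Y (algebraMap B By)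
    have : IsScalarTower B By X := .of_algebraMap_smul fun _ _ => rfl
    have : IsScalarTower B By Y := .of_algebraMap_smul fun _ _ => rfl
    let eX : X ⊗[By] N ≃ₗ[By] X ⊗[B] N := IsLocalization.moduleTensorEquiv S By X N
    let eY : Y ⊗[By] N ≃ₗ[By] Y ⊗[B] N := IsLocalization.moduleTensorEquiv S By Y N
    have hcomm : ∀ w, (i.restrictScalars B).rTensor N (eX w) = eY (i.rTensor N w) := fun w => by
      induction w using TensorProduct.induction_on with
      | zero => simp
      | add u v hu hv => simp only [map_add, hu, hv]
      | tmul x n => rfl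
    intro a b hab
    apply eX.injective
    refine h (i.restrictScalars B) (fun r hr y => ?_) hi ?_
    · rw [← algebraMap_smul By r y]
      exact hY _ (Ideal.mem_map_of_mem _ hr) y
    · rw [hcomm, hcomm, hab]
  · intro h X Y _ _ _ _ i hY hi
    have : Module.Flat B By := IsLocalization.flat By S
    let i' : By ⊗[B] X →ₗ[By] By ⊗[B] Y := i.baseChange By
    have hi' : Injective i' := Module.Flat.lTensor_preserves_injective_linearMap i hi
    have hY' : ∀ r ∈ J.map (algebraMap B By), ∀ y : By ⊗[B] Y, r • y = 0 := fun r hr y => by
      induction hr using Submodule.span_induction with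
      | mem x hx =>
        obtain ⟨a, ha, rfl⟩ := hx
        rw [algebraMap_smul]
        induction y using TensorProduct.induction_on with
        | zero => simp
        | add u v hu hv => rw [smul_add, hu, hv, add_zero]
        | tmul t y => rw [← tmul_smul, hY a ha y, tmul_zero]
      | zero => exact zero_smul _ _
      | add u v _ _ hu hv => rw [add_smul, hu, hv, add_zero]
      | smul c u _ hu => rw [smul_eq_mul, mul_smul, hu, smul_zero]
    have key := (LinearMap.lTensor_inj_iff_rTensor_inj N i').2 (h i' hY' hi')
    rw [← LinearMap.lTensor_inj_iff_rTensor_inj]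
    let eX := AlgebraTensorModule.cancelBaseChange B By By N X
    let eY := AlgebraTensorModule.cancelBaseChange B By By N Y
    have hcomm : ∀ w, i.lTensor N (eX w) = eY (i'.lTensor N w) := fun w => by
      induction w using TensorProduct.induction_on with
      | zero => simp
      | add u v hu hv => simp only [map_add, hu, hv]
      | tmul n t =>
        induction t using TensorProduct.induction_on with
        | zero => simp
        | add u v hu hv => simp only [tmul_add, map_add, hu, hv]
        | tmul t x => simp [eX, eY, i']
    intro a b hab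
    obtain ⟨a, rfl⟩ := eX.surjective a
    obtain ⟨b, rfl⟩ := eX.surjective b
    rw [hcomm, hcomm] at hab
    exact congrArg eX (key (eY.injective hab))

/-- `FibFlat` on stalks: `M_q / p M_q` is flat over `B_r / p B_r`. -/
theorem flat_quotient_iff_fibFlat {A C M Fx : Type u} [CommRing A] [CommRing C] [Algebra A B]
    [Algebra B C] [Algebra A C] [IsScalarTower A B C] [AddCommGroup M] [Module C M] [Module B M]
    [IsScalarTower B C M] [AddCommGroup Fx] [Module C Fx] [Module B Fx] [IsScalarTower B C Fx]
    [Module By Fx] [IsScalarTower B By Fx] (q : PrimeSpectrum C) (S : Submonoid B)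
    [IsLocalization S By] (φ : M →ₗ[C] Fx) [IsLocalizedModule q.asIdeal.primeCompl φ] (I : Ideal By)
    (hI : I = ((q.asIdeal.comap (algebraMap A C)).map (algebraMap A B)).map (algebraMap B By)) :
    Module.Flat (By ⧸ I) (Fx ⧸ (I • ⊤ : Submodule By Fx)) ↔ FibFlat A B C M q := by
  let e : LocalizedModule q.asIdeal.primeCompl M ≃ₗ[B] Fx :=
    (IsLocalizedModule.iso q.asIdeal.primeCompl φ).restrictScalars B
  subst hI
  rw [flat_quotient_iff_quotFlat, ← quotFlat_localization _ S]
  exact ⟨fun h => fibFlat_of_quotFlat (h.of_linearEquiv e.symm),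
    fun h => (quotFlat_of_fibFlat h).of_linearEquiv e⟩

end Groth.Agent.EGA43.Cons
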