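import Groth.Agent.EGA43.Cons.FibreCritFT
import Groth.Agent.EGA43.Cons.FibFlatBridge
import Mathlib.RingTheory.Flat.EquationalCriterion
import Mathlib.RingTheory.Flat.Localization

/-!
# Corollaries of the criterion of flatness by fibres
-/

set_option autoImplicit false
set_option backward.isDefEq.respectTransparency false

universe u

open TensorProduct Function

namespace Groth.Agent.EGA43.Cons

section Fibre

variable {A B C M : Type u} [CommRing A] [CommRing B] [CommRing C] [Algebra A B] [Algebra B C]
  [Algebra A C] [IsScalarTower A B C] [AddCommGroup M] [Module C M] [Module B M]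
  [IsScalarTower B C M]

/-- `FibFlat` from flatness of a quotient by an ideal inside `q`. -/
theorem fibFlat_of_flat_quotient {q : PrimeSpectrum C} (I : Ideal A)
    (hI : I ≤ q.asIdeal.comap (algebraMap A C))
    (h : Module.Flat (B ⧸ I.map (algebraMap A B)) ((B ⧸ I.map (algebraMap A B)) ⊗[B] M)) :
    FibFlat A B C M q := by
  intro X Y _ _ _ _ i hY hi z hz
  refine ⟨1, q.asIdeal.primeCompl.one_mem, ?_⟩
  rw [one_smul]
  have hkill : ∀ r ∈ I.map (algebraMap A B), ∀ y : Y, r • y = 0 := fun r hr y => by
    induction hr using Submodule.span_induction with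
    | mem x hx => obtain ⟨a, ha, rfl⟩ := hx; exact hY a (hI ha) y
    | zero => exact zero_smul _ _
    | add u v _ _ hu hv => rw [add_smul, hu, hv, add_zero]
    | smul c u _ hu => rw [smul_eq_mul, mul_smul, hu, smul_zero]
  exact (LinearMap.lTensor_inj_iff_rTensor_inj M i).2 (FlatCrit.quotFlat_of_flat _ h i hkill hi)
    (hz.trans (map_zero _).symm)

/-- `FibFlat` from flatness over the fibre ring. -/
theorem fibFlat_of_flat_fibre {M : Type u} [AddCommGroup M] [Module B M] (q : PrimeSpectrum B)
    (p : Ideal A) [p.IsPrime] (hp : q.asIdeal.comap (algebraMap A B) = p)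
    (h : Module.Flat (B ⊗[A] p.ResidueField) ((B ⊗[A] p.ResidueField) ⊗[B] M)) :
    FibFlat A B B M q := by
  subst hp
  let p := q.asIdeal.comap (algebraMap A B)
  have : q.asIdeal.LiesOver p := ⟨rfl⟩
  let K := p.ResidueField
  let B' := B ⊗[A] K
  let M' := B' ⊗[B] M
  let _ : Algebra K B' := Algebra.TensorProduct.rightAlgebra
  have : IsScalarTower A K B' := .of_algebraMap_eq fun a => by
    show algebraMap A B a ⊗ₜ[A] (1 : K) = (1 : B) ⊗ₜ[A] algebraMap A K a
    rw [Algebra.algebraMap_eq_smul_one, Algebra.algebraMap_eq_smul_one, TensorProduct.smul_tmul]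
  let μ : M →ₗ[B] M' := TensorProduct.mk B B' M 1
  have hμ : IsBaseChange B' μ := TensorProduct.isBaseChange B M B'
  have hμC : ∀ (c : B) m, μ (c • m) = algebraMap B B' c • μ m := fun c m => by
    rw [algebraMap_smul, map_smul]
  let kq : K →ₐ[A] q.asIdeal.ResidueField :=
    Ideal.ResidueField.mapₐ p q.asIdeal (Algebra.ofId A B) rfl
  let Ψ : B' →ₐ[A] q.asIdeal.ResidueField :=
    Algebra.TensorProduct.lift (IsScalarTower.toAlgHom A B _) kq fun _ _ => Commute.all _ _
  let q' : PrimeSpectrum B' := ⟨RingHom.ker Ψ, RingHom.ker_isPrime _⟩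
  have hq' : PrimeSpectrum.comap (algebraMap B B') q' = q := by
    ext b
    show Ψ (b ⊗ₜ[A] (1 : K)) = 0 ↔ _
    rw [Algebra.TensorProduct.lift_tmul, map_one, mul_one, IsScalarTower.toAlgHom_apply,
      Ideal.algebraMap_residueField_eq_zero]
  have h' : FibFlat K B' B' M' q' := by
    have : Module.Flat B' M' := h
    exact fibFlat_of_flat (flat_localizedModule q')
  rw [← hq']
  exact FibFlat.of_baseChange (A' := K) hμ hμC h'

end Fibre

theorem flat_of_forall_localized {B C M : Type u} [CommRing B] [CommRing C] [Algebra B C]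
    [AddCommGroup M] [Module C M] [Module B M] [IsScalarTower B C M]
    (h : ∀ q : PrimeSpectrum C, Module.Flat B (LocalizedModule q.asIdeal.primeCompl M)) :
    Module.Flat B M := by
  rw [Module.Flat.iff_lTensor_preserves_injective_linearMap]
  intro X Y _ _ _ _ i hi
  rw [injective_iff_map_eq_zero]
  intro z hz
  by_contra hne
  obtain ⟨m, hm, hle⟩ := Ideal.exists_le_maximal (LinearMap.toSpanSingleton C _ z).ker fun htop =>
    hne <| by simpa using LinearMap.mem_ker.1 (htop ▸ Submodule.mem_top :
      (1 : C) ∈ (LinearMap.toSpanSingleton C _ z).ker)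
  have := h ⟨m, hm.isPrime⟩
  obtain ⟨t, ht, htz⟩ := FlatOpen.exists_smul_eq_zero_of_flat i hi m.primeCompl z hz
  exact ht (hle (LinearMap.mem_ker.2 htz))

theorem flat_of_flat_residueField {A B M : Type u} [CommRing A] [CommRing B] [Algebra A B]
    [Algebra.FinitePresentation A B] [AddCommGroup M] [Module B M] [Module A M] [IsScalarTower A B M]
    [Module.FinitePresentation B M] [Module.Flat A M]
    (h : ∀ (p : Ideal A) [p.IsPrime],
      Module.Flat (B ⊗[A] p.ResidueField) ((B ⊗[A] p.ResidueField) ⊗[B] M)) : Module.Flat B M :=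
  flat_of_forall_localized (C := B) fun q =>
    flat_of_fibFlat_of_finiteType (A := A) q (flat_localizedModule q)
      (fibFlat_of_flat_fibre q _ rfl (h _))

theorem flat_of_flat_quotient {A B C M : Type u} [CommRing A] [CommRing B]
    [CommRing C] [Algebra A B] [Algebra B C] [Algebra A C] [IsScalarTower A B C]
    [Algebra.FiniteType A B] [Algebra.FinitePresentation A C] [AddCommGroup M] [Module C M]
    [Module B M] [IsScalarTower B C M] [Module A M] [IsScalarTower A C M]
    [Module.FinitePresentation C M] [Module.Flat A M] (I : Ideal A)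
    (hI : ∀ a ∈ I, IsNilpotent a)
    (h : Module.Flat (B ⧸ I.map (algebraMap A B)) ((B ⧸ I.map (algebraMap A B)) ⊗[B] M)) :
    Module.Flat B M :=
  flat_of_forall_localized (C := C) fun q =>
    flat_of_fibFlat_of_finiteType (A := A) q (flat_localizedModule q)
      (fibFlat_of_flat_quotient I (fun a ha => by
        obtain ⟨n, hn⟩ := hI a ha
        refine q.isPrime.mem_of_pow_mem n ?_
        rw [← map_pow, hn, map_zero]
        exact q.asIdeal.zero_mem) h)

end Groth.Agent.EGA43.Cons
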