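import Groth.Agent.EGA43.Cons.FibreCrit
import Mathlib.RingTheory.MvPolynomial.Localization
import Mathlib.RingTheory.Localization.BaseChange
import Mathlib.RingTheory.Localization.Ideal
import Mathlib.RingTheory.Spectrum.Prime.Topology

/-!
# The criterion of flatness by fibres, the middle algebra only of finite type (EGA IV 11.3.10)
-/

set_option autoImplicit false
set_option backward.isDefEq.respectTransparency false

universe u

open TensorProduct Function

namespace Groth.Agent.EGA43.Cons

/-- The kernel of `A[Y] → B` is finitely generated generically on the fibre over `p`. -/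
theorem exists_fg_stage {A : Type u} [CommRing A] {n : ℕ} (p : Ideal A) [p.IsPrime]
    (J : Ideal (MvPolynomial (Fin n) A)) :
    ∃ I : Ideal (MvPolynomial (Fin n) A), I.FG ∧ I ≤ J ∧
      ∀ b ∈ J, ∃ a ∉ p, MvPolynomial.C a * b ∈ I ⊔ p.map MvPolynomial.C := by
  let g := MvPolynomial.map (σ := Fin n) (Ideal.Quotient.mk p)
  have hg : Surjective g := MvPolynomial.map_surjective _ Ideal.Quotient.mk_surjective
  let K := FractionRing (A ⧸ p)
  let h := MvPolynomial.map (σ := Fin n) (algebraMap (A ⧸ p) K)
  obtain ⟨s, hs⟩ := (IsNoetherian.noetherian ((J.map g).map h) : ((J.map g).map h).FG)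
  have hsub : ∀ w ∈ s, ∃ T : Finset (MvPolynomial (Fin n) A), (↑T : Set (MvPolynomial (Fin n) A)) ⊆ (↑J : Set (MvPolynomial (Fin n) A)) ∧
      w ∈ Ideal.span ((h.comp g) '' T) := fun w hw => by
    have : w ∈ Ideal.span ((h.comp g) '' J) := by
      show w ∈ J.map (h.comp g)
      rw [← Ideal.map_map, ← hs]
      exact Submodule.subset_span hw
    obtain ⟨t, ht, hwt⟩ := Submodule.mem_span_finite_of_mem_span this
    classical
    obtain ⟨T, hT, he⟩ := Finset.subset_set_image_iff.1 ht
    subst he
    exact ⟨T, hT, by rwa [Finset.coe_image] at hwt⟩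
  choose T hT hwT using hsub
  classical
  let T₀ := s.attach.biUnion fun w => T w.1 w.2
  refine ⟨Ideal.span T₀, ⟨T₀, rfl⟩, Ideal.span_le.2 fun x hx => ?_, fun b hb => ?_⟩
  · obtain ⟨w, -, hxw⟩ := Finset.mem_biUnion.1 hx
    exact hT w.1 w.2 hxw
  have hle : (J.map g).map h ≤ ((Ideal.span (T₀ : Set _)).map g).map h := by
    rw [← hs, Submodule.span_le]
    intro w hw
    rw [SetLike.mem_coe, Ideal.map_map, Ideal.map_span]
    exact Ideal.span_mono (Set.image_mono fun x hx =>
      Finset.mem_biUnion.2 ⟨⟨w, hw⟩, Finset.mem_attach _ _, hx⟩) (hwT w hw)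
  let _ : Algebra (MvPolynomial (Fin n) (A ⧸ p)) (MvPolynomial (Fin n) K) :=
    MvPolynomial.algebraMvPolynomial
  have hmem : h (g b) ∈ ((Ideal.span (T₀ : Set _)).map g).map h :=
    hle (Ideal.mem_map_of_mem _ (Ideal.mem_map_of_mem _ hb))
  obtain ⟨⟨⟨x, hx⟩, ⟨_, a', ha', rfl⟩⟩, hxa⟩ := (IsLocalization.mem_map_algebraMap_iff
    ((nonZeroDivisors (A ⧸ p)).map (MvPolynomial.C (σ := Fin n))) (MvPolynomial (Fin n) K)).1 hmem
  have hxa' : h (g b * MvPolynomial.C a') = h x := (map_mul h _ _).trans hxa
  have hinj : Injective h := MvPolynomial.map_injective _ (IsFractionRing.injective _ _)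
  obtain ⟨a, rfl⟩ := Ideal.Quotient.mk_surjective a'
  refine ⟨a, fun hap => nonZeroDivisors.ne_zero ha' (Ideal.Quotient.eq_zero_iff_mem.2 hap), ?_⟩
  have : g (MvPolynomial.C a * b) ∈ (Ideal.span (T₀ : Set _)).map g := by
    rw [map_mul, MvPolynomial.map_C, mul_comm, hinj hxa']
    exact hx
  rw [← Ideal.mem_comap, Ideal.comap_map_of_surjective g hg,
    ← RingHom.ker_eq_comap_bot, MvPolynomial.ker_map, Ideal.mk_ker] at this
  exact this

/-- A module over a quotient ring is its own base change. -/
theorem isBaseChange_id_of_surjective {B₂ B M : Type u} [CommRing B₂] [CommRing B] [Algebra B₂ B]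
    [AddCommGroup M] [Module B M] [Module B₂ M] [IsScalarTower B₂ B M]
    (hπ : Surjective (algebraMap B₂ B)) : IsBaseChange B (LinearMap.id : M →ₗ[B₂] M) := by
  refine IsBaseChange.of_lift_unique _ fun Q _ _ _ _ g => ?_
  refine ⟨{ toFun := g, map_add' := map_add g, map_smul' := fun b m => ?_ }, LinearMap.ext fun _ => rfl,
    fun g' hg' => LinearMap.ext fun m => (LinearMap.congr_fun hg' m :)⟩
  obtain ⟨b, rfl⟩ := hπ b
  simp only [algebraMap_smul, map_smul, RingHom.id_apply]

variable {A B₂ B C M : Type u} [CommRing A] [CommRing B₂] [CommRing B] [CommRing C] [Algebra A B₂]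
  [Algebra A B] [Algebra B₂ B] [IsScalarTower A B₂ B] [Algebra B C] [Algebra A C]
  [IsScalarTower A B C] [Algebra B₂ C] [IsScalarTower B₂ B C] [IsScalarTower A B₂ C] [AddCommGroup M]
  [Module C M] [Module B M] [IsScalarTower B C M] [Module B₂ M] [IsScalarTower B₂ C M]
  [IsScalarTower B₂ B M] {q : PrimeSpectrum C}

set_option maxHeartbeats 800000 in
/-- Fibrewise flatness only depends on the fibre of `Spec B → Spec A`. -/
theorem FibFlat.of_surjective (hπ : Surjective (algebraMap B₂ B))
    (hfib : ∀ b ∈ RingHom.ker (algebraMap B₂ B), ∃ a : A, algebraMap A C a ∉ q.asIdeal ∧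
      algebraMap A B₂ a * b ∈ (q.asIdeal.comap (algebraMap A C)).map (algebraMap A B₂))
    (h : FibFlat A B C M q) : FibFlat A B₂ C M q := by
  intro X Y _ _ _ _ i hY hi z hz
  let S : Submonoid B₂ := (q.asIdeal.comap (algebraMap A C)).primeCompl.map (algebraMap A B₂)
  let X' := LocalizedModule S X
  let Y' := LocalizedModule S Y
  let mX := LocalizedModule.mkLinearMap S X
  let mY := LocalizedModule.mkLinearMap S Y
  let i' : X' →ₗ[B₂] Y' := IsLocalizedModule.map S mX mY i
  have hi' : Injective i' := IsLocalizedModule.map_injective S mX mY i hi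
  have hkillY : ∀ a : A, algebraMap A C a ∈ q.asIdeal → ∀ y : Y', algebraMap A B₂ a • y = 0 :=
    fun a ha y => by
      obtain ⟨⟨y₀, s⟩, hy⟩ := IsLocalizedModule.surj S mY y
      apply ((Module.End.isUnit_iff _).1 (IsLocalizedModule.map_units mY s)).1
      show s.1 • algebraMap A B₂ a • y = s.1 • (0 : Y')
      rw [smul_comm, show s.1 • y = mY y₀ from hy, ← map_smul, hY a ha, map_zero, smul_zero]
  have hJY : ∀ b ∈ RingHom.ker (algebraMap B₂ B), ∀ y : Y', b • y = 0 := fun b hb y => by
    obtain ⟨a, ha, hab⟩ := hfib b hb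
    have h0 : (algebraMap A B₂ a * b) • y = 0 := by
      generalize algebraMap A B₂ a * b = w at hab
      induction hab using Submodule.span_induction with
      | mem x hx => obtain ⟨c, hc, rfl⟩ := hx; exact hkillY c hc y
      | zero => exact zero_smul _ _
      | add u v _ _ hu hv => rw [add_smul, hu, hv, add_zero]
      | smul c u _ hu => rw [smul_eq_mul, mul_smul, hu, smul_zero]
    apply ((Module.End.isUnit_iff _).1 (IsLocalizedModule.map_units (S := S) mY
      ⟨algebraMap A B₂ a, a, ha, rfl⟩)).1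
    show algebraMap A B₂ a • b • y = algebraMap A B₂ a • (0 : Y')
    rw [smul_zero, ← mul_smul, h0]
  have hJX : ∀ b ∈ RingHom.ker (algebraMap B₂ B), ∀ x : X', b • x = 0 := fun b hb x =>
    hi' (by rw [map_smul, hJY b hb, map_zero])
  let ψX : B →+* Module.End ℤ X' := (algebraMap B₂ B).liftOfRightInverse _ (rightInverse_surjInv hπ)
    ⟨Module.toModuleEnd ℤ X', fun b hb => LinearMap.ext fun x => hJX b hb x⟩
  let ψY : B →+* Module.End ℤ Y' := (algebraMap B₂ B).liftOfRightInverse _ (rightInverse_surjInv hπ)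
    ⟨Module.toModuleEnd ℤ Y', fun b hb => LinearMap.ext fun x => hJY b hb x⟩
  let _ : Module B X' := Module.compHom X' ψX
  let _ : Module B Y' := Module.compHom Y' ψY
  have : IsScalarTower B₂ B X' := .of_algebraMap_smul fun b x => by
    show ψX (algebraMap B₂ B b) x = b • x
    simp [ψX, RingHom.liftOfRightInverse_comp_apply]
  have : IsScalarTower B₂ B Y' := .of_algebraMap_smul fun b x => by
    show ψY (algebraMap B₂ B b) x = b • x
    simp [ψY, RingHom.liftOfRightInverse_comp_apply]
  let iB : X' →ₗ[B] Y' :=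
    { toFun := i', map_add' := map_add i',
      map_smul' := fun b x => by
        obtain ⟨b, rfl⟩ := hπ b
        simp only [algebraMap_smul, map_smul, RingHom.id_apply] }
  have hμ := isBaseChange_id_of_surjective (B₂ := B₂) (B := B) (M := M) hπ
  let tX := AlgebraTensorModule.lTensor C M mX
  let tY := AlgebraTensorModule.lTensor C M mY
  have hnat : ∀ w, iB.lTensor M (bcTensor hμ X' (tX w)) = bcTensor hμ Y' (tY (i.lTensor M w)) := fun w => by
    induction w using TensorProduct.induction_on with
    | zero => simp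
    | add u v hu hv => simp only [map_add, hu, hv]
    | tmul m x =>
      show iB.lTensor M (bcTensor hμ X' (m ⊗ₜ mX x)) = bcTensor hμ Y' (m ⊗ₜ mY (i x))
      rw [bcTensor_tmul, bcTensor_tmul, LinearMap.lTensor_tmul]
      exact congrArg (m ⊗ₜ[B] ·) (IsLocalizedModule.map_apply S mX mY i x)
  obtain ⟨c, hc, hcz⟩ := h iB (fun a ha y => by
      rw [IsScalarTower.algebraMap_apply A B₂ B, algebraMap_smul]
      exact hkillY a ha y) hi'
    (bcTensor hμ X' (tX z)) (by rw [hnat, hz, map_zero, map_zero])
  have hcz' : tX (c • z) = 0 := by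
    apply (bcTensor hμ X').injective
    rw [map_smul, map_zero, bcTensor_smul (C' := C) hμ (fun c m => rfl), Algebra.algebraMap_self_apply,
      hcz]
  have hloc : IsLocalizedModule S (AlgebraTensorModule.lTensor B₂ M mX) := by
    let e₁ := TensorProduct.comm B₂ X M
    let e₂ := TensorProduct.comm B₂ X' M
    have h1 : IsLocalizedModule S (AlgebraTensorModule.rTensor B₂ M mX) :=
      IsLocalizedModule.rTensor (S := S) (R := B₂) (A := B₂) mX
    have h2 : AlgebraTensorModule.lTensor B₂ M mX =
        e₂.toLinearMap ∘ₗ AlgebraTensorModule.rTensor B₂ M mX ∘ₗ e₁.symm.toLinearMap :=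
      TensorProduct.ext' fun m x => rfl
    rw [h2]
    have := IsLocalizedModule.of_linearEquiv_right S (AlgebraTensorModule.rTensor B₂ M mX) e₁.symm
    exact IsLocalizedModule.of_linearEquiv S _ e₂
  obtain ⟨⟨_, a, ha, rfl⟩, hs⟩ := (IsLocalizedModule.eq_zero_iff S
    (AlgebraTensorModule.lTensor B₂ M mX)).1 hcz'
  refine ⟨algebraMap A C a * c, fun hm => (q.isPrime.mem_or_mem hm).elim ha hc, ?_⟩
  rw [mul_smul, IsScalarTower.algebraMap_apply A B₂ C, algebraMap_smul]
  exact hs

omit [Algebra A B] [Algebra A C] [IsScalarTower A B₂ B] [IsScalarTower A B C] [IsScalarTower A B₂ C] in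
theorem flat_of_flat_surjective (hπ : Surjective (algebraMap B₂ B))
    (h : Module.Flat B₂ (LocalizedModule q.asIdeal.primeCompl M)) :
    Module.Flat B (LocalizedModule q.asIdeal.primeCompl M) :=
  flat_localized_of_baseChange (C' := C) (isBaseChange_id_of_surjective hπ) (fun _ _ => rfl) q h

end Groth.Agent.EGA43.Cons

namespace Groth.Agent.EGA43.Cons

set_option maxHeartbeats 800000 in
/-- **Criterion of flatness by fibres** (EGA IV 11.3.10), `B` of finite type over `A`. -/
theorem flat_of_fibFlat_of_finiteType {A B C M : Type u} [CommRing A] [CommRing B]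
    [CommRing C] [Algebra A B] [Algebra B C] [Algebra A C] [IsScalarTower A B C]
    [Algebra.FiniteType A B] [Algebra.FinitePresentation A C] [AddCommGroup M] [Module C M]
    [Module B M] [IsScalarTower B C M] [Module A M] [IsScalarTower A C M]
    [Module.FinitePresentation C M] (q : PrimeSpectrum C)
    (hA : Module.Flat A (LocalizedModule q.asIdeal.primeCompl M)) (h : FibFlat A B C M q) :
    Module.Flat B (LocalizedModule q.asIdeal.primeCompl M) := by
  obtain ⟨n, π, hπ⟩ := Algebra.FiniteType.iff_quotient_mvPolynomial''.1 ‹Algebra.FiniteType A B›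
  obtain ⟨I, hIfg, hIJ, hI⟩ := exists_fg_stage (q.asIdeal.comap (algebraMap A C)) (RingHom.ker π)
  let B₂ := MvPolynomial (Fin n) A ⧸ I
  have : Algebra.FinitePresentation A B₂ := Algebra.FinitePresentation.quotient hIfg
  let π₂ : B₂ →ₐ[A] B := Ideal.Quotient.liftₐ I π fun x hx => hIJ hx
  let _ : Algebra B₂ B := π₂.toRingHom.toAlgebra
  let _ : Algebra B₂ C := ((algebraMap B C).comp π₂.toRingHom).toAlgebra
  have : IsScalarTower A B₂ B := .of_algebraMap_eq fun a => (π₂.commutes a).symm
  have : IsScalarTower B₂ B C := .of_algebraMap_eq' rfl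
  have : IsScalarTower A B₂ C := IsScalarTower.of_algebraMap_eq (R := A) (S := B₂) (A := C) fun a => by
    show algebraMap A C a = algebraMap B C (π₂ (algebraMap A B₂ a))
    rw [π₂.commutes, ← IsScalarTower.algebraMap_apply]
  have : Algebra.FinitePresentation B₂ C :=
    Algebra.FinitePresentation.of_restrict_scalars_finitePresentation A B₂ C
  let _ := Module.compHom M (algebraMap B₂ C)
  have : IsScalarTower B₂ C M := .of_algebraMap_smul fun _ _ => rfl
  have : IsScalarTower B₂ B M := .of_algebraMap_smul fun b m => by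
    show π₂ b • m = algebraMap B C (π₂ b) • m
    rw [algebraMap_smul]
  have hπ₂ : Surjective (algebraMap B₂ B) := fun b => by
    obtain ⟨x, rfl⟩ := hπ b
    exact ⟨Ideal.Quotient.mk I x, rfl⟩
  refine flat_of_flat_surjective hπ₂
    (flat_of_fibFlat_of_finitePresentation q hA (FibFlat.of_surjective hπ₂ (fun b hb => ?_) h))
  obtain ⟨b, rfl⟩ := Ideal.Quotient.mk_surjective b
  obtain ⟨a, ha, hab⟩ := hI b hb
  refine ⟨a, ha, ?_⟩
  have h' := Ideal.mem_map_of_mem (Ideal.Quotient.mk I) hab
  rw [Ideal.map_sup, Ideal.map_quotient_self, bot_sup_eq, Ideal.map_map, map_mul] at h'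
  exact h'

end Groth.Agent.EGA43.Cons
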