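import Groth.Agent.EGA43.Cons.FibreProper

/-!
# EGA IV 9.6.1 (x): the set of `s` over which a morphism is an immersion is constructible
-/

set_option autoImplicit false
set_option backward.isDefEq.respectTransparency false

universe u

open CategoryTheory CategoryTheory.Limits AlgebraicGeometry Topology TopologicalSpace

namespace Groth.Agent.EGA43.Cons.FibreImmersion

open Groth.Agent Groth.Agent.EGA43.Cons.FibreProper

/-- `f` is an immersion over `s`. -/
def IM {X Y S : Scheme.{u}} (f : X ⟶ Y) (g : Y ⟶ S) (s : S) : Prop :=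
  IsImmersion (pullback.snd f (pullback.fst g (S.fromSpecResidueField s)))

/-- An immersion is a closed immersion into any open in which its image is closed. -/
theorem isImmersion_iff_restrict {X Y : Scheme.{u}} (f : X ⟶ Y) (U : Y.Opens)
    (hsub : Set.range f ⊆ U) (hcl : closure (Set.range f) ∩ U ⊆ Set.range f) :
    IsImmersion f ↔ IsClosedImmersion (f ∣_ U) := by
  have htop : f ⁻¹ᵁ U = ⊤ := top_le_iff.1 fun x _ => hsub ⟨x, rfl⟩
  constructor
  · intro h
    haveI : IsImmersion (f ∣_ U) := MorphismProperty.of_isPullback (isPullback_morphismRestrict f U).flip h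
    refine IsClosedImmersion.of_isPreimmersion _ ?_
    have hr : Set.range (f ∣_ U) = U.ι ⁻¹' Set.range f := by
      apply Set.Subset.antisymm
      · rintro _ ⟨x, rfl⟩
        exact ⟨(f ⁻¹ᵁ U).ι x, by rw [← Scheme.Hom.comp_apply, ← morphismRestrict_ι]; rfl⟩
      · rintro z ⟨x, hx⟩
        have hxU : x ∈ f ⁻¹ᵁ U := htop ▸ trivial
        refine ⟨⟨x, hxU⟩, U.ι.isOpenEmbedding.injective ?_⟩
        rw [← Scheme.Hom.comp_apply, morphismRestrict_ι]
        exact hx
    have hr' : Set.range (f ∣_ U) = U.ι ⁻¹' closure (Set.range f) := by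
      rw [hr]
      refine Set.Subset.antisymm (Set.preimage_mono subset_closure) fun z hz => hcl ⟨hz, z.2⟩
    rw [hr']
    exact isClosed_closure.preimage U.ι.continuous
  · intro h
    haveI := h
    haveI : IsIso (f ⁻¹ᵁ U).ι := by
      rw [htop]
      exact (inferInstance : IsIso X.topIso.hom)
    have : f = inv (f ⁻¹ᵁ U).ι ≫ (f ∣_ U) ≫ U.ι := by
      rw [morphismRestrict_ι, IsIso.inv_hom_id_assoc]
    rw [this]
    infer_instance

/-- Immersions descend along open fpqc maps. -/
theorem isImmersion_of_isPullback {X' X Y' Y : Scheme.{u}} {Θ : X' ⟶ X} {f' : X' ⟶ Y'} {f : X ⟶ Y}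
    {θ : Y' ⟶ Y} (h : IsPullback Θ f' f θ) (hθ : Et18.FPQC θ) [UniversallyOpen θ]
    (hf' : IsImmersion f') : IsImmersion f := by
  obtain ⟨⟨hsurj, hflat⟩, hqc⟩ := hθ
  haveI := hsurj
  haveI := hflat
  haveI := hqc
  haveI := hf'
  have hR : Set.range f' = θ ⁻¹' Set.range f := by
    apply Set.Subset.antisymm
    · rintro _ ⟨x, rfl⟩
      exact ⟨Θ x, by rw [← Scheme.Hom.comp_apply, h.w]; rfl⟩
    · rintro z ⟨x, hx⟩
      obtain ⟨w, -, hw⟩ := Scheme.exists_preimage_of_isPullback h x z hx
      exact ⟨w, hw⟩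
  let E : Set Y := closure (Set.range f) \ Set.range f
  have hE : IsClosed E := by
    rw [← (Flat.isQuotientMap_of_surjective θ).isClosed_preimage, Set.preimage_sdiff,
      θ.isOpenMap.preimage_closure_eq_closure_preimage θ.continuous, ← hR]
    have h1 := f'.isLocallyClosed_range.isOpen_coborder
    rw [show coborder (Set.range f') = (closure (Set.range f') \ Set.range f')ᶜ from rfl,
      isOpen_compl_iff] at h1
    exact h1
  let U : Y.Opens := ⟨Eᶜ, hE.isOpen_compl⟩
  have hsub : Set.range f ⊆ U := fun y hy hyE => hyE.2 hy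
  have hcl : closure (Set.range f) ∩ U ⊆ Set.range f := by
    rintro y ⟨hy, hyU⟩
    by_contra hn
    exact hyU ⟨hy, hn⟩
  rw [isImmersion_iff_restrict f U hsub hcl]
  have h' : IsClosedImmersion (f' ∣_ θ ⁻¹ᵁ U) := by
    refine (isImmersion_iff_restrict f' (θ ⁻¹ᵁ U) ?_ ?_).1 hf'
    · rw [hR]
      exact Set.preimage_mono hsub
    · rw [hR, ← θ.isOpenMap.preimage_closure_eq_closure_preimage θ.continuous]
      exact Set.preimage_mono hcl
  have h2 : IsPullback ((f' ⁻¹ᵁ (θ ⁻¹ᵁ U)).ι ≫ Θ) (f' ∣_ θ ⁻¹ᵁ U) f ((θ ∣_ U) ≫ U.ι) := by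
    rw [morphismRestrict_ι]
    exact (isPullback_morphismRestrict f' (θ ⁻¹ᵁ U)).flip.paste_horiz h
  let Θ' : (f' ⁻¹ᵁ (θ ⁻¹ᵁ U) : Scheme.{u}) ⟶ (f ⁻¹ᵁ U : Scheme.{u}) :=
    (isPullback_morphismRestrict f U).flip.lift ((f' ⁻¹ᵁ (θ ⁻¹ᵁ U)).ι ≫ Θ) ((f' ∣_ θ ⁻¹ᵁ U) ≫ (θ ∣_ U))
      (by rw [h2.w]; simp)
  have h3 : IsPullback Θ' (f' ∣_ θ ⁻¹ᵁ U) (f ∣_ U) (θ ∣_ U) :=
    IsPullback.of_right (by rw [IsPullback.lift_fst]; exact h2) (IsPullback.lift_snd _ _ _ _)
      (isPullback_morphismRestrict f U).flip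
  have hθU : Et18.FPQC (θ ∣_ U) :=
    MorphismProperty.of_isPullback (isPullback_morphismRestrict θ U).flip ⟨⟨hsurj, hflat⟩, hqc⟩
  have := Et18.descends_isClosedImmersion.{u}
  exact MorphismProperty.of_isPullback_of_descendsAlong h3.flip hθU h'

/-- The fibre of a restriction is the restriction of the fibre. -/
theorem fibre_restrict_iff {P : MorphismProperty Scheme.{u}} [P.RespectsIso] {X Y S : Scheme.{u}}
    (f : X ⟶ Y) (g : Y ⟶ S) (U : Y.Opens) (s : S) :
    P (pullback.snd f (pullback.fst g (S.fromSpecResidueField s)) ∣_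
        pullback.fst g (S.fromSpecResidueField s) ⁻¹ᵁ U) ↔
      P (pullback.snd (f ∣_ U) (pullback.fst (U.ι ≫ g) (S.fromSpecResidueField s))) := by
  let σ := S.fromSpecResidueField s
  let W := pullback.fst g σ ⁻¹ᵁ U
  let e : IsPullback (W.ι ≫ pullback.snd g σ) (pullback.fst g σ ∣_ U) σ (U.ι ≫ g) :=
    (isPullback_morphismRestrict (pullback.fst g σ) U).flip.paste_horiz
      (IsPullback.of_hasPullback g σ).flip
  let eI := e.flip.isoPullback
  have h1 : IsPullback (pullback.fst (f ∣_ U) (pullback.fst (U.ι ≫ g) σ) ≫ (f ⁻¹ᵁ U).ι)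
      (pullback.snd (f ∣_ U) (pullback.fst (U.ι ≫ g) σ)) f (pullback.fst (U.ι ≫ g) σ ≫ U.ι) :=
    (IsPullback.of_hasPullback (f ∣_ U) (pullback.fst (U.ι ≫ g) σ)).paste_horiz
      (isPullback_morphismRestrict f U).flip
  have h2 : IsPullback ((pullback.snd f (pullback.fst g σ) ⁻¹ᵁ W).ι ≫ pullback.fst f (pullback.fst g σ))
      (pullback.snd f (pullback.fst g σ) ∣_ W) f (W.ι ≫ pullback.fst g σ) :=
    (isPullback_morphismRestrict _ W).flip.paste_horiz (IsPullback.of_hasPullback f _)
  have hw : eI.hom ≫ pullback.fst (U.ι ≫ g) σ ≫ U.ι = W.ι ≫ pullback.fst g σ := by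
    rw [IsPullback.isoPullback_hom_fst_assoc, morphismRestrict_ι]
  have h3 : IsPullback (pullback.fst (f ∣_ U) (pullback.fst (U.ι ≫ g) σ) ≫ (f ⁻¹ᵁ U).ι)
      (pullback.snd (f ∣_ U) (pullback.fst (U.ι ≫ g) σ) ≫ eI.inv) f (W.ι ≫ pullback.fst g σ) :=
    h1.of_iso (Iso.refl _) (Iso.refl _) eI.symm (Iso.refl _) (by simp) (by simp) (by simp)
      (by simp only [Iso.refl_hom, Category.comp_id, Iso.symm_hom]; rw [← hw, Iso.inv_hom_id_assoc])
  let e2 := h2.isoIsPullback _ _ h3
  show P (pullback.snd f (pullback.fst g σ) ∣_ W) ↔ P (pullback.snd (f ∣_ U) (pullback.fst (U.ι ≫ g) σ))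
  rw [← MorphismProperty.cancel_right_of_respectsIso P
    (pullback.snd (f ∣_ U) (pullback.fst (U.ι ≫ g) σ)) eI.inv,
    ← MorphismProperty.cancel_left_of_respectsIso P e2.hom
      (pullback.snd (f ∣_ U) (pullback.fst (U.ι ≫ g) σ) ≫ eI.inv),
    IsPullback.isoIsPullback_hom_snd]

section BaseChange

variable {X₀ Y₀ S₀ X Y S : Scheme.{u}} {f₀ : X₀ ⟶ Y₀} {g₀ : Y₀ ⟶ S₀} {f : X ⟶ Y} {g : Y ⟶ S}
  {r : S ⟶ S₀} {qY : Y ⟶ Y₀} {qX : X ⟶ X₀}

/-- Being an immersion on fibres is insensitive to base change. -/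
theorem iM_baseChange (hY : IsPullback qY g g₀ r) (hX : IsPullback qX f f₀ qY) (s : S) :
    IM f g s ↔ IM f₀ g₀ (r s) := by
  let σ := S.fromSpecResidueField s
  let σ₀ := S₀.fromSpecResidueField (r s)
  let k := Spec.map (r.residueFieldMap s)
  have hk : k ≫ σ₀ = σ ≫ r := r.SpecMap_residueFieldMap_fromSpecResidueField s
  have h₂ : IsPullback (pullback.fst g σ ≫ qY) (pullback.snd g σ) g₀ (k ≫ σ₀) := by
    rw [hk]
    exact (IsPullback.of_hasPullback g σ).paste_horiz hY
  let θ : pullback g σ ⟶ pullback g₀ σ₀ :=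
    pullback.lift (pullback.fst g σ ≫ qY) (pullback.snd g σ ≫ k) (by rw [Category.assoc]; exact h₂.w)
  have hθ : IsPullback θ (pullback.snd g σ) (pullback.snd g₀ σ₀) k := by
    refine IsPullback.of_right ?_ (pullback.lift_snd _ _ _) (IsPullback.of_hasPullback g₀ σ₀)
    rw [pullback.lift_fst]
    exact h₂
  have hk' : Et18.FPQC k := by
    let _ := (r.residueFieldMap s).hom.toAlgebra
    refine ⟨⟨⟨fun z => ⟨default, Subsingleton.elim _ _⟩⟩, ?_⟩, inferInstance⟩
    exact Flat.SpecMap_iff.2 (RingHom.flat_algebraMap_iff.2 inferInstance)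
  have hθ' : Et18.FPQC θ := MorphismProperty.of_isPullback hθ.flip hk'
  let f₀' := pullback.snd f₀ (pullback.fst g₀ σ₀)
  have h₅ : IsPullback (pullback.fst f (pullback.fst g σ) ≫ qX) (pullback.snd f (pullback.fst g σ)) f₀
      (θ ≫ pullback.fst g₀ σ₀) := by
    rw [pullback.lift_fst]
    exact (IsPullback.of_hasPullback f _).paste_horiz hX
  let Θ : pullback f (pullback.fst g σ) ⟶ pullback f₀ (pullback.fst g₀ σ₀) :=
    pullback.lift (pullback.fst f (pullback.fst g σ) ≫ qX) (pullback.snd f (pullback.fst g σ) ≫ θ)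
      (by rw [Category.assoc, Category.assoc, h₅.w.symm, Category.assoc])
  have h₆ : IsPullback Θ (pullback.snd f (pullback.fst g σ)) f₀' θ := by
    refine IsPullback.of_right ?_ (pullback.lift_snd _ _ _) (IsPullback.of_hasPullback f₀ _)
    rw [pullback.lift_fst]
    exact h₅
  haveI : UniversallyOpen θ := MorphismProperty.of_isPullback hθ.flip (inferInstance : UniversallyOpen k)
  exact ⟨fun h => isImmersion_of_isPullback h₆ hθ' h,
    fun h => MorphismProperty.of_isPullback h₆ h⟩

end BaseChange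

section Noetherian

/-- Generic constructibility over a Noetherian domain. -/
theorem exists_generic {A : Type u} [CommRing A] [IsDomain A] [IsNoetherianRing A] {X Y : Scheme.{u}}
    (f : X ⟶ Y) (g : Y ⟶ Spec (CommRingCat.of A)) [LocallyOfFiniteType f] [QuasiCompact f]
    [QuasiSeparated f] [LocallyOfFiniteType g] [QuasiCompact g] :
    ∃ a : A, a ≠ 0 ∧ IsConstructible
      ({s : PrimeSpectrum A | IM f g s} ∩ (PrimeSpectrum.basicOpen a : Set (PrimeSpectrum A))) := by
  have : IsLocallyNoetherian Y := LocallyOfFiniteType.isLocallyNoetherian g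
  have : IsLocallyNoetherian X := LocallyOfFiniteType.isLocallyNoetherian f
  have : CompactSpace Y := QuasiCompact.compactSpace_of_compactSpace g
  have : AlgebraicGeometry.IsNoetherian Y := {}
  have : LocallyOfFinitePresentation f :=
    Coherent.CohBC.locallyOfFinitePresentation_of_isLocallyNoetherian f
  have : LocallyOfFinitePresentation g :=
    Coherent.CohBC.locallyOfFinitePresentation_of_isLocallyNoetherian g
  have hR : IsLocallyConstructible (Set.range f) := by
    rw [← Set.image_univ]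
    exact f.isLocallyConstructible_image IsLocallyConstructible.univ
  let E : Set Y := fibreClosureSch g (Set.range f) ∩ (Set.range f)ᶜ
  have hE : IsLocallyConstructible E :=
    (isLocallyConstructible_fibreClosureSch g hR).inter (isLocallyConstructible_compl hR)
  let η : Spec (CommRingCat.of A) := (⊥ : PrimeSpectrum A)
  have hL := isLocallyConstructible_setOf_isClosed g hE
  have hIM : ∀ s : Spec (CommRingCat.of A), IM f g s → IsClosed (Subtype.val ⁻¹' E : Set ↥(g ⁻¹' {s})) := by
    intro s hs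
    haveI : IsImmersion (pullback.snd f (pullback.fst g ((Spec (CommRingCat.of A)).fromSpecResidueField s))) := hs
    refine (isLocallyClosed_fibre_iff g hR s).1 ?_
    let ι := pullback.fst g ((Spec (CommRingCat.of A)).fromSpecResidueField s)
    have hι : IsEmbedding ι := (g.fiberι s).isEmbedding
    let e := hι.toHomeomorph.trans (Homeomorph.setCongr (g.range_fiberι s))
    have h1 := (pullback.snd f ι).isLocallyClosed_range
    rw [Scheme.Pullback.range_snd] at h1
    have h2 := h1.preimage e.symm.continuous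
    convert h2 using 1
    ext z
    show z.1 ∈ Set.range f ↔ ι (e.symm z) ∈ Set.range f
    rw [show ι (e.symm z) = (e (e.symm z)).1 from rfl, e.apply_symm_apply]
  by_cases hη : IsClosed (Subtype.val ⁻¹' E : Set ↥(g ⁻¹' {η}))
  swap
  · obtain ⟨a, ha, hC⟩ := exists_basicOpen_disjoint hL hη
    refine ⟨a, ha, ?_⟩
    convert IsConstructible.empty using 1
    exact Set.eq_empty_of_forall_notMem fun s hs => hs.2 (hC s (hIM s hs.1))
  let Z : Set Y := closure (E ∩ g ⁻¹' {η})
  have hZ : IsLocallyConstructible Z := by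
    have hretro : IsRetrocompact Zᶜ := fun _ _ _ => TopologicalSpace.NoetherianSpace.isCompact _
    have h : IsConstructible Zᶜ := hretro.isConstructible isClosed_closure.isOpen_compl
    simpa using h.compl.isLocallyConstructible
  let D : Set Y := (Z ∩ Eᶜ) ∪ (E ∩ Zᶜ)
  have hC : IsLocallyConstructible (g '' D) := g.isLocallyConstructible_image
    ((hZ.inter (isLocallyConstructible_compl hE)).union (hE.inter (isLocallyConstructible_compl hZ)))
  have hηC : η ∉ g '' D := by
    rintro ⟨z, hz, hzη⟩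
    rcases hz with ⟨hzZ, hzE⟩ | ⟨hzE, hzZ⟩
    · refine hzE ((isClosed_fibre_iff g E η).1 hη ⟨⟨trivial, hzη⟩, hzZ⟩)
    · exact hzZ (subset_closure ⟨hzE, hzη⟩)
  obtain ⟨a, ha, haC⟩ := exists_basicOpen_disjoint hC hηC
  let U : Y.Opens := ⟨Zᶜ, isClosed_closure.isOpen_compl⟩
  let fU := f ∣_ U
  let gU := U.ι ≫ g
  haveI : LocallyOfFiniteType fU := MorphismProperty.of_isPullback (isPullback_morphismRestrict f U).flip ‹_›
  haveI : QuasiCompact fU := MorphismProperty.of_isPullback (isPullback_morphismRestrict f U).flip ‹_›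
  haveI : QuasiSeparated fU := MorphismProperty.of_isPullback (isPullback_morphismRestrict f U).flip ‹_›
  haveI : IsLocallyNoetherian (U : Scheme.{u}) := isLocallyNoetherian_of_isOpenImmersion U.ι
  haveI : CompactSpace (U : Scheme.{u}) :=
    isCompact_iff_compactSpace.1 (TopologicalSpace.NoetherianSpace.isCompact _)
  haveI : LocallyOfFinitePresentation fU :=
    MorphismProperty.of_isPullback (isPullback_morphismRestrict f U).flip ‹_›
  haveI : LocallyOfFinitePresentation gU :=
    Coherent.CohBC.locallyOfFinitePresentation_of_isLocallyNoetherian gU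
  haveI : QuasiCompact gU := HasAffineProperty.iff_of_isAffine.2 ‹_›
  have key : ∀ s : Spec (CommRingCat.of A), a ∉ (s : PrimeSpectrum A).asIdeal → (IM f g s ↔
      IsClosedImmersion (pullback.snd fU (pullback.fst gU ((Spec (CommRingCat.of A)).fromSpecResidueField s)))) := by
    intro s hsa
    let ι := pullback.fst g ((Spec (CommRingCat.of A)).fromSpecResidueField s)
    have hι : IsEmbedding ι := (g.fiberι s).isEmbedding
    have hιs : ∀ z, g (ι z) = s := fun z => (g.range_fiberι s).le ⟨z, rfl⟩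
    have hD : ∀ z, ι z ∈ Z ↔ ι z ∈ E := by
      intro z
      have hz : ι z ∉ D := fun h => hsa (haC s ⟨ι z, h, hιs z⟩)
      simp only [D, Set.mem_union, Set.mem_inter_iff, Set.mem_compl_iff] at hz
      tauto
    rw [← fibre_restrict_iff (P := @IsClosedImmersion.{u}) f g U s]
    refine isImmersion_iff_restrict (pullback.snd f ι) (ι ⁻¹ᵁ U) ?_ ?_
    · rw [Scheme.Pullback.range_snd]
      intro z hz hzZ
      exact ((hD z).1 hzZ).2 hz
    · rw [Scheme.Pullback.range_snd]
      rintro z ⟨hz, hzU⟩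
      by_contra hn
      refine hzU ((hD z).2 ⟨?_, hn⟩)
      rw [hι.closure_eq_preimage_closure_image, Set.image_preimage_eq_inter_range,
        show Set.range ι = g ⁻¹' {s} from g.range_fiberι s] at hz
      exact ((closure_inter_fibre_inter_eq g hR s).le ⟨hz, hιs z⟩).1
  refine ⟨a, ha, ?_⟩
  have h1 := isLocallyConstructible_setOf_isClosedImmersion fU gU
  have h1' : IsConstructible (X := PrimeSpectrum A) {s : PrimeSpectrum A | IsClosedImmersion
      (pullback.snd fU (pullback.fst gU ((Spec (CommRingCat.of A)).fromSpecResidueField s)))} :=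
    h1.isConstructible
  have h2 : IsConstructible (PrimeSpectrum.basicOpen a : Set (PrimeSpectrum A)) := by
    have hr : IsRetrocompact (PrimeSpectrum.basicOpen a : Set (PrimeSpectrum A)) :=
      fun _ _ _ => TopologicalSpace.NoetherianSpace.isCompact _
    exact hr.isConstructible (PrimeSpectrum.basicOpen a).isOpen
  have h3 : ({s : PrimeSpectrum A | IM f g s} ∩ (PrimeSpectrum.basicOpen a : Set (PrimeSpectrum A))) =
      {s : PrimeSpectrum A | IsClosedImmersion
        (pullback.snd fU (pullback.fst gU ((Spec (CommRingCat.of A)).fromSpecResidueField s)))} ∩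
        (PrimeSpectrum.basicOpen a : Set (PrimeSpectrum A)) :=
    Set.ext fun s => and_congr_left fun hsa => key s hsa
  rw [h3]
  exact h1'.inter h2

/-- Over a Noetherian affine base. -/
theorem isConstructible_noetherian {A : Type u} [CommRing A] [IsNoetherianRing A] {X Y : Scheme.{u}}
    (f : X ⟶ Y) (g : Y ⟶ Spec (CommRingCat.of A)) [LocallyOfFiniteType f] [QuasiCompact f]
    [QuasiSeparated f] [LocallyOfFiniteType g] [QuasiCompact g] :
    IsConstructible {s : PrimeSpectrum A | IM f g s} := by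
  refine isConstructible_of_fibrewise (A := A) (B := A) _ fun p => ?_
  let π := Ideal.Quotient.mk p.asIdeal
  let r : Spec (CommRingCat.of (A ⧸ p.asIdeal)) ⟶ Spec (CommRingCat.of A) := Spec.map (CommRingCat.ofHom π)
  let g₁ := pullback.snd g r
  let f₁ := pullback.snd f (pullback.fst g r)
  haveI : LocallyOfFiniteType g₁ := MorphismProperty.pullback_snd _ _ ‹_›
  haveI : QuasiCompact g₁ := MorphismProperty.pullback_snd _ _ ‹_›
  haveI : LocallyOfFiniteType f₁ := MorphismProperty.pullback_snd _ _ ‹_›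
  haveI : QuasiCompact f₁ := MorphismProperty.pullback_snd _ _ ‹_›
  haveI : QuasiSeparated f₁ := MorphismProperty.pullback_snd _ _ ‹_›
  obtain ⟨a, ha, hC⟩ := exists_generic f₁ g₁
  obtain ⟨a, rfl⟩ := Ideal.Quotient.mk_surjective a
  refine ⟨a, fun h => ha (Ideal.Quotient.eq_zero_iff_mem.2 h), ?_⟩
  have key := iM_baseChange (IsPullback.of_hasPullback g r) (IsPullback.of_hasPullback f (pullback.fst g r))
  have heq : {s : PrimeSpectrum A | IM f g s} ∩ PrimeSpectrum.comap (algebraMap A A) ⁻¹'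
      (closure {p} ∩ (PrimeSpectrum.basicOpen a : Set (PrimeSpectrum A))) =
      PrimeSpectrum.comap π '' ({s | IM f₁ g₁ s} ∩
        (PrimeSpectrum.basicOpen (π a) : Set (PrimeSpectrum (A ⧸ p.asIdeal)))) := by
    have hid : ∀ s : PrimeSpectrum A, PrimeSpectrum.comap (algebraMap A A) s = s := fun s =>
      PrimeSpectrum.ext (Ideal.comap_id _)
    ext s
    constructor
    · rintro ⟨hs, hsp⟩
      rw [Set.mem_preimage, hid] at hsp
      obtain ⟨hsp, hsa⟩ := hsp
      have : s ∈ Set.range (PrimeSpectrum.comap π) := by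
        rw [range_comap_of_surjective _ π Ideal.Quotient.mk_surjective, Ideal.mk_ker]
        rwa [← PrimeSpectrum.zeroLocus_vanishingIdeal_eq_closure, PrimeSpectrum.vanishingIdeal_singleton] at hsp
      obtain ⟨t, rfl⟩ := this
      exact ⟨t, ⟨(key t).2 hs, hsa⟩, rfl⟩
    · rintro ⟨t, ⟨ht, hta⟩, rfl⟩
      refine ⟨(key t).1 ht, ?_⟩
      rw [Set.mem_preimage, hid]
      refine ⟨?_, hta⟩
      rw [← specializes_iff_mem_closure, ← PrimeSpectrum.le_iff_specializes]
      intro x hx
      show π x ∈ t.asIdeal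
      rw [Ideal.Quotient.eq_zero_iff_mem.2 hx]
      exact zero_mem _
  rw [heq]
  exact hC.image_of_isClosedEmbedding
    (PrimeSpectrum.isClosedEmbedding_comap_of_surjective _ π Ideal.Quotient.mk_surjective)
    (fun _ _ _ => TopologicalSpace.NoetherianSpace.isCompact _)

end Noetherian

/-- **EGA IV 9.6.1 (x)**, affine base. -/
theorem isConstructible_iM_spec {A : Type u} [CommRing A] {X Y : Scheme.{u}} (f : X ⟶ Y)
    (g : Y ⟶ Spec (CommRingCat.of A)) [LocallyOfFinitePresentation f] [QuasiCompact f] [QuasiSeparated f]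
    [LocallyOfFinitePresentation g] [QuasiCompact g] [QuasiSeparated g] :
    IsConstructible {s : PrimeSpectrum A | IM f g s} := by
  obtain ⟨k, Y₀, g₀, qY, hlfp, hqc, hqs, hY⟩ := H8Lim.exists_stage_spec g
  haveI : CompactSpace Y₀ := QuasiCompact.compactSpace_of_compactSpace g₀
  haveI : QuasiSeparatedSpace Y₀ := quasiSeparatedSpace_of_quasiSeparated g₀
  let D' := H8Lim.stage (H8Lim.fgSpecDiagram A) g₀
  let c' : Cone D' := H8Lim.stageCone g₀ (H8Lim.fgSpecCone A) qY g hY
  have hc' : IsLimit c' := H8Lim.isLimitStageCone g₀ qY g hY (H8Lim.isLimitFgSpecCone A)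
  obtain ⟨j, X₀, f₀, qX, hflfp, hfqc, hfqs, hX⟩ :=
    @H8Lim.exists_stage_scheme _ _ D' c' _ (fun _ ↦ inferInstance) hc'
      (fun j ↦ H8Lim.compactSpace_stage _ g₀ j) (fun j ↦ H8Lim.quasiSeparatedSpace_stage _ g₀ j) X f
      ‹_› ‹_› ‹_›
  have hpb := H8Lim.isPullback_stage (H8Lim.fgSpecDiagram A) g₀ j
  let g₁ := H8Lim.stageSnd (H8Lim.fgSpecDiagram A) g₀ j
  have hY₁ : IsPullback (c'.π.app j) g g₁ ((H8Lim.fgSpecCone A).π.app j.left) := by
    refine IsPullback.of_right ?_ (H8Lim.stageProj_snd g₀ (H8Lim.fgSpecCone A) qY g hY j) hpb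
    rw [show c'.π.app j = H8Lim.stageProj g₀ (H8Lim.fgSpecCone A) qY g hY j from rfl,
      H8Lim.stageProj_fst, (H8Lim.fgSpecCone A).w]
    exact hY
  haveI : LocallyOfFiniteType g₁ := by
    have : LocallyOfFinitePresentation g₁ :=
      MorphismProperty.of_isPullback (P := @LocallyOfFinitePresentation.{u}) hpb hlfp
    infer_instance
  haveI : QuasiCompact g₁ := MorphismProperty.of_isPullback (P := @QuasiCompact.{u}) hpb hqc
  have hC := isConstructible_noetherian (A := H8Lim.fgSub A j.left.unop) f₀ g₁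
  have hkey : {s : PrimeSpectrum A | IM f g s} =
      PrimeSpectrum.comap (H8Lim.fgSub A j.left.unop).val.toRingHom ⁻¹' {s | IM f₀ g₁ s} :=
    Set.ext fun s => iM_baseChange hY₁ hX s
  rw [hkey]
  obtain ⟨T, hT⟩ := PrimeSpectrum.exists_constructibleSetData_iff.2 hC
  rw [← hT, ← PrimeSpectrum.ConstructibleSetData.toSet_map]
  exact PrimeSpectrum.ConstructibleSetData.isConstructible_toSet _

/-- **EGA IV 9.6.1 (x)**. -/
theorem isLocallyConstructible_setOf_isImmersion {X Y S : Scheme.{u}} (f : X ⟶ Y) (g : Y ⟶ S)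
    [LocallyOfFinitePresentation f] [QuasiCompact f] [QuasiSeparated f]
    [LocallyOfFinitePresentation g] [QuasiCompact g] [QuasiSeparated g] :
    IsLocallyConstructible
      {s : S | IsImmersion (pullback.snd f (pullback.fst g (S.fromSpecResidueField s)))} := by
  refine isLocallyConstructible_of_forall_fromSpec fun x => ?_
  obtain ⟨V, hV, hxV, -⟩ := exists_isAffineOpen_mem_and_subset (x := x) (U := ⊤) trivial
  refine ⟨V, hV, hxV, ?_⟩
  let r := hV.fromSpec
  let g₁ := pullback.snd g r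
  let f₁ := pullback.snd f (pullback.fst g r)
  haveI : LocallyOfFinitePresentation g₁ := MorphismProperty.pullback_snd _ _ ‹_›
  haveI : QuasiCompact g₁ := MorphismProperty.pullback_snd _ _ ‹_›
  haveI : QuasiSeparated g₁ := MorphismProperty.pullback_snd _ _ ‹_›
  haveI : LocallyOfFinitePresentation f₁ := MorphismProperty.pullback_snd _ _ ‹_›
  haveI : QuasiCompact f₁ := MorphismProperty.pullback_snd _ _ ‹_›
  haveI : QuasiSeparated f₁ := MorphismProperty.pullback_snd _ _ ‹_›
  have e : hV.fromSpec ⁻¹' {s : S | IsImmersion (pullback.snd f (pullback.fst g (S.fromSpecResidueField s)))} =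
      {s : PrimeSpectrum Γ(S, V) | IM f₁ g₁ s} := Set.ext fun s =>
    (iM_baseChange (IsPullback.of_hasPullback g r) (IsPullback.of_hasPullback f (pullback.fst g r)) s).symm
  rw [e]
  exact isConstructible_iM_spec f₁ g₁

end Groth.Agent.EGA43.Cons.FibreImmersion
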