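import Groth.Agent.EGA43.Cons.FibreClosureScheme
import Groth.Agent.EGA43.Cons.Pointwise
import Groth.Agent.EGA43.Cons.Unramified
import Groth.Agent.Et18.Descent
import Groth.Agent.RelVALib.ChowOpen
import Groth.Agent.RelVALib.PnImm
import Groth.Agent.AmpleLib.Local
import Groth.Agent.Coherent.CohBC.PushStructureIso
import Groth.Agent.H8Lim.NoetherianModel
import Groth.Agent.H8Lim.BaseChange
import Mathlib.AlgebraicGeometry.ZariskisMainTheorem

/-!
# EGA IV 9.6.1 (xi): the set of `s` over which a morphism is proper is constructible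
-/

set_option autoImplicit false
set_option backward.isDefEq.respectTransparency false

universe u

open CategoryTheory CategoryTheory.Limits AlgebraicGeometry Topology TopologicalSpace

namespace Groth.Agent.EGA43.Cons.FibreProper

open Groth.Agent

/-- `f` is proper over `s`. -/
def PF {X Y S : Scheme.{u}} (f : X ⟶ Y) (g : Y ⟶ S) (s : S) : Prop :=
  IsProper (pullback.snd f (pullback.fst g (S.fromSpecResidueField s)))

/-- `f` is separated over `s`. -/
def SF {X Y S : Scheme.{u}} (f : X ⟶ Y) (g : Y ⟶ S) (s : S) : Prop :=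
  IsSeparated (pullback.snd f (pullback.fst g (S.fromSpecResidueField s)))

theorem PF.sF {X Y S : Scheme.{u}} {f : X ⟶ Y} {g : Y ⟶ S} {s : S} (h : PF f g s) : SF f g s :=
  haveI : IsProper (pullback.snd f (pullback.fst g (S.fromSpecResidueField s))) := h
  inferInstanceAs (IsSeparated (pullback.snd f (pullback.fst g (S.fromSpecResidueField s))))

section BaseChange

variable {X₀ Y₀ S₀ X Y S : Scheme.{u}} {f₀ : X₀ ⟶ Y₀} {g₀ : Y₀ ⟶ S₀} {f : X ⟶ Y} {g : Y ⟶ S}
  {r : S ⟶ S₀} {qY : Y ⟶ Y₀} {qX : X ⟶ X₀}

/-- Properness on fibres is insensitive to base change. -/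
theorem pF_baseChange (hY : IsPullback qY g g₀ r) (hX : IsPullback qX f f₀ qY) (s : S) :
    PF f g s ↔ PF f₀ g₀ (r s) := by
  let σ := S.fromSpecResidueField s
  let σ₀ := S₀.fromSpecResidueField (r s)
  let k := Spec.map (r.residueFieldMap s)
  have hk : k ≫ σ₀ = σ ≫ r := r.SpecMap_residueFieldMap_fromSpecResidueField s
  have h₂ : IsPullback (pullback.fst g σ ≫ qY) (pullback.snd g σ) g₀ (k ≫ σ₀) := by
    rw [hk]
    exact (IsPullback.of_hasPullback g σ).paste_horiz hY
  let θ : pullback g σ ⟶ pullback g₀ σ₀ :=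
    pullback.lift (pullback.fst g σ ≫ qY) (pullback.snd g σ ≫ k) (by rw [Category.assoc]; exact h₂.w)
  have hθ : IsPullback θ (pullback.snd g σ) (pullback.snd g₀ σ₀) k := by
    refine IsPullback.of_right ?_ (pullback.lift_snd _ _ _) (IsPullback.of_hasPullback g₀ σ₀)
    rw [pullback.lift_fst]
    exact h₂
  have hk' : Et18.FPQC k := by
    let _ := (r.residueFieldMap s).hom.toAlgebra
    refine ⟨⟨⟨fun z => ⟨default, Subsingleton.elim _ _⟩⟩, ?_⟩, inferInstance⟩
    exact Flat.SpecMap_iff.2 (RingHom.flat_algebraMap_iff.2 inferInstance)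
  have hθ' : Et18.FPQC θ := MorphismProperty.of_isPullback hθ.flip hk'
  let f₀' := pullback.snd f₀ (pullback.fst g₀ σ₀)
  have h₅ : IsPullback (pullback.fst f (pullback.fst g σ) ≫ qX) (pullback.snd f (pullback.fst g σ)) f₀
      (θ ≫ pullback.fst g₀ σ₀) := by
    rw [pullback.lift_fst]
    exact (IsPullback.of_hasPullback f _).paste_horiz hX
  let Θ : pullback f (pullback.fst g σ) ⟶ pullback f₀ (pullback.fst g₀ σ₀) :=
    pullback.lift (pullback.fst f (pullback.fst g σ) ≫ qX) (pullback.snd f (pullback.fst g σ) ≫ θ)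
      (by rw [Category.assoc, Category.assoc, h₅.w.symm, Category.assoc])
  have h₆ : IsPullback Θ (pullback.snd f (pullback.fst g σ)) f₀' θ := by
    refine IsPullback.of_right ?_ (pullback.lift_snd _ _ _) (IsPullback.of_hasPullback f₀ _)
    rw [pullback.lift_fst]
    exact h₅
  have := Et18.descends_isProper.{u}
  exact ⟨fun h => MorphismProperty.of_isPullback_of_descendsAlong h₆.flip hθ' h,
    fun h => MorphismProperty.of_isPullback h₆ h⟩

end BaseChange

theorem isSeparated_of_forall_range {X Y : Scheme.{u}} (f : X ⟶ Y)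
    (h : IsClosed (Set.range (pullback.diagonal f))) : IsSeparated f :=
  ⟨IsClosedImmersion.of_isPreimmersion _ h⟩

/-- In an irreducible Noetherian affine scheme, a constructible set missing the generic point misses
a nonempty basic open. -/
theorem exists_basicOpen_disjoint {A : Type u} [CommRing A] [IsDomain A] [IsNoetherianRing A]
    {C : Set (PrimeSpectrum A)} (hC : IsLocallyConstructible C) (hη : (⊥ : PrimeSpectrum A) ∉ C) :
    ∃ a : A, a ≠ 0 ∧ ∀ p ∈ C, a ∈ p.asIdeal := by
  have hcl : (⊥ : PrimeSpectrum A) ∉ closure C := by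
    intro h
    obtain ⟨y, hy, hsp⟩ := H8ProCons.exists_specializes_of_mem_closure (H8ProCons.isClosed_cons_of_isConstructible hC.isConstructible) h
    have : y = ⊥ := le_bot_iff.1 ((PrimeSpectrum.le_iff_specializes _ _).2 hsp)
    exact hη (this ▸ hy)
  obtain ⟨U, ⟨a, rfl⟩, haU, hUC⟩ := PrimeSpectrum.isTopologicalBasis_basic_opens.exists_subset_of_mem_open
    hcl isClosed_closure.isOpen_compl
  refine ⟨a, fun h => haU (by simp [h]), fun p hp => ?_⟩
  by_contra hap
  exact hUC hap (subset_closure hp)

section Chow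

variable {X Y S : Scheme.{u}} (f : X ⟶ Y) (g : Y ⟶ S)

/-- Over an affine Noetherian middle scheme, for separated `f`. -/
theorem isLocallyConstructible_pF_affine [IsLocallyNoetherian S] [IsAffine Y] [IsSeparated f]
    [LocallyOfFiniteType f] [QuasiCompact f] [LocallyOfFiniteType g] [QuasiCompact g] :
    IsLocallyConstructible {s : S | PF f g s} := by
  haveI : IsLocallyNoetherian Y := LocallyOfFiniteType.isLocallyNoetherian g
  haveI : AlgebraicGeometry.IsNoetherian Y := {}
  obtain ⟨X', π, hπ, hπr, hsurj, -, -, -, -⟩ := RelVALib.exists_chow_dense f (Or.inl inferInstance)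
  haveI := RelVALib.isProper_of_isProjective hπ
  haveI := hsurj
  haveI := hπr.1
  haveI := hπr.2.1
  obtain ⟨n, i, hi, hif⟩ := RelVALib.exists_immersion_pn hπr
    ((AmpleLib.isAmple_structureModule_iff (X := Y)).2 inferInstance)
  haveI := hi
  let P := CohB1.ProjSpaceOver n Y
  let q : P ⟶ Y := CohB1.ProjSpaceOver.toBase n Y
  haveI : IsProper q := RelVALib.isProper_toBase n Y
  haveI : IsLocallyNoetherian P := LocallyOfFiniteType.isLocallyNoetherian q
  haveI : QuasiCompact i := by
    haveI : QuasiCompact (i ≫ q) := by rw [hif]; infer_instance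
    exact QuasiCompact.of_comp i q
  haveI : LocallyOfFinitePresentation i :=
    Coherent.CohBC.locallyOfFinitePresentation_of_isLocallyNoetherian i
  haveI : LocallyOfFinitePresentation (q ≫ g) :=
    Coherent.CohBC.locallyOfFinitePresentation_of_isLocallyNoetherian (q ≫ g)
  have hR : IsLocallyConstructible (Set.range i) := by
    rw [← Set.image_univ]
    exact i.isLocallyConstructible_image IsLocallyConstructible.univ
  convert isLocallyConstructible_setOf_isClosed (q ≫ g) hR using 1
  ext s
  let σ := S.fromSpecResidueField s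
  let ι := pullback.fst g σ
  let Pι := pullback.fst q ι
  let qs := pullback.snd q ι
  let is := pullback.snd i Pι
  have hsq : IsPullback (pullback.fst i Pι) (is ≫ qs) (π ≫ f) ι := by
    rw [← hif]
    exact (IsPullback.of_hasPullback i Pι).paste_vert (IsPullback.of_hasPullback q ι)
  have hr : Set.range Pι = (q ≫ g) ⁻¹' {s} := range_fst_fibre q g s
  have hemb : IsEmbedding Pι := by
    have : IsPreimmersion ι := MorphismProperty.pullback_fst _ _ inferInstance
    have : IsPreimmersion Pι := MorphismProperty.pullback_fst _ _ inferInstance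
    exact Pι.isEmbedding
  haveI : IsImmersion is := MorphismProperty.pullback_snd _ _ ‹_›
  have hclosed : IsClosed (Subtype.val ⁻¹' Set.range i : Set ↥((q ≫ g) ⁻¹' {s})) ↔
      IsClosed (Set.range is) := by
    let e := hemb.toHomeomorph.trans (Homeomorph.setCongr hr)
    rw [← e.isClosed_preimage, Scheme.Pullback.range_snd]
    rfl
  show IsProper (pullback.snd f ι) ↔ _
  rw [Set.mem_ofPred_eq, hclosed]
  let fs := pullback.snd f ι
  let πs := pullback.snd π (pullback.fst f ι)
  have hsq' : IsPullback (pullback.fst π (pullback.fst f ι)) (πs ≫ fs) (π ≫ f) ι :=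
    (IsPullback.of_hasPullback π (pullback.fst f ι)).paste_vert (IsPullback.of_hasPullback f ι)
  haveI : IsProper πs := MorphismProperty.pullback_snd _ _ inferInstance
  haveI : Surjective πs := MorphismProperty.pullback_snd _ _ inferInstance
  haveI : IsProper qs := MorphismProperty.pullback_snd _ _ inferInstance
  have key : IsProper (is ≫ qs) ↔ IsProper (πs ≫ fs) := by
    let e := hsq.isoIsPullback _ _ hsq'
    rw [← MorphismProperty.cancel_left_of_respectsIso @IsProper e.hom (πs ≫ fs),
      IsPullback.isoIsPullback_hom_snd]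
  constructor
  · intro h
    have : IsProper fs := h
    have : IsProper (is ≫ qs) := key.2 inferInstance
    have : IsProper is := IsProper.of_comp is qs
    exact is.isClosedMap.isClosed_range
  · intro h
    have : IsClosedImmersion is := IsClosedImmersion.of_isPreimmersion is h
    have : IsProper (πs ≫ fs) := key.1 inferInstance
    haveI : IsSeparated fs := MorphismProperty.pullback_snd _ _ ‹_›
    haveI : LocallyOfFiniteType fs := MorphismProperty.pullback_snd _ _ ‹_›
    haveI : UniversallyClosed fs := UniversallyClosed.of_comp_surjective πs fs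
    exact {}

/-- `f` is proper over `s` iff its restrictions over the members of a cover are. -/
theorem pF_iff_forall_restrict {ι : Type u} (W : ι → Y.Opens) (hW : ⨆ j, W j = ⊤) (s : S) :
    PF f g s ↔ ∀ j, PF (f ∣_ W j) ((W j).ι ≫ g) s := by
  let σ := S.fromSpecResidueField s
  let W' : ι → (pullback g σ).Opens := fun j => pullback.fst g σ ⁻¹ᵁ W j
  have hW' : ⨆ j, W' j = ⊤ := by
    rw [← Scheme.Hom.preimage_iSup, hW, Scheme.Hom.preimage_top]
  rw [show PF f g s ↔ ∀ j, IsProper (pullback.snd f (pullback.fst g σ) ∣_ W' j) from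
    IsZariskiLocalAtTarget.iff_of_iSup_eq_top W' hW']
  refine forall_congr' fun j => ?_
  let e : IsPullback ((W' j).ι ≫ pullback.snd g σ) (pullback.fst g σ ∣_ W j) σ ((W j).ι ≫ g) :=
    (isPullback_morphismRestrict (pullback.fst g σ) (W j)).flip.paste_horiz
      (IsPullback.of_hasPullback g σ).flip
  let eI := e.flip.isoPullback
  have h1 : IsPullback (pullback.fst (f ∣_ W j) (pullback.fst ((W j).ι ≫ g) σ) ≫ (f ⁻¹ᵁ W j).ι)
      (pullback.snd (f ∣_ W j) (pullback.fst ((W j).ι ≫ g) σ)) f
      (pullback.fst ((W j).ι ≫ g) σ ≫ (W j).ι) :=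
    (IsPullback.of_hasPullback (f ∣_ W j) (pullback.fst ((W j).ι ≫ g) σ)).paste_horiz
      (isPullback_morphismRestrict f (W j)).flip
  have h2 : IsPullback ((pullback.snd f (pullback.fst g σ) ⁻¹ᵁ W' j).ι ≫ pullback.fst f (pullback.fst g σ))
      (pullback.snd f (pullback.fst g σ) ∣_ W' j) f ((W' j).ι ≫ pullback.fst g σ) :=
    (isPullback_morphismRestrict _ (W' j)).flip.paste_horiz (IsPullback.of_hasPullback f _)
  have hw : eI.hom ≫ pullback.fst ((W j).ι ≫ g) σ ≫ (W j).ι = (W' j).ι ≫ pullback.fst g σ := by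
    rw [IsPullback.isoPullback_hom_fst_assoc, morphismRestrict_ι]
  have h3 : IsPullback (pullback.fst (f ∣_ W j) (pullback.fst ((W j).ι ≫ g) σ) ≫ (f ⁻¹ᵁ W j).ι)
      (pullback.snd (f ∣_ W j) (pullback.fst ((W j).ι ≫ g) σ) ≫ eI.inv) f
      ((W' j).ι ≫ pullback.fst g σ) :=
    h1.of_iso (Iso.refl _) (Iso.refl _) eI.symm (Iso.refl _) (by simp) (by simp) (by simp)
      (by simp only [Iso.refl_hom, Category.comp_id, Iso.symm_hom]; rw [← hw, Iso.inv_hom_id_assoc])
  let e2 := h2.isoIsPullback _ _ h3
  show IsProper (pullback.snd f (pullback.fst g σ) ∣_ W' j) ↔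
    IsProper (pullback.snd (f ∣_ W j) (pullback.fst ((W j).ι ≫ g) σ))
  rw [← MorphismProperty.cancel_right_of_respectsIso @IsProper
    (pullback.snd (f ∣_ W j) (pullback.fst ((W j).ι ≫ g) σ)) eI.inv,
    ← MorphismProperty.cancel_left_of_respectsIso @IsProper e2.hom
      (pullback.snd (f ∣_ W j) (pullback.fst ((W j).ι ≫ g) σ) ≫ eI.inv),
    IsPullback.isoIsPullback_hom_snd]

theorem isLocallyConstructible_pF_separated [IsLocallyNoetherian S] [CompactSpace Y] [IsSeparated f]
    [LocallyOfFiniteType f] [QuasiCompact f] [LocallyOfFiniteType g] [QuasiCompact g] :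
    IsLocallyConstructible {s : S | PF f g s} := by
  classical
  have : IsLocallyNoetherian Y := LocallyOfFiniteType.isLocallyNoetherian g
  have : AlgebraicGeometry.IsNoetherian Y := {}
  let 𝒰 := Y.affineCover.finiteSubcover
  let W : 𝒰.I₀ → Y.Opens := fun j => (𝒰.f j).opensRange
  have hW : ⨆ j, W j = ⊤ := 𝒰.iSup_opensRange
  have hA : ∀ j, IsAffine (W j : Scheme.{u}) := fun j => isAffineOpen_opensRange (𝒰.f j)
  have hset : {s : S | PF f g s} = ⋂ j, {s : S | PF (f ∣_ W j) ((W j).ι ≫ g) s} := by
    ext s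
    simp only [Set.mem_ofPred_eq, Set.mem_iInter]
    exact pF_iff_forall_restrict f g W hW s
  rw [hset]
  have : Finite 𝒰.I₀ := inferInstance
  refine IsLocallyConstructible.iInter fun j => ?_
  haveI := hA j
  haveI : LocallyOfFiniteType (f ∣_ W j) :=
    MorphismProperty.of_isPullback (isPullback_morphismRestrict f (W j)).flip ‹_›
  haveI : QuasiCompact (f ∣_ W j) :=
    MorphismProperty.of_isPullback (isPullback_morphismRestrict f (W j)).flip ‹_›
  haveI : IsSeparated (f ∣_ W j) :=
    MorphismProperty.of_isPullback (isPullback_morphismRestrict f (W j)).flip ‹_›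
  exact isLocallyConstructible_pF_affine (f ∣_ W j) ((W j).ι ≫ g)

end Chow

section Noetherian

/-- Generic constructibility over a Noetherian domain. -/
theorem exists_generic {A : Type u} [CommRing A] [IsDomain A] [IsNoetherianRing A] {X Y : Scheme.{u}}
    (f : X ⟶ Y) (g : Y ⟶ Spec (CommRingCat.of A)) [LocallyOfFiniteType f] [QuasiCompact f]
    [QuasiSeparated f] [LocallyOfFiniteType g] [QuasiCompact g] :
    ∃ a : A, a ≠ 0 ∧ IsConstructible
      ({s : PrimeSpectrum A | PF f g s} ∩ (PrimeSpectrum.basicOpen a : Set (PrimeSpectrum A))) := by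
  have : IsLocallyNoetherian Y := LocallyOfFiniteType.isLocallyNoetherian g
  have : LocallyOfFinitePresentation f :=
    Coherent.CohBC.locallyOfFinitePresentation_of_isLocallyNoetherian f
  have : LocallyOfFinitePresentation g :=
    Coherent.CohBC.locallyOfFinitePresentation_of_isLocallyNoetherian g
  have hSep : IsLocallyConstructible {s : Spec (CommRingCat.of A) | SF f g s} :=
    isLocallyConstructible_setOf_isSeparated f g
  let η : Spec (CommRingCat.of A) := (⊥ : PrimeSpectrum A)
  by_cases hη : SF f g η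
  swap
  · obtain ⟨a, ha, hC⟩ := exists_basicOpen_disjoint hSep hη
    refine ⟨a, ha, ?_⟩
    convert IsConstructible.empty using 1
    exact Set.eq_empty_of_forall_notMem fun s hs => hs.2 (hC s hs.1.sF)
  -- separatedness spreads out
  let G := pullback.snd f f ≫ f
  have : LocallyOfFinitePresentation (pullback.diagonal f) := by
    have : LocallyOfFinitePresentation (pullback.diagonal f ≫ pullback.fst f f) := by
      rw [pullback.diagonal_fst]
      infer_instance
    exact Limit.locallyOfFinitePresentation_of_comp _ (pullback.fst f f)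
  let R : Set ↥(pullback f f) := Set.range (pullback.diagonal f)
  have hR : IsLocallyConstructible R := by
    show IsLocallyConstructible (Set.range (pullback.diagonal f))
    rw [← Set.image_univ]
    exact (pullback.diagonal f).isLocallyConstructible_image IsLocallyConstructible.univ
  have : IsLocallyNoetherian (pullback f f) := LocallyOfFiniteType.isLocallyNoetherian (pullback.snd f f ≫ f)
  have : LocallyOfFinitePresentation (G ≫ g) :=
    Coherent.CohBC.locallyOfFinitePresentation_of_isLocallyNoetherian (G ≫ g)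
  have : CompactSpace ↥(pullback f f) := QuasiCompact.compactSpace_of_compactSpace (G ≫ g)
  have : AlgebraicGeometry.IsNoetherian (pullback f f) := {}
  have hZ : IsLocallyConstructible (closure R \ R) :=
    (by
      have hretro : IsRetrocompact (closure R)ᶜ := fun _ _ _ => TopologicalSpace.NoetherianSpace.isCompact _
      have h : IsConstructible (closure R)ᶜ := hretro.isConstructible isClosed_closure.isOpen_compl
      simpa using h.compl.isLocallyConstructible : IsLocallyConstructible (closure R)).inter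
      (isLocallyConstructible_compl hR)
  have hC : IsLocallyConstructible ((G ≫ g) '' (closure R \ R)) := (G ≫ g).isLocallyConstructible_image hZ
  have hηC : η ∉ (G ≫ g) '' (closure R \ R) := by
    rintro ⟨z, ⟨hz, hzR⟩, hzη⟩
    obtain ⟨y, hy, hsp⟩ := H8ProCons.exists_specializes_of_mem_closure (H8ProCons.isClosed_cons_of_isConstructible hR.isConstructible) hz
    have hyη : (G ≫ g) y = η := by
      have h1 := hsp.map (G ≫ g).continuous
      rw [hzη] at h1
      exact (le_bot_iff (α := PrimeSpectrum A)).1 ((PrimeSpectrum.le_iff_specializes _ _).2 h1)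
    have hcl : IsClosed (Subtype.val ⁻¹' R : Set ↥((G ≫ g) ⁻¹' {η})) := by
      have h := (show IsSeparated (pullback.snd f (pullback.fst g _)) from hη)
      rw [AlgebraicGeometry.isSeparated_iff,
        show IsClosedImmersion (pullback.diagonal (pullback.snd f (pullback.fst g _))) ↔ _ from
          Limit.diagonal_pullback_iff (P := @IsClosedImmersion.{u}) f (pullback.fst g _),
        IsClosedImmersion.iff_isPreimmersion, Scheme.Pullback.range_snd] at h
      let ι := pullback.fst G (pullback.fst g ((Spec (CommRingCat.of A)).fromSpecResidueField η))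
      have hι : IsEmbedding ι := by
        have : IsPreimmersion (pullback.fst g ((Spec (CommRingCat.of A)).fromSpecResidueField η)) :=
          MorphismProperty.pullback_fst _ _ inferInstance
        have : IsPreimmersion ι := MorphismProperty.pullback_fst _ _ inferInstance
        exact ι.isEmbedding
      let e := hι.toHomeomorph.trans (Homeomorph.setCongr (range_fst_fibre G g η))
      rw [← e.isClosed_preimage]
      exact h.2
    have hmem : (⟨z, hzη⟩ : ↥((G ≫ g) ⁻¹' {η})) ∈ Subtype.val ⁻¹' R := by
      rw [← hcl.closure_eq, closure_subtype]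
      exact (hsp.mem_closed isClosed_closure (subset_closure ⟨⟨y, hyη⟩, hy, rfl⟩))
    exact hzR hmem
  obtain ⟨a, ha, haC⟩ := exists_basicOpen_disjoint hC hηC
  refine ⟨a, ha, ?_⟩
  let V : (Spec (CommRingCat.of A)).Opens := PrimeSpectrum.basicOpen a
  let gV := g ∣_ V
  let fV := f ∣_ (g ⁻¹ᵁ V)
  haveI : LocallyOfFiniteType fV := MorphismProperty.of_isPullback (isPullback_morphismRestrict f _).flip ‹_›
  haveI : QuasiCompact fV := MorphismProperty.of_isPullback (isPullback_morphismRestrict f _).flip ‹_›
  haveI : LocallyOfFiniteType gV := MorphismProperty.of_isPullback (isPullback_morphismRestrict g _).flip ‹_›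
  haveI : QuasiCompact gV := MorphismProperty.of_isPullback (isPullback_morphismRestrict g _).flip ‹_›
  haveI : CompactSpace (V : Scheme.{u}) := isCompact_iff_compactSpace.1 (PrimeSpectrum.isCompact_basicOpen a)
  haveI : CompactSpace (g ⁻¹ᵁ V : Scheme.{u}) := QuasiCompact.compactSpace_of_compactSpace gV
  haveI : IsSeparated fV := by
    refine isSeparated_of_forall_range _ ?_
    let u : pullback fV fV ⟶ pullback f f :=
      pullback.map fV fV f f (f ⁻¹ᵁ (g ⁻¹ᵁ V)).ι (f ⁻¹ᵁ (g ⁻¹ᵁ V)).ι (g ⁻¹ᵁ V).ι
        (morphismRestrict_ι _ _) (morphismRestrict_ι _ _)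
    have hu : Function.Injective u := u.isOpenEmbedding.injective
    have hdu : pullback.diagonal fV ≫ u = (f ⁻¹ᵁ (g ⁻¹ᵁ V)).ι ≫ pullback.diagonal f := by
      apply pullback.hom_ext <;> simp [u]
    have hrange : Set.range (pullback.diagonal fV) = u ⁻¹' closure R := by
      apply Set.Subset.antisymm
      · rintro _ ⟨x, rfl⟩
        refine subset_closure ⟨(f ⁻¹ᵁ (g ⁻¹ᵁ V)).ι x, ?_⟩
        rw [← Scheme.Hom.comp_apply, ← hdu]
        rfl
      · intro z hz
        have hzV : (G ≫ g) (u z) ∈ V := by
          have : u ≫ pullback.snd f f = pullback.snd fV fV ≫ (f ⁻¹ᵁ (g ⁻¹ᵁ V)).ι := pullback.lift_snd _ _ _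
          show g (f (pullback.snd f f (u z))) ∈ V
          rw [← Scheme.Hom.comp_apply u (pullback.snd f f), this]
          exact (pullback.snd fV fV z).2
        have hzR : u z ∈ R := by
          by_contra hn
          exact hzV (haC _ ⟨u z, ⟨hz, hn⟩, rfl⟩)
        obtain ⟨x, hx⟩ := hzR
        have hxV : f x ∈ g ⁻¹ᵁ V := by
          have h1 : pullback.snd f f (pullback.diagonal f x) = x := by
            rw [← Scheme.Hom.comp_apply, pullback.diagonal_snd]
            rfl
          show g (f x) ∈ V
          rw [← h1, hx]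
          exact hzV
        refine ⟨⟨x, hxV⟩, hu ?_⟩
        rw [← Scheme.Hom.comp_apply, hdu, Scheme.Hom.comp_apply]
        exact hx
    rw [hrange]
    exact isClosed_closure.preimage u.continuous
  have hVimg : V.ι '' {s : V.toScheme | PF fV gV s} =
      {s : PrimeSpectrum A | PF f g s} ∩ (PrimeSpectrum.basicOpen a : Set (PrimeSpectrum A)) := by
    have key := pF_baseChange (isPullback_morphismRestrict g V).flip
      (isPullback_morphismRestrict f (g ⁻¹ᵁ V)).flip
    ext s
    constructor
    · rintro ⟨t, ht, rfl⟩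
      exact ⟨(key t).1 ht, t.2⟩
    · rintro ⟨hs, hsV⟩
      exact ⟨⟨s, hsV⟩, (key ⟨s, hsV⟩).2 hs, rfl⟩
  rw [← hVimg]
  haveI : QuasiCompact V.ι := inferInstance
  haveI : LocallyOfFinitePresentation V.ι := inferInstance
  exact (V.ι.isLocallyConstructible_image (isLocallyConstructible_pF_separated fV gV)).isConstructible

/-- Over a Noetherian affine base. -/
theorem isConstructible_noetherian {A : Type u} [CommRing A] [IsNoetherianRing A] {X Y : Scheme.{u}}
    (f : X ⟶ Y) (g : Y ⟶ Spec (CommRingCat.of A)) [LocallyOfFiniteType f] [QuasiCompact f]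
    [QuasiSeparated f] [LocallyOfFiniteType g] [QuasiCompact g] :
    IsConstructible {s : PrimeSpectrum A | PF f g s} := by
  refine isConstructible_of_fibrewise (A := A) (B := A) _ fun p => ?_
  let π := Ideal.Quotient.mk p.asIdeal
  let r : Spec (CommRingCat.of (A ⧸ p.asIdeal)) ⟶ Spec (CommRingCat.of A) := Spec.map (CommRingCat.ofHom π)
  let g₁ := pullback.snd g r
  let f₁ := pullback.snd f (pullback.fst g r)
  haveI : LocallyOfFiniteType g₁ := MorphismProperty.pullback_snd _ _ ‹_›
  haveI : QuasiCompact g₁ := MorphismProperty.pullback_snd _ _ ‹_›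
  haveI : LocallyOfFiniteType f₁ := MorphismProperty.pullback_snd _ _ ‹_›
  haveI : QuasiCompact f₁ := MorphismProperty.pullback_snd _ _ ‹_›
  haveI : QuasiSeparated f₁ := MorphismProperty.pullback_snd _ _ ‹_›
  obtain ⟨a, ha, hC⟩ := exists_generic f₁ g₁
  obtain ⟨a, rfl⟩ := Ideal.Quotient.mk_surjective a
  refine ⟨a, fun h => ha (Ideal.Quotient.eq_zero_iff_mem.2 h), ?_⟩
  have key := pF_baseChange (IsPullback.of_hasPullback g r) (IsPullback.of_hasPullback f (pullback.fst g r))
  have heq : {s : PrimeSpectrum A | PF f g s} ∩ PrimeSpectrum.comap (algebraMap A A) ⁻¹'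
      (closure {p} ∩ (PrimeSpectrum.basicOpen a : Set (PrimeSpectrum A))) =
      PrimeSpectrum.comap π '' ({s | PF f₁ g₁ s} ∩
        (PrimeSpectrum.basicOpen (π a) : Set (PrimeSpectrum (A ⧸ p.asIdeal)))) := by
    have hid : ∀ s : PrimeSpectrum A, PrimeSpectrum.comap (algebraMap A A) s = s := fun s =>
      PrimeSpectrum.ext (Ideal.comap_id _)
    ext s
    constructor
    · rintro ⟨hs, hsp⟩
      rw [Set.mem_preimage, hid] at hsp
      obtain ⟨hsp, hsa⟩ := hsp
      have : s ∈ Set.range (PrimeSpectrum.comap π) := by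
        rw [range_comap_of_surjective _ π Ideal.Quotient.mk_surjective, Ideal.mk_ker]
        rwa [← PrimeSpectrum.zeroLocus_vanishingIdeal_eq_closure, PrimeSpectrum.vanishingIdeal_singleton] at hsp
      obtain ⟨t, rfl⟩ := this
      exact ⟨t, ⟨(key t).2 hs, hsa⟩, rfl⟩
    · rintro ⟨t, ⟨ht, hta⟩, rfl⟩
      refine ⟨(key t).1 ht, ?_⟩
      rw [Set.mem_preimage, hid]
      refine ⟨?_, hta⟩
      rw [← specializes_iff_mem_closure, ← PrimeSpectrum.le_iff_specializes]
      intro x hx
      show π x ∈ t.asIdeal
      rw [Ideal.Quotient.eq_zero_iff_mem.2 hx]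
      exact zero_mem _
  rw [heq]
  exact hC.image_of_isClosedEmbedding
    (PrimeSpectrum.isClosedEmbedding_comap_of_surjective _ π Ideal.Quotient.mk_surjective)
    (fun _ _ _ => TopologicalSpace.NoetherianSpace.isCompact _)

end Noetherian

/-- **EGA IV 9.6.1 (xi)**, affine base. -/
theorem isConstructible_pF_spec {A : Type u} [CommRing A] {X Y : Scheme.{u}} (f : X ⟶ Y)
    (g : Y ⟶ Spec (CommRingCat.of A)) [LocallyOfFinitePresentation f] [QuasiCompact f] [QuasiSeparated f]
    [LocallyOfFinitePresentation g] [QuasiCompact g] [QuasiSeparated g] :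
    IsConstructible {s : PrimeSpectrum A | PF f g s} := by
  obtain ⟨k, Y₀, g₀, qY, hlfp, hqc, hqs, hY⟩ := H8Lim.exists_stage_spec g
  haveI : CompactSpace Y₀ := QuasiCompact.compactSpace_of_compactSpace g₀
  haveI : QuasiSeparatedSpace Y₀ := quasiSeparatedSpace_of_quasiSeparated g₀
  let D' := H8Lim.stage (H8Lim.fgSpecDiagram A) g₀
  let c' : Cone D' := H8Lim.stageCone g₀ (H8Lim.fgSpecCone A) qY g hY
  have hc' : IsLimit c' := H8Lim.isLimitStageCone g₀ qY g hY (H8Lim.isLimitFgSpecCone A)
  obtain ⟨j, X₀, f₀, qX, hflfp, hfqc, hfqs, hX⟩ :=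
    @H8Lim.exists_stage_scheme _ _ D' c' _ (fun _ ↦ inferInstance) hc'
      (fun j ↦ H8Lim.compactSpace_stage _ g₀ j) (fun j ↦ H8Lim.quasiSeparatedSpace_stage _ g₀ j) X f
      ‹_› ‹_› ‹_›
  have hpb := H8Lim.isPullback_stage (H8Lim.fgSpecDiagram A) g₀ j
  let g₁ := H8Lim.stageSnd (H8Lim.fgSpecDiagram A) g₀ j
  have hY₁ : IsPullback (c'.π.app j) g g₁ ((H8Lim.fgSpecCone A).π.app j.left) := by
    refine IsPullback.of_right ?_ (H8Lim.stageProj_snd g₀ (H8Lim.fgSpecCone A) qY g hY j) hpb
    rw [show c'.π.app j = H8Lim.stageProj g₀ (H8Lim.fgSpecCone A) qY g hY j from rfl,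
      H8Lim.stageProj_fst, (H8Lim.fgSpecCone A).w]
    exact hY
  haveI : LocallyOfFiniteType g₁ := by
    have : LocallyOfFinitePresentation g₁ :=
      MorphismProperty.of_isPullback (P := @LocallyOfFinitePresentation.{u}) hpb hlfp
    infer_instance
  haveI : QuasiCompact g₁ := MorphismProperty.of_isPullback (P := @QuasiCompact.{u}) hpb hqc
  have hC := isConstructible_noetherian (A := H8Lim.fgSub A j.left.unop) f₀ g₁
  have hkey : {s : PrimeSpectrum A | PF f g s} =
      PrimeSpectrum.comap (H8Lim.fgSub A j.left.unop).val.toRingHom ⁻¹' {s | PF f₀ g₁ s} :=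
    Set.ext fun s => pF_baseChange hY₁ hX s
  rw [hkey]
  obtain ⟨T, hT⟩ := PrimeSpectrum.exists_constructibleSetData_iff.2 hC
  rw [← hT, ← PrimeSpectrum.ConstructibleSetData.toSet_map]
  exact PrimeSpectrum.ConstructibleSetData.isConstructible_toSet _

/-- **EGA IV 9.6.1 (xi)**. -/
theorem isLocallyConstructible_setOf_isProper {X Y S : Scheme.{u}} (f : X ⟶ Y) (g : Y ⟶ S)
    [LocallyOfFinitePresentation f] [QuasiCompact f] [QuasiSeparated f]
    [LocallyOfFinitePresentation g] [QuasiCompact g] [QuasiSeparated g] :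
    IsLocallyConstructible
      {s : S | IsProper (pullback.snd f (pullback.fst g (S.fromSpecResidueField s)))} := by
  refine isLocallyConstructible_of_forall_fromSpec fun x => ?_
  obtain ⟨V, hV, hxV, -⟩ := exists_isAffineOpen_mem_and_subset (x := x) (U := ⊤) trivial
  refine ⟨V, hV, hxV, ?_⟩
  let r := hV.fromSpec
  let g₁ := pullback.snd g r
  let f₁ := pullback.snd f (pullback.fst g r)
  haveI : LocallyOfFinitePresentation g₁ := MorphismProperty.pullback_snd _ _ ‹_›
  haveI : QuasiCompact g₁ := MorphismProperty.pullback_snd _ _ ‹_›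
  haveI : QuasiSeparated g₁ := MorphismProperty.pullback_snd _ _ ‹_›
  haveI : LocallyOfFinitePresentation f₁ := MorphismProperty.pullback_snd _ _ ‹_›
  haveI : QuasiCompact f₁ := MorphismProperty.pullback_snd _ _ ‹_›
  haveI : QuasiSeparated f₁ := MorphismProperty.pullback_snd _ _ ‹_›
  have e : hV.fromSpec ⁻¹' {s : S | IsProper (pullback.snd f (pullback.fst g (S.fromSpecResidueField s)))} =
      {s : PrimeSpectrum Γ(S, V) | PF f₁ g₁ s} := Set.ext fun s =>
    (pF_baseChange (IsPullback.of_hasPullback g r) (IsPullback.of_hasPullback f (pullback.fst g r)) s).symm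
  rw [e]
  exact isConstructible_pF_spec f₁ g₁

theorem isLocallyConstructible_setOf_isFinite {X Y S : Scheme.{u}} (f : X ⟶ Y) (g : Y ⟶ S)
    [LocallyOfFinitePresentation f] [QuasiCompact f] [QuasiSeparated f]
    [LocallyOfFinitePresentation g] [QuasiCompact g] [QuasiSeparated g] :
    IsLocallyConstructible
      {s : S | IsFinite (pullback.snd f (pullback.fst g (S.fromSpecResidueField s)))} := by
  convert (isLocallyConstructible_setOf_isProper f g).inter
    (isLocallyConstructible_setOf_locallyQuasiFinite f g) using 1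
  ext s
  exact IsFinite.iff_isProper_and_locallyQuasiFinite ..

theorem isLocallyConstructible_setOf_isClosedImmersion {X Y S : Scheme.{u}} (f : X ⟶ Y) (g : Y ⟶ S)
    [LocallyOfFinitePresentation f] [QuasiCompact f] [QuasiSeparated f]
    [LocallyOfFinitePresentation g] [QuasiCompact g] [QuasiSeparated g] :
    IsLocallyConstructible
      {s : S | IsClosedImmersion (pullback.snd f (pullback.fst g (S.fromSpecResidueField s)))} := by
  convert (isLocallyConstructible_setOf_isProper f g).inter
    (isLocallyConstructible_setOf_mono f g) using 1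
  ext s
  exact IsClosedImmersion.iff_isProper_and_mono ..

end Groth.Agent.EGA43.Cons.FibreProper
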